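import Mathlib
import Cfsg.Agent.Lib.Sporadic.MultTwoMono.Pack0
import Cfsg.Agent.Lib.Sporadic.MultTwoMono.Pack1
import Cfsg.Agent.Lib.Sporadic.MultTwoMono.Pack2
import Cfsg.Agent.Lib.Sporadic.MultTwoMono.Pack3
import Cfsg.Agent.Lib.Sporadic.MultTwoMono.Pack4
import Cfsg.Agent.Lib.Sporadic.MultTwoMono.Pack5
import Cfsg.Agent.Lib.Sporadic.MultTwoMono.Data
import Cfsg.Agent.Lib.Schur.CheckParts

/-!
# Edges of table 0
-/

set_option autoImplicit false
set_option maxRecDepth 100000
set_option maxHeartbeats 0
set_option Elab.async false

noncomputable section

namespace CfsgLib.Sporadic.MultTwoMono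

open CfsgLib.Schur.Cert CfsgLib.Sporadic

theorem row0_0 : allFrom (shapeRow rows level0 [level1, level2, level3, level4, level5]) 0 10 = true := by decide +kernel

theorem row0_10 : allFrom (shapeRow rows level0 [level1, level2, level3, level4, level5]) 10 20 = true := by decide +kernel

theorem row0_20 : allFrom (shapeRow rows level0 [level1, level2, level3, level4, level5]) 20 30 = true := by decide +kernel

theorem row0_30 : allFrom (shapeRow rows level0 [level1, level2, level3, level4, level5]) 30 40 = true := by decide +kernel

theorem row0_40 : allFrom (shapeRow rows level0 [level1, level2, level3, level4, level5]) 40 50 = true := by decide +kernel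

theorem row0_50 : allFrom (shapeRow rows level0 [level1, level2, level3, level4, level5]) 50 60 = true := by decide +kernel

theorem row0_60 : allFrom (shapeRow rows level0 [level1, level2, level3, level4, level5]) 60 70 = true := by decide +kernel

theorem row0_70 : allFrom (shapeRow rows level0 [level1, level2, level3, level4, level5]) 70 80 = true := by decide +kernel

theorem row0_80 : allFrom (shapeRow rows level0 [level1, level2, level3, level4, level5]) 80 88 = true := by decide +kernel

end CfsgLib.Sporadic.MultTwoMono
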