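import Mathlib
import Cfsg.Agent.Lib.Sporadic.MultTwoMono.Pack0
import Cfsg.Agent.Lib.Sporadic.MultTwoMono.Pack1
import Cfsg.Agent.Lib.Sporadic.MultTwoMono.Pack2
import Cfsg.Agent.Lib.Sporadic.MultTwoMono.Pack3
import Cfsg.Agent.Lib.Sporadic.MultTwoMono.Pack4
import Cfsg.Agent.Lib.Sporadic.MultTwoMono.Pack5
import Cfsg.Agent.Lib.Sporadic.MultTwoMono.Data
import Cfsg.Agent.Lib.Schur.CheckParts

/-!
# Deductions of table 1
-/

set_option autoImplicit false
set_option maxRecDepth 100000
set_option maxHeartbeats 0
set_option Elab.async false

noncomputable section

namespace CfsgLib.Sporadic.MultTwoMono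

open CfsgLib.Schur.Cert CfsgLib.Sporadic

theorem ded1_0 : allFrom (dedAt level1 pack1 [level2, level3, level4, level5] [pack2, pack3, pack4, pack5]) 0 1 = true := by decide +kernel

theorem ded1_1 : allFrom (dedAt level1 pack1 [level2, level3, level4, level5] [pack2, pack3, pack4, pack5]) 1 2 = true := by decide +kernel

theorem ded1_2 : allFrom (dedAt level1 pack1 [level2, level3, level4, level5] [pack2, pack3, pack4, pack5]) 2 3 = true := by decide +kernel

theorem ded1_3 : allFrom (dedAt level1 pack1 [level2, level3, level4, level5] [pack2, pack3, pack4, pack5]) 3 4 = true := by decide +kernel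

theorem ded1_4 : allFrom (dedAt level1 pack1 [level2, level3, level4, level5] [pack2, pack3, pack4, pack5]) 4 5 = true := by decide +kernel

theorem ded1_5 : allFrom (dedAt level1 pack1 [level2, level3, level4, level5] [pack2, pack3, pack4, pack5]) 5 6 = true := by decide +kernel

theorem ded1_6 : allFrom (dedAt level1 pack1 [level2, level3, level4, level5] [pack2, pack3, pack4, pack5]) 6 7 = true := by decide +kernel

theorem ded1_7 : allFrom (dedAt level1 pack1 [level2, level3, level4, level5] [pack2, pack3, pack4, pack5]) 7 8 = true := by decide +kernel

theorem ded1_8 : allFrom (dedAt level1 pack1 [level2, level3, level4, level5] [pack2, pack3, pack4, pack5]) 8 9 = true := by decide +kernel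

theorem ded1_9 : allFrom (dedAt level1 pack1 [level2, level3, level4, level5] [pack2, pack3, pack4, pack5]) 9 10 = true := by decide +kernel

theorem ded1_10 : allFrom (dedAt level1 pack1 [level2, level3, level4, level5] [pack2, pack3, pack4, pack5]) 10 11 = true := by decide +kernel

theorem ded1_11 : allFrom (dedAt level1 pack1 [level2, level3, level4, level5] [pack2, pack3, pack4, pack5]) 11 12 = true := by decide +kernel

theorem ded1_12 : allFrom (dedAt level1 pack1 [level2, level3, level4, level5] [pack2, pack3, pack4, pack5]) 12 13 = true := by decide +kernel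

theorem ded1_13 : allFrom (dedAt level1 pack1 [level2, level3, level4, level5] [pack2, pack3, pack4, pack5]) 13 14 = true := by decide +kernel

theorem ded1_14 : allFrom (dedAt level1 pack1 [level2, level3, level4, level5] [pack2, pack3, pack4, pack5]) 14 15 = true := by decide +kernel

theorem ded1_15 : allFrom (dedAt level1 pack1 [level2, level3, level4, level5] [pack2, pack3, pack4, pack5]) 15 16 = true := by decide +kernel

theorem ded1_16 : allFrom (dedAt level1 pack1 [level2, level3, level4, level5] [pack2, pack3, pack4, pack5]) 16 17 = true := by decide +kernel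

theorem ded1_17 : allFrom (dedAt level1 pack1 [level2, level3, level4, level5] [pack2, pack3, pack4, pack5]) 17 18 = true := by decide +kernel

theorem ded1_18 : allFrom (dedAt level1 pack1 [level2, level3, level4, level5] [pack2, pack3, pack4, pack5]) 18 19 = true := by decide +kernel

theorem ded1_19 : allFrom (dedAt level1 pack1 [level2, level3, level4, level5] [pack2, pack3, pack4, pack5]) 19 20 = true := by decide +kernel

theorem ded1_20 : allFrom (dedAt level1 pack1 [level2, level3, level4, level5] [pack2, pack3, pack4, pack5]) 20 21 = true := by decide +kernel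

theorem ded1_21 : allFrom (dedAt level1 pack1 [level2, level3, level4, level5] [pack2, pack3, pack4, pack5]) 21 22 = true := by decide +kernel

theorem ded1_22 : allFrom (dedAt level1 pack1 [level2, level3, level4, level5] [pack2, pack3, pack4, pack5]) 22 23 = true := by decide +kernel

theorem ded1_23 : allFrom (dedAt level1 pack1 [level2, level3, level4, level5] [pack2, pack3, pack4, pack5]) 23 24 = true := by decide +kernel

theorem ded1_24 : allFrom (dedAt level1 pack1 [level2, level3, level4, level5] [pack2, pack3, pack4, pack5]) 24 25 = true := by decide +kernel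

theorem ded1_25 : allFrom (dedAt level1 pack1 [level2, level3, level4, level5] [pack2, pack3, pack4, pack5]) 25 26 = true := by decide +kernel

theorem ded1_26 : allFrom (dedAt level1 pack1 [level2, level3, level4, level5] [pack2, pack3, pack4, pack5]) 26 27 = true := by decide +kernel

theorem ded1_27 : allFrom (dedAt level1 pack1 [level2, level3, level4, level5] [pack2, pack3, pack4, pack5]) 27 28 = true := by decide +kernel

theorem ded1_28 : allFrom (dedAt level1 pack1 [level2, level3, level4, level5] [pack2, pack3, pack4, pack5]) 28 29 = true := by decide +kernel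

theorem ded1_29 : allFrom (dedAt level1 pack1 [level2, level3, level4, level5] [pack2, pack3, pack4, pack5]) 29 30 = true := by decide +kernel

end CfsgLib.Sporadic.MultTwoMono
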