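import Mathlib
import Cfsg.Agent.Lib.Sporadic.MultTwoMono.Pack0
import Cfsg.Agent.Lib.Sporadic.MultTwoMono.Pack1
import Cfsg.Agent.Lib.Sporadic.MultTwoMono.Pack2
import Cfsg.Agent.Lib.Sporadic.MultTwoMono.Pack3
import Cfsg.Agent.Lib.Sporadic.MultTwoMono.Pack4
import Cfsg.Agent.Lib.Sporadic.MultTwoMono.Pack5
import Cfsg.Agent.Lib.Sporadic.MultTwoMono.Data
import Cfsg.Agent.Lib.Schur.CheckParts

/-!
# Deductions of table 1
-/

set_option autoImplicit false
set_option maxRecDepth 100000
set_option maxHeartbeats 0
set_option Elab.async false

noncomputable section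

namespace CfsgLib.Sporadic.MultTwoMono

open CfsgLib.Schur.Cert CfsgLib.Sporadic

theorem ded1_30 : allFrom (dedAt level1 pack1 [level2, level3, level4, level5] [pack2, pack3, pack4, pack5]) 30 31 = true := by decide +kernel

theorem ded1_31 : allFrom (dedAt level1 pack1 [level2, level3, level4, level5] [pack2, pack3, pack4, pack5]) 31 32 = true := by decide +kernel

theorem ded1_32 : allFrom (dedAt level1 pack1 [level2, level3, level4, level5] [pack2, pack3, pack4, pack5]) 32 33 = true := by decide +kernel

theorem ded1_33 : allFrom (dedAt level1 pack1 [level2, level3, level4, level5] [pack2, pack3, pack4, pack5]) 33 34 = true := by decide +kernel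

theorem ded1_34 : allFrom (dedAt level1 pack1 [level2, level3, level4, level5] [pack2, pack3, pack4, pack5]) 34 35 = true := by decide +kernel

theorem ded1_35 : allFrom (dedAt level1 pack1 [level2, level3, level4, level5] [pack2, pack3, pack4, pack5]) 35 36 = true := by decide +kernel

theorem ded1_36 : allFrom (dedAt level1 pack1 [level2, level3, level4, level5] [pack2, pack3, pack4, pack5]) 36 37 = true := by decide +kernel

theorem ded1_37 : allFrom (dedAt level1 pack1 [level2, level3, level4, level5] [pack2, pack3, pack4, pack5]) 37 38 = true := by decide +kernel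

theorem ded1_38 : allFrom (dedAt level1 pack1 [level2, level3, level4, level5] [pack2, pack3, pack4, pack5]) 38 39 = true := by decide +kernel

theorem ded1_39 : allFrom (dedAt level1 pack1 [level2, level3, level4, level5] [pack2, pack3, pack4, pack5]) 39 40 = true := by decide +kernel

theorem ded1_40 : allFrom (dedAt level1 pack1 [level2, level3, level4, level5] [pack2, pack3, pack4, pack5]) 40 41 = true := by decide +kernel

theorem ded1_41 : allFrom (dedAt level1 pack1 [level2, level3, level4, level5] [pack2, pack3, pack4, pack5]) 41 42 = true := by decide +kernel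

theorem ded1_42 : allFrom (dedAt level1 pack1 [level2, level3, level4, level5] [pack2, pack3, pack4, pack5]) 42 43 = true := by decide +kernel

end CfsgLib.Sporadic.MultTwoMono
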