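import Mathlib
import Cfsg.Agent.Lib.Sporadic.MultTwoMono.Pack0
import Cfsg.Agent.Lib.Sporadic.MultTwoMono.Pack1
import Cfsg.Agent.Lib.Sporadic.MultTwoMono.Pack2
import Cfsg.Agent.Lib.Sporadic.MultTwoMono.Pack3
import Cfsg.Agent.Lib.Sporadic.MultTwoMono.Pack4
import Cfsg.Agent.Lib.Sporadic.MultTwoMono.Pack5
import Cfsg.Agent.Lib.Sporadic.MultTwoMono.Data
import Cfsg.Agent.Lib.Schur.CheckParts

/-!
# Equations of table 2
-/

set_option autoImplicit false
set_option maxRecDepth 100000
set_option maxHeartbeats 0
set_option Elab.async false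

noncomputable section

namespace CfsgLib.Sporadic.MultTwoMono

open CfsgLib.Schur.Cert CfsgLib.Sporadic

theorem eqn2_0 : allFrom (eqnAt level2 pack2 [level3, level4, level5] [pack3, pack4, pack5]) 0 3 = true := by decide +kernel

theorem eqn2_3 : allFrom (eqnAt level2 pack2 [level3, level4, level5] [pack3, pack4, pack5]) 3 6 = true := by decide +kernel

theorem eqn2_6 : allFrom (eqnAt level2 pack2 [level3, level4, level5] [pack3, pack4, pack5]) 6 9 = true := by decide +kernel

theorem eqn2_9 : allFrom (eqnAt level2 pack2 [level3, level4, level5] [pack3, pack4, pack5]) 9 12 = true := by decide +kernel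

theorem eqn2_12 : allFrom (eqnAt level2 pack2 [level3, level4, level5] [pack3, pack4, pack5]) 12 15 = true := by decide +kernel

theorem eqn2_15 : allFrom (eqnAt level2 pack2 [level3, level4, level5] [pack3, pack4, pack5]) 15 18 = true := by decide +kernel

theorem eqn2_18 : allFrom (eqnAt level2 pack2 [level3, level4, level5] [pack3, pack4, pack5]) 18 21 = true := by decide +kernel

theorem eqn2_21 : allFrom (eqnAt level2 pack2 [level3, level4, level5] [pack3, pack4, pack5]) 21 24 = true := by decide +kernel

theorem eqn2_24 : allFrom (eqnAt level2 pack2 [level3, level4, level5] [pack3, pack4, pack5]) 24 27 = true := by decide +kernel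

end CfsgLib.Sporadic.MultTwoMono
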