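import Mathlib
import Cfsg.Agent.Lib.Sporadic.MultTwoMono.Pack0
import Cfsg.Agent.Lib.Sporadic.MultTwoMono.Pack1
import Cfsg.Agent.Lib.Sporadic.MultTwoMono.Pack2
import Cfsg.Agent.Lib.Sporadic.MultTwoMono.Pack3
import Cfsg.Agent.Lib.Sporadic.MultTwoMono.Pack4
import Cfsg.Agent.Lib.Sporadic.MultTwoMono.Pack5
import Cfsg.Agent.Lib.Sporadic.MultTwoMono.Data
import Cfsg.Agent.Lib.Schur.CheckParts

/-!
# Shape and permutations of table 3
-/

set_option autoImplicit false
set_option maxRecDepth 100000
set_option maxHeartbeats 0
set_option Elab.async false

noncomputable section

namespace CfsgLib.Sporadic.MultTwoMono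

open CfsgLib.Schur.Cert CfsgLib.Sporadic

theorem head3 : shapeHead level3 [level4, level5] (nextWords (nextWords (nextWords (top) level0) level1) level2) = true := by decide +kernel

theorem srel3_0 : allFrom (shapeRel (chainRels chain top) level3 (nextWords (nextWords (nextWords (top) level0) level1) level2)) 0 2 = true := by decide +kernel

theorem srel3_2 : allFrom (shapeRel (chainRels chain top) level3 (nextWords (nextWords (nextWords (top) level0) level1) level2)) 2 4 = true := by decide +kernel

theorem srel3_4 : allFrom (shapeRel (chainRels chain top) level3 (nextWords (nextWords (nextWords (top) level0) level1) level2)) 4 6 = true := by decide +kernel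

theorem srel3_6 : allFrom (shapeRel (chainRels chain top) level3 (nextWords (nextWords (nextWords (top) level0) level1) level2)) 6 8 = true := by decide +kernel

theorem srel3_8 : allFrom (shapeRel (chainRels chain top) level3 (nextWords (nextWords (nextWords (top) level0) level1) level2)) 8 10 = true := by decide +kernel

theorem srel3_10 : allFrom (shapeRel (chainRels chain top) level3 (nextWords (nextWords (nextWords (top) level0) level1) level2)) 10 12 = true := by decide +kernel

theorem srel3_12 : allFrom (shapeRel (chainRels chain top) level3 (nextWords (nextWords (nextWords (top) level0) level1) level2)) 12 14 = true := by decide +kernel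

theorem srel3_14 : allFrom (shapeRel (chainRels chain top) level3 (nextWords (nextWords (nextWords (top) level0) level1) level2)) 14 16 = true := by decide +kernel

theorem srel3_16 : allFrom (shapeRel (chainRels chain top) level3 (nextWords (nextWords (nextWords (top) level0) level1) level2)) 16 18 = true := by decide +kernel

theorem srel3_18 : allFrom (shapeRel (chainRels chain top) level3 (nextWords (nextWords (nextWords (top) level0) level1) level2)) 18 20 = true := by decide +kernel

theorem permsGen3 : permsGen 88 level3 [level4, level5] = true := by decide +kernel

theorem rel3_0 : allFrom (permsRel 88 level3) 0 9 = true := by decide +kernel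

theorem rel3_9 : allFrom (permsRel 88 level3) 9 18 = true := by decide +kernel

theorem rel3_18 : allFrom (permsRel 88 level3) 18 20 = true := by decide +kernel

theorem path3_0 : allFrom (permsPath level3) 0 6 = true := by decide +kernel

theorem permsKey3 : permsKey level3 [level4, level5] = true := by decide +kernel

end CfsgLib.Sporadic.MultTwoMono
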