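import Mathlib
import Cfsg.Agent.Lib.Sporadic.MultTwoMono.Pack0
import Cfsg.Agent.Lib.Sporadic.MultTwoMono.Pack1
import Cfsg.Agent.Lib.Sporadic.MultTwoMono.Pack2
import Cfsg.Agent.Lib.Sporadic.MultTwoMono.Pack3
import Cfsg.Agent.Lib.Sporadic.MultTwoMono.Pack4
import Cfsg.Agent.Lib.Sporadic.MultTwoMono.Pack5
import Cfsg.Agent.Lib.Sporadic.MultTwoMono.Data
import Cfsg.Agent.Lib.Schur.CheckParts

/-!
# Deductions of table 4
-/

set_option autoImplicit false
set_option maxRecDepth 100000
set_option maxHeartbeats 0
set_option Elab.async false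

noncomputable section

namespace CfsgLib.Sporadic.MultTwoMono

open CfsgLib.Schur.Cert CfsgLib.Sporadic

theorem ded4_0 : allFrom (dedAt level4 pack4 [level5] [pack5]) 0 60 = true := by decide +kernel

theorem ded4_60 : allFrom (dedAt level4 pack4 [level5] [pack5]) 60 120 = true := by decide +kernel

theorem ded4_120 : allFrom (dedAt level4 pack4 [level5] [pack5]) 120 129 = true := by decide +kernel

end CfsgLib.Sporadic.MultTwoMono
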