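import Mathlib
import Cfsg.Agent.Lib.Sporadic.MultTwoMono.Pack0
import Cfsg.Agent.Lib.Sporadic.MultTwoMono.Pack1
import Cfsg.Agent.Lib.Sporadic.MultTwoMono.Pack2
import Cfsg.Agent.Lib.Sporadic.MultTwoMono.Pack3
import Cfsg.Agent.Lib.Sporadic.MultTwoMono.Pack4
import Cfsg.Agent.Lib.Sporadic.MultTwoMono.Pack5
import Cfsg.Agent.Lib.Sporadic.MultTwoMono.Data
import Cfsg.Agent.Lib.Schur.CheckParts

/-!
# Shape and permutations of table 5
-/

set_option autoImplicit false
set_option maxRecDepth 100000
set_option maxHeartbeats 0
set_option Elab.async false

noncomputable section

namespace CfsgLib.Sporadic.MultTwoMono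

open CfsgLib.Schur.Cert CfsgLib.Sporadic

theorem head5 : shapeHead level5 [] (nextWords (nextWords (nextWords (nextWords (nextWords (top) level0) level1) level2) level3) level4) = true := by decide +kernel

theorem srel5_0 : allFrom (shapeRel (chainRels chain top) level5 (nextWords (nextWords (nextWords (nextWords (nextWords (top) level0) level1) level2) level3) level4)) 0 2 = true := by decide +kernel

theorem srel5_2 : allFrom (shapeRel (chainRels chain top) level5 (nextWords (nextWords (nextWords (nextWords (nextWords (top) level0) level1) level2) level3) level4)) 2 4 = true := by decide +kernel

theorem srel5_4 : allFrom (shapeRel (chainRels chain top) level5 (nextWords (nextWords (nextWords (nextWords (nextWords (top) level0) level1) level2) level3) level4)) 4 6 = true := by decide +kernel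

theorem srel5_6 : allFrom (shapeRel (chainRels chain top) level5 (nextWords (nextWords (nextWords (nextWords (nextWords (top) level0) level1) level2) level3) level4)) 6 8 = true := by decide +kernel

theorem srel5_8 : allFrom (shapeRel (chainRels chain top) level5 (nextWords (nextWords (nextWords (nextWords (nextWords (top) level0) level1) level2) level3) level4)) 8 10 = true := by decide +kernel

theorem srel5_10 : allFrom (shapeRel (chainRels chain top) level5 (nextWords (nextWords (nextWords (nextWords (nextWords (top) level0) level1) level2) level3) level4)) 10 12 = true := by decide +kernel

theorem srel5_12 : allFrom (shapeRel (chainRels chain top) level5 (nextWords (nextWords (nextWords (nextWords (nextWords (top) level0) level1) level2) level3) level4)) 12 14 = true := by decide +kernel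

theorem srel5_14 : allFrom (shapeRel (chainRels chain top) level5 (nextWords (nextWords (nextWords (nextWords (nextWords (top) level0) level1) level2) level3) level4)) 14 15 = true := by decide +kernel

theorem row5_0 : allFrom (shapeRow rows level5 []) 0 32 = true := by decide +kernel

theorem permsGen5 : permsGen 88 level5 [] = true := by decide +kernel

theorem rel5_0 : allFrom (permsRel 88 level5) 0 15 = true := by decide +kernel

theorem path5_0 : allFrom (permsPath level5) 0 32 = true := by decide +kernel

theorem permsKey5 : permsKey level5 [] = true := by decide +kernel

end CfsgLib.Sporadic.MultTwoMono
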