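import Mathlib
import Cfsg.Agent.Lib.Sporadic.MultTwoMono.Pack0
import Cfsg.Agent.Lib.Sporadic.MultTwoMono.Pack1
import Cfsg.Agent.Lib.Sporadic.MultTwoMono.Pack2
import Cfsg.Agent.Lib.Sporadic.MultTwoMono.Pack3
import Cfsg.Agent.Lib.Sporadic.MultTwoMono.Pack4
import Cfsg.Agent.Lib.Sporadic.MultTwoMono.Pack5
import Cfsg.Agent.Lib.Sporadic.MultTwoMono.Data
import Cfsg.Agent.Lib.Schur.CheckParts

/-!
# Linear algebra
-/

set_option autoImplicit false
set_option maxRecDepth 100000
set_option maxHeartbeats 0
set_option Elab.async false

noncomputable section

namespace CfsgLib.Sporadic.MultTwoMono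

open CfsgLib.Schur.Cert CfsgLib.Sporadic

theorem linHead_check : linHead lin rows = true := by decide +kernel

theorem linUnit_0 : allFrom (linUnit lin) 0 5 = true := by decide +kernel

theorem linUnit_5 : allFrom (linUnit lin) 5 10 = true := by decide +kernel

theorem linUnit_10 : allFrom (linUnit lin) 10 15 = true := by decide +kernel

theorem linUnit_15 : allFrom (linUnit lin) 15 20 = true := by decide +kernel

theorem linUnit_20 : allFrom (linUnit lin) 20 25 = true := by decide +kernel

theorem linUnit_25 : allFrom (linUnit lin) 25 30 = true := by decide +kernel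

theorem linUnit_30 : allFrom (linUnit lin) 30 35 = true := by decide +kernel

theorem linUnit_35 : allFrom (linUnit lin) 35 40 = true := by decide +kernel

theorem linUnit_40 : allFrom (linUnit lin) 40 45 = true := by decide +kernel

theorem linUnit_45 : allFrom (linUnit lin) 45 50 = true := by decide +kernel

theorem linUnit_50 : allFrom (linUnit lin) 50 55 = true := by decide +kernel

theorem linUnit_55 : allFrom (linUnit lin) 55 60 = true := by decide +kernel

theorem linUnit_60 : allFrom (linUnit lin) 60 65 = true := by decide +kernel

theorem linUnit_65 : allFrom (linUnit lin) 65 70 = true := by decide +kernel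

theorem linUnit_70 : allFrom (linUnit lin) 70 75 = true := by decide +kernel

theorem linUnit_75 : allFrom (linUnit lin) 75 80 = true := by decide +kernel

theorem linUnit_80 : allFrom (linUnit lin) 80 83 = true := by decide +kernel

theorem linKind_0 : allFrom (linKind lin rows 2 (chainEqns chain ++ extra.map fun e => e.2.2)) 0 2 = true := by decide +kernel

theorem linKind_2 : allFrom (linKind lin rows 2 (chainEqns chain ++ extra.map fun e => e.2.2)) 2 4 = true := by decide +kernel

theorem linKind_4 : allFrom (linKind lin rows 2 (chainEqns chain ++ extra.map fun e => e.2.2)) 4 6 = true := by decide +kernel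

theorem linKind_6 : allFrom (linKind lin rows 2 (chainEqns chain ++ extra.map fun e => e.2.2)) 6 8 = true := by decide +kernel

theorem linKind_8 : allFrom (linKind lin rows 2 (chainEqns chain ++ extra.map fun e => e.2.2)) 8 10 = true := by decide +kernel

theorem linKind_10 : allFrom (linKind lin rows 2 (chainEqns chain ++ extra.map fun e => e.2.2)) 10 12 = true := by decide +kernel

theorem linKind_12 : allFrom (linKind lin rows 2 (chainEqns chain ++ extra.map fun e => e.2.2)) 12 14 = true := by decide +kernel

end CfsgLib.Sporadic.MultTwoMono
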