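import Mathlib
import Cfsg.Agent.Lib.Sporadic.MultTwoMono.Pack0
import Cfsg.Agent.Lib.Sporadic.MultTwoMono.Pack1
import Cfsg.Agent.Lib.Sporadic.MultTwoMono.Pack2
import Cfsg.Agent.Lib.Sporadic.MultTwoMono.Pack3
import Cfsg.Agent.Lib.Sporadic.MultTwoMono.Pack4
import Cfsg.Agent.Lib.Sporadic.MultTwoMono.Pack5
import Cfsg.Agent.Lib.Sporadic.MultTwoMono.Data
import Cfsg.Agent.Lib.Schur.CheckParts

/-!
# Linear algebra
-/

set_option autoImplicit false
set_option maxRecDepth 100000
set_option maxHeartbeats 0
set_option Elab.async false

noncomputable section

namespace CfsgLib.Sporadic.MultTwoMono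

open CfsgLib.Schur.Cert CfsgLib.Sporadic

theorem linKind_14 : allFrom (linKind lin rows 2 (chainEqns chain ++ extra.map fun e => e.2.2)) 14 16 = true := by decide +kernel

theorem linKind_16 : allFrom (linKind lin rows 2 (chainEqns chain ++ extra.map fun e => e.2.2)) 16 18 = true := by decide +kernel

theorem linKind_18 : allFrom (linKind lin rows 2 (chainEqns chain ++ extra.map fun e => e.2.2)) 18 20 = true := by decide +kernel

theorem linKind_20 : allFrom (linKind lin rows 2 (chainEqns chain ++ extra.map fun e => e.2.2)) 20 22 = true := by decide +kernel

theorem linKind_22 : allFrom (linKind lin rows 2 (chainEqns chain ++ extra.map fun e => e.2.2)) 22 24 = true := by decide +kernel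

theorem linKind_24 : allFrom (linKind lin rows 2 (chainEqns chain ++ extra.map fun e => e.2.2)) 24 26 = true := by decide +kernel

theorem linKind_26 : allFrom (linKind lin rows 2 (chainEqns chain ++ extra.map fun e => e.2.2)) 26 28 = true := by decide +kernel

theorem linKind_28 : allFrom (linKind lin rows 2 (chainEqns chain ++ extra.map fun e => e.2.2)) 28 30 = true := by decide +kernel

theorem linKind_30 : allFrom (linKind lin rows 2 (chainEqns chain ++ extra.map fun e => e.2.2)) 30 32 = true := by decide +kernel

theorem linKind_32 : allFrom (linKind lin rows 2 (chainEqns chain ++ extra.map fun e => e.2.2)) 32 34 = true := by decide +kernel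

theorem linKind_34 : allFrom (linKind lin rows 2 (chainEqns chain ++ extra.map fun e => e.2.2)) 34 36 = true := by decide +kernel

theorem linKind_36 : allFrom (linKind lin rows 2 (chainEqns chain ++ extra.map fun e => e.2.2)) 36 38 = true := by decide +kernel

theorem linKind_38 : allFrom (linKind lin rows 2 (chainEqns chain ++ extra.map fun e => e.2.2)) 38 40 = true := by decide +kernel

theorem linKind_40 : allFrom (linKind lin rows 2 (chainEqns chain ++ extra.map fun e => e.2.2)) 40 42 = true := by decide +kernel

theorem linKind_42 : allFrom (linKind lin rows 2 (chainEqns chain ++ extra.map fun e => e.2.2)) 42 44 = true := by decide +kernel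

theorem linKind_44 : allFrom (linKind lin rows 2 (chainEqns chain ++ extra.map fun e => e.2.2)) 44 46 = true := by decide +kernel

theorem linKind_46 : allFrom (linKind lin rows 2 (chainEqns chain ++ extra.map fun e => e.2.2)) 46 48 = true := by decide +kernel

theorem linKind_48 : allFrom (linKind lin rows 2 (chainEqns chain ++ extra.map fun e => e.2.2)) 48 50 = true := by decide +kernel

theorem linKind_50 : allFrom (linKind lin rows 2 (chainEqns chain ++ extra.map fun e => e.2.2)) 50 52 = true := by decide +kernel

theorem linKind_52 : allFrom (linKind lin rows 2 (chainEqns chain ++ extra.map fun e => e.2.2)) 52 54 = true := by decide +kernel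

theorem linKind_54 : allFrom (linKind lin rows 2 (chainEqns chain ++ extra.map fun e => e.2.2)) 54 56 = true := by decide +kernel

theorem linKind_56 : allFrom (linKind lin rows 2 (chainEqns chain ++ extra.map fun e => e.2.2)) 56 58 = true := by decide +kernel

theorem linKind_58 : allFrom (linKind lin rows 2 (chainEqns chain ++ extra.map fun e => e.2.2)) 58 60 = true := by decide +kernel

theorem linKind_60 : allFrom (linKind lin rows 2 (chainEqns chain ++ extra.map fun e => e.2.2)) 60 62 = true := by decide +kernel

theorem linKind_62 : allFrom (linKind lin rows 2 (chainEqns chain ++ extra.map fun e => e.2.2)) 62 64 = true := by decide +kernel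

end CfsgLib.Sporadic.MultTwoMono
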