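import Mathlib
import Cfsg.Agent.Lib.Sporadic.MultTwoMono.Check0
import Cfsg.Agent.Lib.Sporadic.MultTwoMono.Check0Row0
import Cfsg.Agent.Lib.Sporadic.MultTwoMono.Check0Ded0
import Cfsg.Agent.Lib.Sporadic.MultTwoMono.Check0Ded1
import Cfsg.Agent.Lib.Sporadic.MultTwoMono.Check0Ded2
import Cfsg.Agent.Lib.Sporadic.MultTwoMono.Check0Ded3
import Cfsg.Agent.Lib.Sporadic.MultTwoMono.Check0Ded4
import Cfsg.Agent.Lib.Sporadic.MultTwoMono.Check0Ded5
import Cfsg.Agent.Lib.Sporadic.MultTwoMono.Check0Ded6
import Cfsg.Agent.Lib.Sporadic.MultTwoMono.Check0Ded7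
import Cfsg.Agent.Lib.Sporadic.MultTwoMono.Check0Eqn0
import Cfsg.Agent.Lib.Sporadic.MultTwoMono.Check0Eqn1
import Cfsg.Agent.Lib.Sporadic.MultTwoMono.Check0Eqn2
import Cfsg.Agent.Lib.Sporadic.MultTwoMono.Check0Eqn3
import Cfsg.Agent.Lib.Sporadic.MultTwoMono.Check0Eqn4
import Cfsg.Agent.Lib.Sporadic.MultTwoMono.Check1
import Cfsg.Agent.Lib.Sporadic.MultTwoMono.Check1Row0
import Cfsg.Agent.Lib.Sporadic.MultTwoMono.Check1Ded0
import Cfsg.Agent.Lib.Sporadic.MultTwoMono.Check1Ded1
import Cfsg.Agent.Lib.Sporadic.MultTwoMono.Check1Eqn0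
import Cfsg.Agent.Lib.Sporadic.MultTwoMono.Check2
import Cfsg.Agent.Lib.Sporadic.MultTwoMono.Check2Row0
import Cfsg.Agent.Lib.Sporadic.MultTwoMono.Check2Ded0
import Cfsg.Agent.Lib.Sporadic.MultTwoMono.Check2Eqn0
import Cfsg.Agent.Lib.Sporadic.MultTwoMono.Check3
import Cfsg.Agent.Lib.Sporadic.MultTwoMono.Check3Row0
import Cfsg.Agent.Lib.Sporadic.MultTwoMono.Check3Ded0
import Cfsg.Agent.Lib.Sporadic.MultTwoMono.Check3Eqn0
import Cfsg.Agent.Lib.Sporadic.MultTwoMono.Check4
import Cfsg.Agent.Lib.Sporadic.MultTwoMono.Check4Ded0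
import Cfsg.Agent.Lib.Sporadic.MultTwoMono.Check4Eqn0
import Cfsg.Agent.Lib.Sporadic.MultTwoMono.Check5
import Cfsg.Agent.Lib.Sporadic.MultTwoMono.Check5Ded0
import Cfsg.Agent.Lib.Sporadic.MultTwoMono.Check5Eqn0
import Cfsg.Agent.Lib.Sporadic.MultTwoMono.CheckLin0
import Cfsg.Agent.Lib.Sporadic.MultTwoMono.CheckLin1
import Cfsg.Agent.Lib.Sporadic.MultTwoMono.CheckLin2
import Cfsg.Agent.Lib.Schur.CheckParts

/-!
# All checks of the chain
-/

set_option autoImplicit false
set_option maxRecDepth 100000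
set_option maxHeartbeats 0
set_option Elab.async false

noncomputable section

namespace CfsgLib.Sporadic.MultTwoMono

open CfsgLib.Schur.Cert CfsgLib.Sporadic

theorem shape0 : shapeOK (chainRels chain top) rows level0 [level1, level2, level3, level4, level5] (top) = true :=
  shapeOK_of_parts head0 (allFrom_trans srel0_0 (allFrom_trans srel0_2 (allFrom_trans srel0_4 (allFrom_trans srel0_6 (allFrom_trans srel0_8 (allFrom_trans srel0_10 (allFrom_trans srel0_12 (allFrom_trans srel0_14 (srel0_16))))))))) (allFrom_trans row0_0 (allFrom_trans row0_10 (allFrom_trans row0_20 (allFrom_trans row0_30 (allFrom_trans row0_40 (allFrom_trans row0_50 (allFrom_trans row0_60 (allFrom_trans row0_70 (row0_80)))))))))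

theorem deds0 : dedsOK level0 [level1, level2, level3, level4, level5] = true :=
  dedsOK_of_parts pack_ok0 (packsOK_cons pack_ok1 (packsOK_cons pack_ok2 (packsOK_cons pack_ok3 (packsOK_cons pack_ok4 (packsOK_cons pack_ok5 (rfl)))))) (allFrom_trans ded0_0 (allFrom_trans ded0_1 (allFrom_trans ded0_2 (allFrom_trans ded0_3 (allFrom_trans ded0_4 (allFrom_trans ded0_5 (allFrom_trans ded0_6 (allFrom_trans ded0_7 (allFrom_trans ded0_8 (allFrom_trans ded0_9 (allFrom_trans ded0_10 (allFrom_trans ded0_11 (allFrom_trans ded0_12 (allFrom_trans ded0_13 (allFrom_trans ded0_14 (allFrom_trans ded0_15 (allFrom_trans ded0_16 (allFrom_trans ded0_17 (allFrom_trans ded0_18 (allFrom_trans ded0_19 (allFrom_trans ded0_20 (allFrom_trans ded0_21 (allFrom_trans ded0_22 (allFrom_trans ded0_23 (allFrom_trans ded0_24 (allFrom_trans ded0_25 (allFrom_trans ded0_26 (allFrom_trans ded0_27 (allFrom_trans ded0_28 (allFrom_trans ded0_29 (allFrom_trans ded0_30 (allFrom_trans ded0_31 (allFrom_trans ded0_32 (allFrom_trans ded0_33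 (allFrom_trans ded0_34 (allFrom_trans ded0_35 (allFrom_trans ded0_36 (allFrom_trans ded0_37 (allFrom_trans ded0_38 (allFrom_trans ded0_39 (allFrom_trans ded0_40 (allFrom_trans ded0_41 (allFrom_trans ded0_42 (allFrom_trans ded0_43 (allFrom_trans ded0_44 (allFrom_trans ded0_45 (allFrom_trans ded0_46 (allFrom_trans ded0_47 (allFrom_trans ded0_48 (allFrom_trans ded0_49 (allFrom_trans ded0_50 (allFrom_trans ded0_51 (allFrom_trans ded0_52 (allFrom_trans ded0_53 (allFrom_trans ded0_54 (allFrom_trans ded0_55 (allFrom_trans ded0_56 (allFrom_trans ded0_57 (allFrom_trans ded0_58 (allFrom_trans ded0_59 (allFrom_trans ded0_60 (allFrom_trans ded0_61 (allFrom_trans ded0_62 (allFrom_trans ded0_63 (allFrom_trans ded0_64 (allFrom_trans ded0_65 (allFrom_trans ded0_66 (allFrom_trans ded0_67 (allFrom_trans ded0_68 (allFrom_trans ded0_69 (allFrom_trans ded0_70 (allFrom_trans ded0_71 (allFrom_trans ded0_72 (allFrom_trans ded0_73 (allFrom_trans ded0_74 (allFrom_trans ded0_75 (allFrom_trans ded0_76 (allFrom_trans ded0_77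 (allFrom_trans ded0_78 (allFrom_trans ded0_79 (allFrom_trans ded0_80 (allFrom_trans ded0_81 (allFrom_trans ded0_82 (allFrom_trans ded0_83 (allFrom_trans ded0_84 (allFrom_trans ded0_85 (allFrom_trans ded0_86 (allFrom_trans ded0_87 (ded0_88)))))))))))))))))))))))))))))))))))))))))))))))))))))))))))))))))))))))))))))))))))))))))

theorem eqns0 : eqnsOK level0 [level1, level2, level3, level4, level5] = true :=
  eqnsOK_of_parts pack_ok0 (packsOK_cons pack_ok1 (packsOK_cons pack_ok2 (packsOK_cons pack_ok3 (packsOK_cons pack_ok4 (packsOK_cons pack_ok5 (rfl)))))) (allFrom_trans eqn0_0 (allFrom_trans eqn0_1 (allFrom_trans eqn0_2 (allFrom_trans eqn0_3 (allFrom_trans eqn0_4 (allFrom_trans eqn0_5 (allFrom_trans eqn0_6 (allFrom_trans eqn0_7 (allFrom_trans eqn0_8 (allFrom_trans eqn0_9 (allFrom_trans eqn0_10 (allFrom_trans eqn0_11 (allFrom_trans eqn0_12 (allFrom_trans eqn0_13 (allFrom_trans eqn0_14 (allFrom_trans eqn0_15 (allFrom_trans eqn0_16 (allFrom_trans eqn0_17 (allFrom_trans eqn0_18 (allFrom_trans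 eqn0_19 (allFrom_trans eqn0_20 (allFrom_trans eqn0_21 (allFrom_trans eqn0_22 (allFrom_trans eqn0_23 (allFrom_trans eqn0_24 (eqn0_25))))))))))))))))))))))))))

theorem shape1 : shapeOK (chainRels chain top) rows level1 [level2, level3, level4, level5] (nextWords (top) level0) = true :=
  shapeOK_of_parts head1 (allFrom_trans srel1_0 (allFrom_trans srel1_2 (allFrom_trans srel1_4 (allFrom_trans srel1_6 (allFrom_trans srel1_8 (allFrom_trans srel1_10 (allFrom_trans srel1_12 (srel1_14)))))))) (allFrom_trans row1_0 (allFrom_trans row1_10 (allFrom_trans row1_20 (allFrom_trans row1_30 (row1_40)))))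

theorem deds1 : dedsOK level1 [level2, level3, level4, level5] = true :=
  dedsOK_of_parts pack_ok1 (packsOK_cons pack_ok2 (packsOK_cons pack_ok3 (packsOK_cons pack_ok4 (packsOK_cons pack_ok5 (rfl))))) (allFrom_trans ded1_0 (allFrom_trans ded1_1 (allFrom_trans ded1_2 (allFrom_trans ded1_3 (allFrom_trans ded1_4 (allFrom_trans ded1_5 (allFrom_trans ded1_6 (allFrom_trans ded1_7 (allFrom_trans ded1_8 (allFrom_trans ded1_9 (allFrom_trans ded1_10 (allFrom_trans ded1_11 (allFrom_trans ded1_12 (allFrom_trans ded1_13 (allFrom_trans ded1_14 (allFrom_trans ded1_15 (allFrom_trans ded1_16 (allFrom_trans ded1_17 (allFrom_trans ded1_18 (allFrom_trans ded1_19 (allFrom_trans ded1_20 (allFrom_trans ded1_21 (allFrom_trans ded1_22 (allFrom_trans ded1_23 (allFrom_trans ded1_24 (allFrom_trans ded1_25 (allFrom_trans ded1_26 (allFrom_trans ded1_27 (allFrom_trans ded1_28 (allFrom_trans ded1_29 (allFrom_trans ded1_30 (allFrom_trans ded1_31 (allFrom_trans ded1_32 (allFrom_trans ded1_33 (allFrom_trans ded1_34 (allFrom_trans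 ded1_35 (allFrom_trans ded1_36 (allFrom_trans ded1_37 (allFrom_trans ded1_38 (allFrom_trans ded1_39 (allFrom_trans ded1_40 (allFrom_trans ded1_41 (ded1_42)))))))))))))))))))))))))))))))))))))))))))

theorem eqns1 : eqnsOK level1 [level2, level3, level4, level5] = true :=
  eqnsOK_of_parts pack_ok1 (packsOK_cons pack_ok2 (packsOK_cons pack_ok3 (packsOK_cons pack_ok4 (packsOK_cons pack_ok5 (rfl))))) (allFrom_trans eqn1_0 (allFrom_trans eqn1_1 (allFrom_trans eqn1_2 (allFrom_trans eqn1_3 (allFrom_trans eqn1_4 (allFrom_trans eqn1_5 (allFrom_trans eqn1_6 (allFrom_trans eqn1_7 (allFrom_trans eqn1_8 (allFrom_trans eqn1_9 (allFrom_trans eqn1_10 (allFrom_trans eqn1_11 (allFrom_trans eqn1_12 (allFrom_trans eqn1_13 (allFrom_trans eqn1_14 (allFrom_trans eqn1_15 (allFrom_trans eqn1_16 (eqn1_17))))))))))))))))))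

theorem shape2 : shapeOK (chainRels chain top) rows level2 [level3, level4, level5] (nextWords (nextWords (top) level0) level1) = true :=
  shapeOK_of_parts head2 (allFrom_trans srel2_0 (allFrom_trans srel2_2 (allFrom_trans srel2_4 (allFrom_trans srel2_6 (allFrom_trans srel2_8 (allFrom_trans srel2_10 (srel2_12))))))) (allFrom_trans row2_0 (allFrom_trans row2_10 (allFrom_trans row2_20 (row2_30))))

theorem deds2 : dedsOK level2 [level3, level4, level5] = true :=
  dedsOK_of_parts pack_ok2 (packsOK_cons pack_ok3 (packsOK_cons pack_ok4 (packsOK_cons pack_ok5 (rfl)))) (allFrom_trans ded2_0 (allFrom_trans ded2_3 (allFrom_trans ded2_6 (allFrom_trans ded2_9 (allFrom_trans ded2_12 (allFrom_trans ded2_15 (allFrom_trans ded2_18 (allFrom_trans ded2_21 (allFrom_trans ded2_24 (allFrom_trans ded2_27 (allFrom_trans ded2_30 (allFrom_trans ded2_33 (allFrom_trans ded2_36 (allFrom_trans ded2_39 (allFrom_trans ded2_42 (allFrom_trans ded2_45 (allFrom_trans ded2_48 (allFrom_trans ded2_51 (allFrom_trans ded2_54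 (allFrom_trans ded2_57 (allFrom_trans ded2_60 (allFrom_trans ded2_63 (allFrom_trans ded2_66 (allFrom_trans ded2_69 (allFrom_trans ded2_72 (allFrom_trans ded2_75 (ded2_78)))))))))))))))))))))))))))

theorem eqns2 : eqnsOK level2 [level3, level4, level5] = true :=
  eqnsOK_of_parts pack_ok2 (packsOK_cons pack_ok3 (packsOK_cons pack_ok4 (packsOK_cons pack_ok5 (rfl)))) (allFrom_trans eqn2_0 (allFrom_trans eqn2_3 (allFrom_trans eqn2_6 (allFrom_trans eqn2_9 (allFrom_trans eqn2_12 (allFrom_trans eqn2_15 (allFrom_trans eqn2_18 (allFrom_trans eqn2_21 (eqn2_24)))))))))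

theorem shape3 : shapeOK (chainRels chain top) rows level3 [level4, level5] (nextWords (nextWords (nextWords (top) level0) level1) level2) = true :=
  shapeOK_of_parts head3 (allFrom_trans srel3_0 (allFrom_trans srel3_2 (allFrom_trans srel3_4 (allFrom_trans srel3_6 (allFrom_trans srel3_8 (allFrom_trans srel3_10 (allFrom_trans srel3_12 (allFrom_trans srel3_14 (allFrom_trans srel3_16 (srel3_18)))))))))) (row3_0)

theorem deds3 : dedsOK level3 [level4, level5] = true :=
  dedsOK_of_parts pack_ok3 (packsOK_cons pack_ok4 (packsOK_cons pack_ok5 (rfl))) (allFrom_trans ded3_0 (ded3_10))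

theorem eqns3 : eqnsOK level3 [level4, level5] = true :=
  eqnsOK_of_parts pack_ok3 (packsOK_cons pack_ok4 (packsOK_cons pack_ok5 (rfl))) (allFrom_trans eqn3_0 (allFrom_trans eqn3_10 (eqn3_20)))

theorem shape4 : shapeOK (chainRels chain top) rows level4 [level5] (nextWords (nextWords (nextWords (nextWords (top) level0) level1) level2) level3) = true :=
  shapeOK_of_parts head4 (allFrom_trans srel4_0 (allFrom_trans srel4_2 (allFrom_trans srel4_4 (allFrom_trans srel4_6 (allFrom_trans srel4_8 (allFrom_trans srel4_10 (allFrom_trans srel4_12 (allFrom_trans srel4_14 (allFrom_trans srel4_16 (srel4_18)))))))))) (row4_0)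

theorem deds4 : dedsOK level4 [level5] = true :=
  dedsOK_of_parts pack_ok4 (packsOK_cons pack_ok5 (rfl)) (allFrom_trans ded4_0 (allFrom_trans ded4_60 (ded4_120)))

theorem eqns4 : eqnsOK level4 [level5] = true :=
  eqnsOK_of_parts pack_ok4 (packsOK_cons pack_ok5 (rfl)) (eqn4_0)

theorem shape5 : shapeOK (chainRels chain top) rows level5 [] (nextWords (nextWords (nextWords (nextWords (nextWords (top) level0) level1) level2) level3) level4) = true :=
  shapeOK_of_parts head5 (allFrom_trans srel5_0 (allFrom_trans srel5_2 (allFrom_trans srel5_4 (allFrom_trans srel5_6 (allFrom_trans srel5_8 (allFrom_trans srel5_10 (allFrom_trans srel5_12 (srel5_14)))))))) (row5_0)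

theorem deds5 : dedsOK level5 [] = true :=
  dedsOK_of_parts pack_ok5 (rfl) (allFrom_trans ded5_0 (allFrom_trans ded5_60 (ded5_120)))

theorem eqns5 : eqnsOK level5 [] = true :=
  eqnsOK_of_parts pack_ok5 (rfl) (eqn5_0)

theorem perms_check : permsOKN 88 chain = true :=
  permsOKN_cons permsGen0 (allFrom_trans rel0_0 (allFrom_trans rel0_1 (allFrom_trans rel0_2 (allFrom_trans rel0_3 (allFrom_trans rel0_4 (allFrom_trans rel0_5 (allFrom_trans rel0_6 (allFrom_trans rel0_7 (allFrom_trans rel0_8 (allFrom_trans rel0_9 (allFrom_trans rel0_10 (allFrom_trans rel0_11 (allFrom_trans rel0_12 (allFrom_trans rel0_13 (allFrom_trans rel0_14 (allFrom_trans rel0_15 (allFrom_trans rel0_16 (rel0_17)))))))))))))))))) (path0_0) permsKey0 (permsOKN_cons permsGen1 (allFrom_trans rel1_0 (allFrom_trans rel1_2 (allFrom_trans rel1_4 (allFrom_trans rel1_6 (allFrom_trans rel1_8 (allFrom_trans rel1_10 (allFrom_trans rel1_12 (rel1_14)))))))) (path1_0) permsKey1 (permsOKN_cons permsGen2 (allFrom_trans rel2_0 (allFrom_trans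 rel2_6 (rel2_12))) (path2_0) permsKey2 (permsOKN_cons permsGen3 (allFrom_trans rel3_0 (allFrom_trans rel3_9 (rel3_18))) (path3_0) permsKey3 (permsOKN_cons permsGen4 (allFrom_trans rel4_0 (rel4_13)) (path4_0) permsKey4 (permsOKN_cons permsGen5 (rel5_0) (path5_0) permsKey5 (rfl))))))

theorem rows_check : rows = relRows (chainRels chain top) ∧ chainExp chain = top.map (wexp vunit) := by decide +kernel

theorem lastWords : (nextWords (nextWords (nextWords (nextWords (nextWords (nextWords (top) level0) level1) level2) level3) level4) level5).isEmpty = true := by decide +kernel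

theorem tables_check : tablesOK (chainRels chain top) rows chain top = true := by
  show tablesOK (chainRels chain top) rows [level0, level1, level2, level3, level4, level5] top = true
  simp only [tablesOK, shape0, deds0, eqns0, shape1, deds1, eqns1, shape2, deds2, eqns2, shape3, deds3, eqns3, shape4, deds4, eqns4, shape5, deds5, eqns5, lastWords, Bool.and_self]

theorem lin_check : lin.ok rows 2 (chainEqns chain ++ extra.map fun e => e.2.2) = true :=
  LinCert.ok_of_parts linHead_check (allFrom_trans linUnit_0 (allFrom_trans linUnit_5 (allFrom_trans linUnit_10 (allFrom_trans linUnit_15 (allFrom_trans linUnit_20 (allFrom_trans linUnit_25 (allFrom_trans linUnit_30 (allFrom_trans linUnit_35 (allFrom_trans linUnit_40 (allFrom_trans linUnit_45 (allFrom_trans linUnit_50 (allFrom_trans linUnit_55 (allFrom_trans linUnit_60 (allFrom_trans linUnit_65 (allFrom_trans linUnit_70 (allFrom_trans linUnit_75 (linUnit_80))))))))))))))))) (allFrom_trans linKind_0 (allFrom_trans linKind_2 (allFrom_trans linKind_4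 (allFrom_trans linKind_6 (allFrom_trans linKind_8 (allFrom_trans linKind_10 (allFrom_trans linKind_12 (allFrom_trans linKind_14 (allFrom_trans linKind_16 (allFrom_trans linKind_18 (allFrom_trans linKind_20 (allFrom_trans linKind_22 (allFrom_trans linKind_24 (allFrom_trans linKind_26 (allFrom_trans linKind_28 (allFrom_trans linKind_30 (allFrom_trans linKind_32 (allFrom_trans linKind_34 (allFrom_trans linKind_36 (allFrom_trans linKind_38 (allFrom_trans linKind_40 (allFrom_trans linKind_42 (allFrom_trans linKind_44 (allFrom_trans linKind_46 (allFrom_trans linKind_48 (allFrom_trans linKind_50 (allFrom_trans linKind_52 (allFrom_trans linKind_54 (allFrom_trans linKind_56 (allFrom_trans linKind_58 (allFrom_trans linKind_60 (allFrom_trans linKind_62 (allFrom_trans linKind_64 (allFrom_trans linKind_66 (allFrom_trans linKind_68 (allFrom_trans linKind_70 (allFrom_trans linKind_72 (allFrom_trans linKind_74 (allFrom_trans linKind_76 (allFrom_trans linKind_78 (allFrom_trans linKind_80 (linKind_82))))))))))))))))))))))))))))))))))))))))))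

end CfsgLib.Sporadic.MultTwoMono
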