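import Mathlib
import Cfsg.Agent.Lib.Sporadic.ChainCertificate
import Cfsg.Agent.Lib.Schur.TrieFast

/-!
# Coset table 0 of a chain
-/

set_option autoImplicit false
set_option maxRecDepth 100000
set_option maxHeartbeats 0
set_option Elab.async false

noncomputable section

namespace CfsgLib.Sporadic.MultTwoMono

open CfsgLib.Schur.Cert

/-- data -/
def next0 : Trie (ℕ) := .node (.node (.node (.node (.node (.node (.node (.node (.leaf 1) (.leaf 49)) (.leaf 43)) (.node (.node (.leaf 10) (.leaf 70)) (.leaf 35))) (.node (.node (.node (.leaf 13) (.leaf 59)) (.leaf 51)) (.node (.leaf 37) (.leaf 52)))) (.node (.node (.node (.node (.leaf 2) (.leaf 55)) (.leaf 25)) (.node (.node (.leaf 31) (.leaf 78)) (.leaf 56))) (.node (.node (.node (.leaf 19) (.leaf 83)) (.leaf 57)) (.node (.leaf 18) (.leaf 46))))) (.node (.node (.node (.node (.node (.leaf 4) (.leaf 54)) (.leaf 22)) (.node (.node (.leaf 28) (.leaf 77)) (.leaf 39))) (.node (.node (.node (.leaf 16) (.leaf 61)) (.leaf 29))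 (.node (.leaf 17) (.leaf 53)))) (.node (.node (.node (.node (.leaf 3) (.leaf 80)) (.leaf 27)) (.node (.node (.leaf 34) (.leaf 87)) (.leaf 66))) (.node (.node (.node (.leaf 21) (.leaf 84)) (.leaf 60)) (.node (.leaf 41) (.leaf 47)))))) (.node (.node (.node (.node (.node (.node (.leaf 0) (.leaf 69)) (.leaf 45)) (.node (.node (.leaf 26) (.leaf 85)) (.leaf 64))) (.node (.node (.node (.leaf 5) (.leaf 63)) (.leaf 30)) (.node (.leaf 36) (.leaf 44)))) (.node (.node (.node (.node (.leaf 9) (.leaf 65)) (.leaf 24)) (.node (.node (.leaf 14) (.leaf 81)) (.leaf 58))) (.node (.node (.node (.leaf 8) (.leaf 82)) (.leaf 33)) (.node (.leaf 42) (.leaf 74))))) (.node (.node (.node (.node (.node (.leaf 6) (.leaf 75)) (.leaf 48)) (.node (.node (.leaf 12) (.leaf 76)) (.leaf 40))) (.node (.node (.node (.leaf 7) (.leaf 67)) (.leaf 32)) (.node (.leaf 38) (.leaf 72)))) (.node (.node (.node (.node (.leaf 11) (.leaf 79)) (.leaf 50)) (.node (.node (.leaf 15) (.leaf 86)) (.leaf 68))) (.node (.node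 (.node (.leaf 23) (.leaf 71)) (.leaf 62)) (.node (.leaf 20) (.leaf 73))))))) (.node (.node (.node (.node (.node (.node (.node (.leaf 2) (.leaf 77)) (.leaf 1)) (.node (.node (.leaf 25) (.leaf 19)) (.leaf 63))) (.node (.node (.node (.leaf 14) (.leaf 81)) (.leaf 54)) (.node (.leaf 38) (.leaf 6)))) (.node (.node (.node (.node (.leaf 8) (.leaf 78)) (.leaf 50)) (.node (.node (.leaf 32) (.leaf 28)) (.leaf 67))) (.node (.node (.node (.leaf 20) (.leaf 31)) (.leaf 58)) (.node (.leaf 41) (.leaf 73))))) (.node (.node (.node (.node (.node (.leaf 5) (.leaf 72)) (.leaf 47)) (.node (.node (.leaf 29) (.leaf 23)) (.leaf 65))) (.node (.node (.node (.leaf 17) (.leaf 82)) (.leaf 37)) (.node (.leaf 40) (.leaf 71)))) (.node (.node (.node (.node (.leaf 11) (.leaf 57)) (.leaf 52)) (.node (.node (.leaf 35) (.leaf 83)) (.leaf 62))) (.node (.node (.node (.leaf 22) (.leaf 68)) (.leaf 61)) (.node (.leaf 44) (.leaf 76)))))) (.node (.node (.node (.node (.node (.node (.leaf 3) (.leaf 74)) (.leaf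 46)) (.node (.node (.leaf 27) (.leaf 42)) (.leaf 4))) (.node (.node (.node (.leaf 15) (.leaf 60)) (.leaf 55)) (.node (.leaf 39) (.leaf 70)))) (.node (.node (.node (.node (.leaf 10) (.leaf 79)) (.leaf 51)) (.node (.node (.leaf 33) (.leaf 87)) (.leaf 64))) (.node (.node (.node (.leaf 21) (.leaf 16)) (.leaf 59)) (.node (.leaf 43) (.leaf 75))))) (.node (.node (.node (.node (.node (.leaf 7) (.leaf 9)) (.leaf 49)) (.node (.node (.leaf 30) (.leaf 86)) (.leaf 66))) (.node (.node (.node (.leaf 18) (.leaf 13)) (.leaf 56)) (.node (.leaf 0) (.leaf 45)))) (.node (.node (.node (.node (.leaf 12) (.leaf 80)) (.leaf 53)) (.node (.node (.leaf 36) (.leaf 85)) (.leaf 69))) (.node (.node (.node (.leaf 24) (.leaf 84)) (.leaf 34)) (.node (.leaf 26) (.leaf 48)))))))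

/-- data -/
def prev0 : Trie (ℕ) := .node (.node (.node (.node (.node (.node (.node (.node (.leaf 1) (.leaf 49)) (.leaf 43)) (.node (.node (.leaf 10) (.leaf 70)) (.leaf 35))) (.node (.node (.node (.leaf 13) (.leaf 59)) (.leaf 51)) (.node (.leaf 37) (.leaf 52)))) (.node (.node (.node (.node (.leaf 2) (.leaf 55)) (.leaf 25)) (.node (.node (.leaf 31) (.leaf 78)) (.leaf 56))) (.node (.node (.node (.leaf 19) (.leaf 83)) (.leaf 57)) (.node (.leaf 18) (.leaf 46))))) (.node (.node (.node (.node (.node (.leaf 4) (.leaf 54)) (.leaf 22)) (.node (.node (.leaf 28) (.leaf 77)) (.leaf 39))) (.node (.node (.node (.leaf 16) (.leaf 61)) (.leaf 29)) (.node (.leaf 17) (.leaf 53)))) (.node (.node (.node (.node (.leaf 3) (.leaf 80)) (.leaf 27)) (.node (.node (.leaf 34) (.leaf 87)) (.leaf 66))) (.node (.node (.node (.leaf 21) (.leaf 84)) (.leaf 60)) (.node (.leaf 41) (.leaf 47)))))) (.node (.node (.node (.node (.node (.node (.leaf 0) (.leaf 69)) (.leaf 45)) (.node (.node (.leaf 26) (.leaf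 85)) (.leaf 64))) (.node (.node (.node (.leaf 5) (.leaf 63)) (.leaf 30)) (.node (.leaf 36) (.leaf 44)))) (.node (.node (.node (.node (.leaf 9) (.leaf 65)) (.leaf 24)) (.node (.node (.leaf 14) (.leaf 81)) (.leaf 58))) (.node (.node (.node (.leaf 8) (.leaf 82)) (.leaf 33)) (.node (.leaf 42) (.leaf 74))))) (.node (.node (.node (.node (.node (.leaf 6) (.leaf 75)) (.leaf 48)) (.node (.node (.leaf 12) (.leaf 76)) (.leaf 40))) (.node (.node (.node (.leaf 7) (.leaf 67)) (.leaf 32)) (.node (.leaf 38) (.leaf 72)))) (.node (.node (.node (.node (.leaf 11) (.leaf 79)) (.leaf 50)) (.node (.node (.leaf 15) (.leaf 86)) (.leaf 68))) (.node (.node (.node (.leaf 23) (.leaf 71)) (.leaf 62)) (.node (.leaf 20) (.leaf 73))))))) (.node (.node (.node (.node (.node (.node (.node (.leaf 27) (.leaf 53)) (.leaf 20)) (.node (.node (.leaf 77) (.leaf 71)) (.leaf 63))) (.node (.node (.node (.leaf 4) (.leaf 66)) (.leaf 26)) (.node (.leaf 15) (.leaf 43)))) (.node (.node (.node (.node (.leaf 49) (.leaf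 78)) (.leaf 23)) (.node (.node (.leaf 12) (.leaf 79)) (.leaf 38))) (.node (.node (.node (.leaf 7) (.leaf 62)) (.leaf 30)) (.node (.leaf 84) (.leaf 73))))) (.node (.node (.node (.node (.node (.leaf 0) (.leaf 51)) (.leaf 47)) (.node (.node (.leaf 11) (.leaf 74)) (.leaf 36))) (.node (.node (.node (.leaf 5) (.leaf 65)) (.leaf 81)) (.node (.leaf 31) (.leaf 44)))) (.node (.node (.node (.node (.leaf 56) (.leaf 57)) (.leaf 24)) (.node (.node (.leaf 14) (.leaf 83)) (.leaf 40))) (.node (.node (.node (.leaf 8) (.leaf 68)) (.leaf 33)) (.node (.leaf 19) (.leaf 54)))))) (.node (.node (.node (.node (.node (.node (.leaf 32) (.leaf 50)) (.leaf 21)) (.node (.node (.leaf 10) (.leaf 72)) (.leaf 35))) (.node (.node (.node (.leaf 67) (.leaf 60)) (.leaf 28)) (.node (.leaf 16) (.leaf 70)))) (.node (.node (.node (.node (.leaf 2) (.leaf 55)) (.leaf 42)) (.node (.node (.leaf 13) (.leaf 87)) (.leaf 39))) (.node (.node (.node (.leaf 75) (.leaf 64)) (.leaf 59)) (.node (.leaf 18) (.leaf 46)))))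 (.node (.node (.node (.node (.node (.leaf 1) (.leaf 52)) (.leaf 22)) (.node (.node (.leaf 80) (.leaf 86)) (.leaf 37))) (.node (.node (.node (.leaf 6) (.leaf 61)) (.leaf 29)) (.node (.leaf 17) (.leaf 45)))) (.node (.node (.node (.node (.leaf 3) (.leaf 58)) (.leaf 25)) (.node (.node (.leaf 82) (.leaf 85)) (.leaf 41))) (.node (.node (.node (.leaf 9) (.leaf 69)) (.leaf 34)) (.node (.leaf 76) (.leaf 48)))))))

/-- data -/
def lab0_00 : Trie (Word) := .node (.node (.node (.node (.node (.node (.leaf ([])) (.leaf ([]))) (.leaf ([(1, false), (0, false), (1, true), (0, false), (1, true), (0, false), (1, false), (0, true), (1, false), (1, false), (0, true), (1, false), (0, false), (1, true), (0, false)]))) (.node (.node (.leaf ([])) (.leaf ([]))) (.leaf ([])))) (.node (.node (.node (.leaf ([])) (.leaf ([]))) (.leaf ([(0, true), (1, true), (1, true), (1, true), (0, true), (0, true), (1, false), (1, false), (1, false), (0, false), (1, false), (0, false), (1, true), (0, true),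 (1, false), (1, false), (1, false)]))) (.node (.leaf ([])) (.leaf ([(0, false), (1, true), (0, true), (1, true), (0, true), (1, true), (1, true), (0, false), (1, true), (1, true), (1, true), (0, true), (1, false), (0, false), (1, true), (0, false), (1, false)]))))) (.node (.node (.node (.node (.leaf ([])) (.leaf ([]))) (.leaf ([(1, false), (0, true), (1, true), (1, true), (0, true), (1, true), (0, true), (1, false), (1, false), (0, false), (1, false), (0, true), (1, true), (0, false), (1, true)]))) (.node (.node (.leaf ([])) (.leaf ([]))) (.leaf ([(1, true), (0, true), (1, false), (0, true), (1, true), (0, false), (1, false), (1, false), (1, false), (0, true), (1, false), (1, false), (0, false), (1, false), (0, false), (1, false), (0, true)])))) (.node (.node (.node (.leaf ([])) (.leaf ([]))) (.leaf ([]))) (.node (.leaf ([])) (.leaf ([])))))) (.node (.node (.node (.node (.node (.leaf ([])) (.leaf ([(0, true), (1, true), (1, true), (0, true), (0, true), (1, false),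 (1, false), (1, false), (0, false), (1, true), (0, true), (1, false), (0, false), (1, false), (0, true)]))) (.leaf ([]))) (.node (.node (.leaf ([])) (.leaf ([(0, true), (1, false), (0, true), (1, true), (0, false), (1, false), (0, true), (0, true), (1, true), (0, true), (1, false), (0, false), (1, true), (0, true), (0, true)]))) (.leaf ([(1, true), (0, false), (1, true), (0, true), (0, true), (1, false), (0, true), (1, false), (1, false), (1, false), (0, true), (1, true), (1, true), (1, true), (0, false), (1, false)])))) (.node (.node (.node (.leaf ([])) (.leaf ([]))) (.leaf ([]))) (.node (.leaf ([])) (.leaf ([]))))) (.node (.node (.node (.node (.leaf ([])) (.leaf ([]))) (.leaf ([(1, true), (1, true), (0, false), (1, true), (0, true), (0, true), (1, false), (1, false), (1, false), (0, true), (1, true), (0, true), (0, true), (1, true), (0, true), (1, false), (0, true)]))) (.node (.node (.leaf ([])) (.leaf ([(0, true), (1, false), (0, false), (1, true), (1, true), (0,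 true), (0, true), (1, true), (0, true), (1, false), (0, false), (1, true), (1, true), (1, true)]))) (.leaf ([(1, false), (0, true), (1, false), (0, false), (1, true), (0, true), (1, true), (1, true), (0, true), (1, false), (0, true), (0, true), (1, true), (0, true), (1, true)])))) (.node (.node (.node (.leaf ([(1, true), (1, true), (0, true), (1, false), (1, false), (0, true), (0, true), (1, true), (0, true), (1, false), (0, false), (1, false), (0, true), (1, false), (1, false), (0, false), (1, false)])) (.leaf ([]))) (.leaf ([]))) (.node (.leaf ([(0, true), (0, true), (1, true), (1, true), (0, true), (1, false), (0, true), (1, false), (1, false), (0, false), (1, false), (0, false), (1, true), (1, true), (0, false), (1, false), (0, true)])) (.leaf ([]))))))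

/-- data -/
def lab0_010 : Trie (Word) := .node (.node (.node (.node (.node (.leaf ([])) (.leaf ([(1, true), (0, true), (1, false), (0, true), (1, true), (0, false), (1, false), (1, false), (1, false), (0, true), (1, false), (1, false), (0, false), (1, false), (0, false), (1, false), (0, true)]))) (.leaf ([]))) (.node (.node (.leaf ([])) (.leaf ([]))) (.leaf ([])))) (.node (.node (.node (.leaf ([])) (.leaf ([(0, false), (1, true), (0, true), (1, false), (0, true), (0, true), (1, true), (0, true), (1, false), (0, true), (0, true), (1, true), (0, false), (1, false), (1, false), (0, false)]))) (.leaf ([(0, false), (1, true), (1, true), (0, true), (1, false), (0, true), (1, false), (1, false), (0, false), (1, false), (0, false), (1, true), (1, true), (0, false), (1, false), (0, true), (0, true)]))) (.node (.leaf ([(1, false), (0, true), (1, false), (0, false), (1, true), (0, true), (1, true), (1, true), (0, false), (1, false), (0, false), (1, false), (1, false), (0,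 false), (1, true)])) (.leaf ([]))))) (.node (.node (.node (.node (.leaf ([])) (.leaf ([(0, false), (1, true), (0, true), (1, true), (0, true), (1, true), (1, true), (0, false), (1, true), (1, true), (1, true), (0, true), (1, false), (0, false), (1, true), (0, false), (1, false)]))) (.leaf ([]))) (.node (.node (.leaf ([(1, true), (0, true), (1, true), (1, true), (0, false), (1, true), (0, true), (1, true), (0, false), (1, false), (0, true), (0, true), (1, true), (1, true), (0, false), (1, false), (1, false)])) (.leaf ([]))) (.leaf ([])))) (.node (.node (.node (.leaf ([])) (.leaf ([(0, true), (0, true), (1, false), (0, true), (1, true), (0, false), (1, false), (0, true), (0, true), (1, true), (0, true), (1, false), (0, false), (1, true), (0, false)]))) (.leaf ([]))) (.node (.leaf ([])) (.leaf ([])))))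

/-- data -/
def lab0_011 : Trie (Word) := .node (.node (.node (.node (.node (.leaf ([])) (.leaf ([(1, false), (0, false), (1, false), (0, true), (1, true), (0, true), (0, true), (1, false), (0, true), (0, true), (1, true), (0, false), (1, true), (0, true), (1, true), (0, true), (1, false), (1, false)]))) (.leaf ([]))) (.node (.node (.leaf ([])) (.leaf ([]))) (.leaf ([(0, true), (0, true), (1, true), (0, false), (1, true), (0, true), (1, true), (0, false), (1, true), (1, true), (0, true), (1, false), (0, false), (1, false), (0, false), (1, false), (1, false)])))) (.node (.node (.node (.leaf ([(0, false)])) (.leaf ([(1, false), (0, false), (1, false), (0, true), (1, true), (0, true), (0, true), (1, false), (0, true), (0, true), (1, true), (0, false), (1, true), (0, true), (1, true), (0, true), (1, false), (1, false)]))) (.leaf ([(0, true), (1, false), (0, true), (1, true), (0, false), (1, true), (1, true), (0, false), (1, true), (0, true), (1, false), (0, true), (1,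 false), (0, true), (1, true)]))) (.node (.leaf ([(1, true), (1, true), (0, false), (1, true), (0, true), (0, true), (1, false), (1, false), (1, false), (0, true), (1, true), (0, true), (0, true), (1, true), (0, true), (1, false), (0, true)])) (.leaf ([]))))) (.node (.node (.node (.node (.leaf ([(0, true)])) (.leaf ([(1, false), (0, true), (1, false), (0, false), (1, false), (1, false), (0, false), (1, false), (0, false), (1, true), (0, false), (1, true), (1, true), (0, false), (1, false), (0, false), (1, true), (0, false)]))) (.leaf ([(0, true), (0, true), (1, false), (0, true), (0, true), (1, true), (1, true), (1, true), (1, true), (1, true), (0, true), (1, false), (0, false), (1, true), (1, true), (0, true)]))) (.node (.node (.leaf ([])) (.leaf ([(1, false), (1, false), (1, false), (0, true), (1, true), (0, false), (1, false), (0, true), (0, true), (1, false), (1, false), (0, true), (1, true), (0, false)]))) (.leaf ([])))) (.node (.node (.node (.leaf ([])) (.leaf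 ([(1, false), (0, true), (1, false), (0, false), (1, false), (1, false), (0, false), (1, false), (0, false), (1, true), (0, false), (1, true), (1, true), (0, false), (1, false), (0, false), (1, true), (0, false)]))) (.leaf ([]))) (.node (.leaf ([])) (.leaf ([(0, true), (1, true), (1, true), (0, true), (1, false), (0, true), (0, true), (1, true), (0, false), (1, false), (0, true), (0, true), (1, true), (0, false), (1, false), (0, true)])))))

/-- data -/
def lab0_10 : Trie (Word) := .node (.node (.node (.node (.node (.node (.leaf ([])) (.leaf ([]))) (.leaf ([]))) (.node (.node (.leaf ([])) (.leaf ([(1, true), (0, true), (1, true), (0, true), (0, true), (1, false), (0, true), (1, true), (0, false), (1, true), (0, true), (1, false), (1, false), (0, true), (1, false)]))) (.leaf ([])))) (.node (.node (.node (.leaf ([])) (.leaf ([]))) (.leaf ([]))) (.node (.leaf ([])) (.leaf ([]))))) (.node (.node (.node (.node (.leaf ([])) (.leaf ([]))) (.leaf ([]))) (.node (.node (.leaf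 ([])) (.leaf ([(0, true), (1, false), (0, true), (1, false), (1, false), (1, false), (1, false), (0, true), (0, true), (1, true), (0, false)]))) (.leaf ([])))) (.node (.node (.node (.leaf ([])) (.leaf ([(0, true), (0, true), (1, false), (0, true), (1, true), (0, true), (1, false), (0, true), (1, true), (1, true), (0, true), (1, true), (0, true), (1, false), (1, false)]))) (.leaf ([]))) (.node (.leaf ([])) (.leaf ([])))))) (.node (.node (.node (.node (.node (.leaf ([])) (.leaf ([(1, false), (0, false), (1, true), (0, true), (0, true), (1, true), (0, true), (1, true), (0, false), (1, false), (0, false), (1, true), (0, false), (1, true), (0, true), (1, false)]))) (.leaf ([]))) (.node (.node (.leaf ([])) (.leaf ([(0, true), (1, false), (1, false), (0, true), (0, true), (1, true), (0, false), (1, true), (0, true), (1, true), (0, false), (1, false), (0, false), (1, true), (0, false), (1, true)]))) (.leaf ([])))) (.node (.node (.node (.leaf ([])) (.leaf ([]))) (.leaf ([(0,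 true), (1, false), (0, false), (1, true), (0, true), (1, true), (1, true), (0, true), (1, false), (0, true), (0, true), (1, true), (0, true), (1, true)]))) (.node (.leaf ([])) (.leaf ([]))))) (.node (.node (.node (.node (.leaf ([])) (.leaf ([(1, false), (1, false), (0, false), (1, true), (0, true), (1, true), (0, false), (1, false), (1, false), (0, true), (1, true), (0, true), (1, true), (1, true)]))) (.leaf ([]))) (.node (.node (.leaf ([])) (.leaf ([(1, false), (0, false), (1, false), (0, false), (1, true), (0, false), (1, true), (1, true), (0, false), (1, false), (0, true), (0, true), (1, true), (0, false)]))) (.leaf ([(1, true), (0, false), (1, false), (0, false), (1, false), (1, false), (0, false), (1, true), (0, false), (1, false), (0, false), (1, true), (0, true), (0, true)])))) (.node (.node (.node (.leaf ([])) (.leaf ([(1, true), (1, true), (0, true), (1, false), (0, true), (1, false), (0, false), (1, true), (0, true), (0, true), (1, true), (1, true), (0,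 false), (1, true), (0, false), (1, true)]))) (.leaf ([]))) (.node (.leaf ([])) (.leaf ([]))))))

/-- data -/
def lab0_11 : Trie (Word) := .node (.node (.node (.node (.node (.node (.leaf ([])) (.leaf ([(1, false), (0, true), (1, false), (0, true), (1, true), (0, true), (1, false), (0, false), (1, false), (0, true), (1, false), (0, true), (0, true), (1, true), (1, true), (0, false)]))) (.leaf ([]))) (.node (.node (.leaf ([])) (.leaf ([(1, false), (1, false), (1, false), (0, true), (1, true), (1, true), (1, true), (0, false), (1, true), (0, false), (1, true), (1, true), (0, false), (1, false), (0, false), (1, true)]))) (.leaf ([])))) (.node (.node (.node (.leaf ([])) (.leaf ([(0, true), (0, true), (1, true), (1, true), (0, false), (1, false), (0, true), (1, false), (0, true), (0, true), (1, false), (0, false), (1, true), (0, true), (1, true), (0, false)]))) (.leaf ([]))) (.node (.leaf ([])) (.leaf ([]))))) (.node (.node (.node (.node (.leaf ([])) (.leaf ([]))) (.leaf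 ([]))) (.node (.node (.leaf ([])) (.leaf ([]))) (.leaf ([(1, true), (0, false), (1, true), (0, true), (0, true), (1, true), (0, false), (1, false), (0, false), (1, false), (1, false), (0, true), (1, false), (0, true)])))) (.node (.node (.node (.leaf ([])) (.leaf ([(0, false), (1, true), (0, false), (1, true), (1, true), (0, true), (1, true), (0, true), (1, false), (0, true), (0, true), (1, false), (0, true), (1, false)]))) (.leaf ([]))) (.node (.leaf ([])) (.leaf ([])))))) (.node (.node (.node (.node (.node (.leaf ([])) (.leaf ([]))) (.leaf ([]))) (.node (.node (.leaf ([])) (.leaf ([]))) (.leaf ([])))) (.node (.node (.node (.leaf ([])) (.leaf ([]))) (.leaf ([]))) (.node (.leaf ([])) (.leaf ([(1, true), (0, true), (0, true), (1, false), (1, false), (1, false), (0, false), (1, false), (1, false), (1, false), (0, true), (1, false), (0, false), (1, false), (1, false), (0, false)]))))) (.node (.node (.node (.node (.leaf ([])) (.leaf ([(1, true), (0, false), (1, true),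 (1, true), (0, false), (1, false), (0, true), (1, false), (0, false), (1, true), (0, true), (0, true), (1, false), (0, false), (1, false)]))) (.leaf ([]))) (.node (.node (.leaf ([])) (.leaf ([(1, false), (1, false), (1, false), (1, false), (0, true), (0, true), (1, false), (0, true), (0, true), (1, false), (1, false), (1, false), (0, false), (1, true), (0, false), (1, false), (0, false)]))) (.leaf ([])))) (.node (.node (.node (.leaf ([])) (.leaf ([(0, true), (1, false), (0, true), (0, true), (1, true), (1, true), (1, true), (1, true), (0, false), (1, true), (0, false)]))) (.leaf ([(1, true), (0, false), (1, false), (0, false), (1, false), (1, false), (0, false), (1, true), (0, false), (1, false), (0, false), (1, true), (0, true), (0, true)]))) (.node (.leaf ([(1, true)])) (.leaf ([(1, false), (1, false), (1, false), (0, false), (1, true), (0, false), (1, true), (0, true), (1, true), (0, false), (1, false), (1, false), (0, false), (1, false), (1, false), (0, true)]))))))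

/-- data -/
def lab0 : Trie (Word) := .node (.node (lab0_00) (.node (lab0_010) (lab0_011))) (.node (lab0_10) (lab0_11))

/-- data -/
def val0_0000 : Trie (Vec) := .node (.node (.node (.node (.leaf ([])) (.leaf ([0, 0, 0, 0, 0, 0, 0, 0, 0, 0, 0, 0, 0, 0, 0, 0, 0, 0, 0, 0, 0, 0, 0, 0, 0, 0, 0, 0, 0, 0, 0, 0, 0, 0, 0, 0, 0, 0, 0, 0, 0, 0, 0, 0, 0, 0, 0, 0, 0, 0, 0, 0, 0, 0, 0, 0, 0, 0, 0, 0, 0, 0, 0, 0, 0, 0, 0, 1]))) (.leaf ([0, 0, 0, 0, 0, 0, 0, 0, 0, 0, 0, 0, 0, 0, 0, 0, 0, 0, 0, 0, 0, 0, 0, 0, 0, 0, 0, 0, 0, 0, 0, 0, 0, 0, 0, 0, 0, 0, 0, 0, 0, 0, 0, 0, 0, 0, 0, 0, 0, 0, 0, 0, 0, 0, 0, 0, 0, 0, 0, 0, 0, 0, 0, 0, 0, 0, 0, 0, 0, 0, 0, 0, 1]))) (.node (.node (.leaf ([0, 0, 0, 0, 0, 0, 0, 0, 0, 0, 0, 0, 0, 0, 0, 0, 0, 0, 0, 0, 0, 0, 0, 0, 0, 0, 0, 0, 0, 0, 0, 0, 0, 0, 0, 0, 0, 0, 0, 0, 0, 0, 0, 0, 0, 0, 0, 0, 0, 0, 0, 0, 0, 0, 0, 0, 0, 0, 0, 0, 0, 0, 0, 0, 0, 0, 0, 1])) (.leaf ([0, 0, 0, 0, 0, 0, 0, 0, 0, 0, 0, 0, 0, 0, 0, 0, 0, 0, 0, 0, 0, 0, 0, 0, 0, 0, 0, 0, 0, 0,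 0, 0, 0, 0, 0, 0, 0, 0, 0, 0, 0, 0, 0, 0, 0, 0, 0, 0, 0, 0, 0, 0, 0, 0, 0, 0, 0, 0, 0, 0, 0, 0, 0, 0, 0, 0, 0, 1]))) (.leaf ([0, 0, 0, 0, 0, 0, 0, 0, 0, 0, 0, 0, 0, 0, 0, 0, 0, 0, 0, 0, 0, 0, 0, 0, 0, 0, 0, 0, 0, 0, 0, 0, 0, 0, 0, 0, 0, 0, 0, 0, 0, 0, 0, 0, 0, 0, 0, 0, 0, 0, 0, 0, 0, 0, 0, 0, 0, 0, 0, 0, 0, 0, 0, 0, 0, 0, 0, 1])))) (.node (.node (.node (.leaf ([])) (.leaf ([0, 0, 0, 0, 0, 0, 0, 0, 0, 0, 0, 0, 0, 0, 0, 0, 0, 0, 0, 0, 0, 0, 0, 0, 0, 0, 0, 0, 0, 0, 0, 0, 0, 0, 0, 0, 0, 0, 0, 0, 0, 0, 0, 0, 0, 0, 0, 0, 0, 0, 0, 0, 0, 0, 0, 0, 0, 0, 0, 0, 0, 0, 0, 0, 0, 0, 0, 1]))) (.leaf ([(-1367366), (-1777850), (-8628146), 2416209, (-680990), (-723372), 280696, 947687, 4426892, (-676678), 253497, (-2105377), 3031514, (-684592), 611600, (-420865), 402037, 6003783, 6638543, 1122122, (-555993), (-679357), 5056156, (-5037053), (-1533345), (-2890796), (-1853428), (-1732520), 230037, 1177410, 1354337, (-71585), (-128023), (-262861), 14826, 238869, (-667983), 422730, 0, 0,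 0, 0, 0, 0, 0, (-64717), (-172953), 4205, 76792, (-14832), 29477, (-57203), (-59208), (-121671), 50300, 3514, (-403), 1642, 1385, 1196, (-764), 3557, 2, (-1340), (-1044), (-1686), (-1829), 15, 24, 4, 6, (-2), (-2), (-4), 18, 7, (-5), 4, (-51), (-11), (-11), 4, 7]))) (.node (.leaf ([])) (.leaf ([40992, 60121, 276807, (-87504), 44873, 17334, (-454), (-42531), (-133364), 23668, (-12637), 60236, (-101317), 26037, (-19759), (-5115), (-23461), (-184430), (-199938), (-42038), 27189, 35812, (-160575), 152835, 48463, 89222, 49149, 45700, (-6937), (-44921), (-39201), (-389), 4249, 9033, 22, (-5892), 19927, (-13483), 0, 0, 0, 0, 0, 0, 0, 4644, 9718, (-796), (-4283), 122, (-1499), 1859, 1688, 3577, (-1820), (-76), (-19), (-45), (-23), (-46), 56, 73, (-23), 49, 36, 38, (-54), 14, (-1), (-1), 1, 2, 2, (-3), (-4), (-1), (-1), (-1), 3, 6, (-1), 0, 1]))))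

/-- data -/
def val0_0001 : Trie (Vec) := .node (.node (.node (.node (.leaf ([0, 0, 0, 0, 0, 0, 0, 0, 0, 0, 0, 0, 0, 0, 0, 0, 0, 0, 0, 0, 0, 0, 0, 0, 0, 0, 0, 0, 0, 0, 0, 0, 0, 0, 0, 0, 0, 0, 0, 0, 0, 0, 0, 0, 0, 0, 0, 0, 0, 0, 0, 0, 0, 0, 0, 0, 0, 0, 0, 0, 0, 0, 0, 0, 0, 0, 0, 1])) (.leaf ([0, 0, 0, 0, 0, 0, 0, 0, 0, 0, 0, 0, 0, 0, 0, 0, 0, 0, 0, 0, 0, 0, 0, 0, 0, 0, 0, 0, 0, 0, 0, 0, 0, 0, 0, 0, 0, 0, 0, 0, 0, 0, 0, 0, 0, 0, 0, 0, 0, 0, 0, 0, 0, 0, 0, 0, 0, 0, 0, 0, 0, 0, 0, 0, 0, 0, 0, 1]))) (.leaf ([12327, 15563, 83590, (-20879), 4561, 6654, (-4148), (-8258), (-43236), 6115, (-1290), 21314, (-28491), 6483, (-5299), 4595, (-3357), (-58375), (-66790), (-8901), 3188, 5406, (-48411), 49260, 14126, 27824, 18178, 16627, (-1591), (-8799), (-14385), 1535, 1037, 2333, (-570), (-3051), 7001, (-4175), 0, 0, 0, 0, 0, 0, 0, 466, 1109, 158, (-519), 187, (-205), 515, 694, 1161, (-433), (-38), 7, (-14), (-13), (-24), 14, (-77), 2, 15, (-1), 26, 44, (-3), 0, 0, (-1), 0, (-1),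 1]))) (.node (.node (.leaf ([])) (.leaf ([0, 0, 0, 0, 0, 0, 0, 0, 0, 0, 0, 0, 0, 0, 0, 0, 0, 0, 0, 0, 0, 0, 0, 0, 0, 0, 0, 0, 0, 0, 0, 0, 0, 0, 0, 0, 0, 0, 0, 0, 0, 0, 0, 0, 0, 0, 0, 0, 0, 0, 0, 0, 0, 0, 0, 0, 0, 0, 0, 0, 0, 0, 0, 0, 0, 0, 0, 1]))) (.leaf ([(-40992), (-60121), (-276807), 87504, (-44873), (-17334), 454, 42531, 133364, (-23668), 12637, (-60236), 101317, (-26037), 19759, 5115, 23461, 184430, 199938, 42038, (-27189), (-35812), 160575, (-152835), (-48463), (-89222), (-49149), (-45700), 6937, 44921, 39201, 389, (-4249), (-9033), (-22), 5892, (-19927), 13483, 0, 0, 0, 0, 0, 0, 0, (-4644), (-9718), 796, 4283, (-122), 1499, (-1859), (-1688), (-3577), 1820, 76, 19, 45, 23, 46, (-56), (-73), 23, (-49), (-36), (-38), 54, (-13), 1, 1, (-1), (-2), (-2), 3, 4, 1, 1, 1, (-3), (-6), 1, 0, (-1)])))) (.node (.node (.node (.leaf ([])) (.leaf ([]))) (.leaf ([]))) (.node (.leaf ([0, 0, 0, 0, 0, 0, 0, 0, 0, 0, 0, 0, 0, 0, 0, 0, 0, 0, 0, 0, 0, 0, 0, 0, 0, 0, 0, 0, 0, 0,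 0, 0, 0, 0, 0, 0, 0, 0, 0, 0, 0, 0, 0, 0, 0, 0, 0, 0, 0, 0, 0, 0, 0, 0, 0, 0, 0, 0, 0, 0, 0, 0, 0, 0, 0, 0, 0, 1])) (.leaf ([0, 0, 0, 0, 0, 0, 0, 0, 0, 0, 0, 0, 0, 0, 0, 0, 0, 0, 0, 0, 0, 0, 0, 0, 0, 0, 0, 0, 0, 0, 0, 0, 0, 0, 0, 0, 0, 0, 0, 0, 0, 0, 0, 0, 0, 0, 0, 0, 0, 0, 0, 0, 0, 0, 0, 0, 0, 0, 0, 0, 0, 0, 0, 0, 0, 0, 0, 1]))))

/-- data -/
def val0_0010 : Trie (Vec) := .node (.node (.node (.node (.leaf ([])) (.leaf ([(-13129), (-13869), (-64489), 10466, 3108, (-5708), 6439, (-1107), 37084, (-3656), 1252, (-19102), 23195, (-4243), 5473, (-9237), (-154), 47558, 52539, 5856, 227, 3568, 34120, (-41314), (-11846), (-23183), (-17618), (-17625), 2643, 8349, 12590, (-1217), (-1407), (-2060), 59, 3411, (-6152), 3066, 0, 0, 0, 0, 0, 0, 0, 1141, 651, 40, (-210), (-693), 35, (-464), (-933), (-1418), 291, 87, (-18), 3, 30, 11, 9, 182, (-2), (-20), (-28), (-34), (-127), 1, 1, 0, (-1)]))) (.leaf ([0, 0, 0, 0, 0, 0, 0, 0, 0, 0, 0, 0, 0, 0, 0, 0, 0, 0, 0, 0, 0, 0, 0, 0, 0, 0,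 0, 0, 0, 0, 0, 0, 0, 0, 0, 0, 0, 0, 0, 0, 0, 0, 0, 0, 0, 0, 0, 0, 0, 0, 0, 0, 0, 0, 0, 0, 0, 0, 0, 0, 0, 0, 0, 0, 0, 0, 0, 1]))) (.node (.node (.leaf ([])) (.leaf ([(-5821), (-3968), (-14850), (-4361), 8781, (-1970), 5418, (-8003), 12164, 609, (-235), (-7528), 6028, (-8), 1971, (-8124), (-2676), 13186, 13832, (-763), 3847, 8838, 3899, (-12537), (-3168), (-6746), (-7494), (-8599), 1492, 1951, 4984, (-800), (-831), (-668), (-194), 1984, (-2300), 638, 0, 0, 0, 0, 0, 0, 0, 1746, 1869, 34, (-742), (-720), (-158), (-120), (-602), (-803), (-13), 72, (-14), (-10), 24, 3, 19, 156, (-1), (-12), (-28), (-21), (-116), 1, 0, 0, 0, 0, 0, 0, 0, (-1)]))) (.leaf ([272160, 461194, 2457802, (-903543), 456302, 182006, 37592, (-531658), (-1137709), 240997, (-83090), 502535, (-824796), 231633, (-142449), (-82590), (-201907), (-1630927), (-1862486), (-370028), 263199, 466064, (-1572835), 1331042, 413297, 771076, 411536, 331566, (-19320), (-301198), (-327955), 12004, 16606, 66579, (-16722),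 (-33488), 165442, (-124160), 0, 0, 0, 0, 0, 0, 0, 69680, 101834, 2276, (-43136), (-15995), (-12991), 14768, 3992, 17742, (-16287), 1292, (-44), (-950), 261, (-375), 842, 2564, 113, 38, (-730), 89, (-2280), (-14), (-3), 3, 6, 3, 5, 2, 5, (-1), 10, (-7), 5, (-21), 4, 1, (-5)])))) (.node (.node (.node (.leaf ([])) (.leaf ([0, 0, 0, 0, 0, 0, 0, 0, 0, 0, 0, 0, 0, 0, 0, 0, 0, 0, 0, 0, 0, 0, 0, 0, 0, 0, 0, 0, 0, 0, 0, 0, 0, 0, 0, 0, 0, 0, 0, 0, 0, 0, 0, 0, 0, 0, 0, 0, 0, 0, 0, 0, 0, 0, 0, 0, 0, 0, 0, 0, 0, 0, 0, 0, 0, 0, 0, 1]))) (.leaf ([0, 0, 0, 0, 0, 0, 0, 0, 0, 0, 0, 0, 0, 0, 0, 0, 0, 0, 0, 0, 0, 0, 0, 0, 0, 0, 0, 0, 0, 0, 0, 0, 0, 0, 0, 0, 0, 0, 0, 0, 0, 0, 0, 0, 0, 0, 0, 0, 0, 0, 0, 0, 0, 0, 0, 0, 0, 0, 0, 0, 0, 0, 0, 0, 0, 0, 0, 1]))) (.node (.leaf ([0, 0, 0, 0, 0, 0, 0, 0, 0, 0, 0, 0, 0, 0, 0, 0, 0, 0, 0, 0, 0, 0, 0, 0, 0, 0, 0, 0, 0, 0, 0, 0, 0, 0, 0, 0, 0, 0, 0, 0, 0, 0, 0, 0, 0, 0, 0, 0, 0, 0, 0, 0, 0, 0, 0, 0, 0, 0, 0, 0, 0, 0, 0, 0, 0, 0, 0, 1])) (.leaf ([0,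 0, 0, 0, 0, 0, 0, 0, 0, 0, 0, 0, 0, 0, 0, 0, 0, 0, 0, 0, 0, 0, 0, 0, 0, 0, 0, 0, 0, 0, 0, 0, 0, 0, 0, 0, 0, 0, 0, 0, 0, 0, 0, 0, 0, 0, 0, 0, 0, 0, 0, 0, 0, 0, 0, 0, 0, 0, 0, 0, 0, 0, 0, 0, 0, 0, 0, 1, 1]))))

/-- data -/
def val0_0011 : Trie (Vec) := .node (.node (.node (.node (.leaf ([0, 0, 0, 0, 0, 0, 0, 0, 0, 0, 0, 0, 0, 0, 0, 0, 0, 0, 0, 0, 0, 0, 0, 0, 0, 0, 0, 0, 0, 0, 0, 0, 0, 0, 0, 0, 0, 0, 0, 0, 0, 0, 0, 0, 0, 0, 0, 0, 0, 0, 0, 0, 0, 0, 0, 0, 0, 0, 0, 0, 0, 0, 0, 0, 0, 0, 0, 1])) (.leaf ([]))) (.leaf ([5605, 5981, 25555, (-2875), (-3075), 2496, (-3005), 1964, (-14567), 688, (-448), 7836, (-10087), 1353, (-1623), 4255, (-867), (-17934), (-18388), (-2215), (-389), (-2602), (-10732), 15592, 4637, 9097, 6665, 7415, (-998), (-3988), (-5026), 376, 807, 1093, 278, (-1049), 2268, (-1245), 0, 0, 0, 0, 0, 0, 0, (-694), (-383), (-73), 130, 453, 2, 151, 322, 654, (-92), (-45), 0, 9, (-15), (-3), (-10), (-38), (-5), 11, 20, 4, 28, 1, 0, 0, 0, 0, 0, 0, 0, 0, 0, 0, 0, 0,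 0, 0, (-1)]))) (.node (.node (.leaf ([])) (.leaf ([0, 0, 0, 0, 0, 0, 0, 0, 0, 0, 0, 0, 0, 0, 0, 0, 0, 0, 0, 0, 0, 0, 0, 0, 0, 0, 0, 0, 0, 0, 0, 0, 0, 0, 0, 0, 0, 0, 0, 0, 0, 0, 0, 0, 0, 0, 0, 0, 0, 0, 0, 0, 0, 0, 0, 0, 0, 0, 0, 0, 0, 0, 0, 0, 0, 0, 0, 0, 0, 0, 0, 0, 0, 0, 0, 0, 0, 0, 0, 0, 0, 1]))) (.leaf ([0, 0, 0, 0, 0, 0, 0, 0, 0, 0, 0, 0, 0, 0, 0, 0, 0, 0, 0, 0, 0, 0, 0, 0, 0, 0, 0, 0, 0, 0, 0, 0, 0, 0, 0, 0, 0, 0, 0, 0, 0, 0, 0, 0, 0, 0, 0, 0, 0, 0, 0, 0, 0, 0, 0, 0, 0, 0, 0, 0, 0, 0, 0, 0, 0, 0, 0, 0, 1, 0, 1])))) (.node (.node (.node (.leaf ([(-6871), (-11218), (-66225), 19353, (-9822), (-3592), 1559, 11338, 31695, (-5389), 1221, (-15291), 21737, (-6687), 3644, 1193, 5087, 44545, 54736, 7079, (-2878), (-9357), 40705, (-37566), (-10334), (-21181), (-12052), (-9210), (-543), 4402, 11342, (-1458), (-445), (-1468), 1258, 2517, (-5617), 3440, 0, 0, 0, 0, 0, 0, 0, (-1346), (-1539), (-323), 691, 233, 189, (-348), (-447), (-611), 343, (-32), (-14), 31, (-6), 27, (-35),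 32, (-11), (-2), 38, (-26), (-3), 4, (-1), 0, 1, 1, 1, (-1), 0, 0, 0, (-1)])) (.leaf ([]))) (.leaf ([]))) (.node (.leaf ([(-116446), (-146143), (-669493), 173769, (-41112), (-54947), 27494, 54590, 352284, (-48392), 21662, (-169377), 241147, (-53000), 51756, (-43630), 28849, 471363, 516547, 86652, (-36884), (-33429), 382077, (-399693), (-121963), (-229818), (-152240), (-145358), 21043, 96858, 109118, (-4779), (-12296), (-21066), 512, 21371, (-53843), 32432, 0, 0, 0, 0, 0, 0, 0, (-1298), (-10054), 826, 4644, (-2897), 1977, (-4576), (-5709), (-10980), 3786, 411, (-56), 117, 151, 82, (-37), 533, (-7), (-123), (-141), (-172), (-321), 0, 3, 0, 0, 0, 0, 0, 0, 0, 0, 0, (-5), 0, 0, 1])) (.leaf ([0, 0, 0, 0, 0, 0, 0, 0, 0, 0, 0, 0, 0, 0, 0, 0, 0, 0, 0, 0, 0, 0, 0, 0, 0, 0, 0, 0, 0, 0, 0, 0, 0, 0, 0, 0, 0, 0, 0, 0, 0, 0, 0, 0, 0, 0, 0, 0, 0, 0, 0, 0, 0, 0, 0, 0, 0, 0, 0, 0, 0, 0, 0, 0, 0, 0, 0, 1]))))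

/-- data -/
def val0_0100 : Trie (Vec) := .node (.node (.node (.node (.leaf ([0, 0, 0, 0, 0, 0, 0, 0, 0, 0, 0, 0, 0, 0, 0, 0, 0, 0, 0, 0, 0, 0, 0, 0, 0, 0, 0, 0, 0, 0, 0, 0, 0, 0, 0, 0, 0, 0, 0, 0, 0, 0, 0, 0, 0, 0, 0, 0, 0, 0, 0, 0, 0, 0, 0, 0, 0, 0, 0, 0, 0, 0, 0, 0, 0, 0, 0, 1])) (.leaf ([208205, 262862, 1330708, (-354660), 71946, 119161, (-56984), (-132981), (-686416), 102227, (-31093), 331724, (-462638), 97710, (-87331), 79087, (-52693), (-924871), (-1020540), (-161057), 76363, 91594, (-766989), 773510, 232486, 442126, 287320, 273975, (-35671), (-175785), (-212641), 15119, 18693, 41431, (-701), (-37565), 103633, (-65426), 0, 0, 0, 0, 0, 0, 0, 7777, 23305, (-304), (-10389), 2859, (-4231), 8567, 9087, 18765, (-7493), (-653), 38, (-162), (-236), (-212), 51, (-653), (-27), 229, 231, 232, 412, 7, 1, (-1), (-2), 0, 0, (-1), (-3), (-2), (-1), (-1), 4, 4, 6, 1, (-2)]))) (.leaf ([]))) (.node (.node (.leaf ([])) (.leaf ([]))) (.leaf ([])))) (.node (.node (.node (.leaf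 ([0, 0, 0, 0, 0, 0, 0, 0, 0, 0, 0, 0, 0, 0, 0, 0, 0, 0, 0, 0, 0, 0, 0, 0, 0, 0, 0, 0, 0, 0, 0, 0, 0, 0, 0, 0, 0, 0, 0, 0, 0, 0, 0, 0, 0, 0, 0, 0, 0, 0, 0, 0, 0, 0, 0, 0, 0, 0, 0, 0, 0, 0, 0, 0, 0, 0, 0, 1])) (.leaf ([(-10496), (-9530), (-38950), 579, 8745, (-3945), 7110, (-7567), 25408, (-712), 454, (-14134), 15005, (-1921), 3924, (-10609), (-1733), 30436, 32773, 1937, 3405, 9149, 16668, (-27487), (-7613), (-15376), (-13512), (-14487), 2313, 5364, 9401, (-1084), (-1399), (-1435), (-165), 3028, (-4442), 1808, 0, 0, 0, 0, 0, 0, 0, 1970, 1814, 74, (-699), (-941), (-129), (-285), (-877), (-1278), 105, 100, (-16), (-7), 31, 6, 18, 194, (-2), (-18), (-35), (-32), (-140), 1, 0, 0, 0, 0, 0, 0, 0, 0, 0, 0, (-1)]))) (.leaf ([117972, 149277, 697666, (-185891), 46925, 57618, (-27188), (-63147), (-364958), 52085, (-21810), 174939, (-248420), 55651, (-53101), 43103, (-29780), (-490823), (-541798), (-89874), 39356, 40912, (-403770), 415171, 126343, 238264, 157367, 148160, (-20409),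 (-97029), (-113002), 5616, 11894, 21374, (-1276), (-21746), 55793, (-33947), 0, 0, 0, 0, 0, 0, 0, 2501, 11130, (-513), (-5077), 2286, (-2080), 4748, 5641, 10922, (-3968), (-364), 65, (-143), (-142), (-84), 49, (-509), 12, 117, 106, 175, 291, (-7), (-3), 0, 0, 0, 0, 2, 0, 0, 0, 0, 5, 0, 0, (-1)]))) (.node (.leaf ([(-12327), (-15563), (-83590), 20879, (-4561), (-6654), 4148, 8258, 43236, (-6115), 1290, (-21314), 28491, (-6483), 5299, (-4595), 3357, 58375, 66790, 8901, (-3188), (-5406), 48411, (-49260), (-14126), (-27824), (-18178), (-16627), 1591, 8799, 14385, (-1535), (-1037), (-2333), 570, 3051, (-7001), 4175, 0, 0, 0, 0, 0, 0, 0, (-466), (-1109), (-158), 519, (-187), 205, (-515), (-694), (-1161), 433, 38, (-7), 14, 13, 24, (-14), 77, (-2), (-15), 1, (-26), (-44), 4, 0, 0, 1, 0, 1, (-1)])) (.leaf ([0, 0, 0, 0, 0, 0, 0, 0, 0, 0, 0, 0, 0, 0, 0, 0, 0, 0, 0, 0, 0, 0, 0, 0, 0, 0, 0, 0, 0, 0, 0, 0, 0, 0, 0, 0, 0, 0, 0, 0, 0, 0, 0, 0, 0, 0, 0, 0, 0, 0, 0, 0, 0, 0, 0, 0,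 0, 0, 0, 0, 0, 0, 0, 0, 0, 0, 0, 1]))))

/-- data -/
def val0_0101 : Trie (Vec) := .node (.node (.node (.node (.leaf ([])) (.leaf ([(-208205), (-262862), (-1330708), 354660, (-71946), (-119161), 56984, 132981, 686416, (-102227), 31093, (-331724), 462638, (-97710), 87331, (-79087), 52693, 924871, 1020540, 161057, (-76363), (-91594), 766989, (-773510), (-232486), (-442126), (-287320), (-273975), 35671, 175785, 212641, (-15119), (-18693), (-41431), 701, 37565, (-103633), 65426, 0, 0, 0, 0, 0, 0, 0, (-7777), (-23305), 304, 10389, (-2859), 4231, (-8567), (-9087), (-18765), 7493, 653, (-38), 162, 236, 212, (-51), 653, 27, (-229), (-231), (-232), (-412), (-6), (-1), 1, 2, 0, 0, 1, 3, 2, 1, 1, (-4), (-4), (-6), (-1), 2]))) (.leaf ([0, 0, 0, 0, 0, 0, 0, 0, 0, 0, 0, 0, 0, 0, 0, 0, 0, 0, 0, 0, 0, 0, 0, 0, 0, 0, 0, 0, 0, 0, 0, 0, 0, 0, 0, 0, 0, 0, 0, 0, 0, 0, 0, 0, 0, 0, 0, 0, 0, 0, 0, 0, 0, 0, 0, 0, 0, 0, 0, 0, 0, 0, 0, 0, 0, 0, 0, 1]))) (.node (.node (.leaf ([47997, 59105,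 304143, (-77134), 11136, 27856, (-15452), (-27237), (-158537), 22374, (-5649), 77518, (-104926), 21507, (-19561), 21822, (-10314), (-212685), (-236439), (-34453), 14246, 17336, (-174323), 178467, 52892, 101676, 67521, 64304, (-8062), (-37663), (-50155), 4389, 4200, 9299, (-469), (-9267), 24245, (-15028), 0, 0, 0, 0, 0, 0, 0, 1084, 4206, 134, (-1910), 819, (-820), 1971, 2196, 4378, (-1643), (-171), 8, (-32), (-59), (-55), 7, (-193), (-7), 56, 46, 61, 122, (-3), (-1), 0, (-1), (-1), (-1), 1, 0, 0, 0, 1])) (.leaf ([0, 0, 0, 0, 0, 0, 0, 0, 0, 0, 0, 0, 0, 0, 0, 0, 0, 0, 0, 0, 0, 0, 0, 0, 0, 0, 0, 0, 0, 0, 0, 0, 0, 0, 0, 0, 0, 0, 0, 0, 0, 0, 0, 0, 0, 0, 0, 0, 0, 0, 0, 0, 0, 0, 0, 0, 0, 0, 0, 0, 0, 0, 0, 0, 0, 0, 0, 1]))) (.leaf ([0, 0, 0, 0, 0, 0, 0, 0, 0, 0, 0, 0, 0, 0, 0, 0, 0, 0, 0, 0, 0, 0, 0, 0, 0, 0, 0, 0, 0, 0, 0, 0, 0, 0, 0, 0, 0, 0, 0, 0, 0, 0, 0, 0, 0, 0, 0, 0, 0, 0, 0, 0, 0, 0, 0, 0, 0, 0, 0, 0, 0, 0, 0, 0, 0, 0, 0, 0, 1])))) (.node (.node (.node (.leaf ([0,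 0, 0, 0, 0, 0, 0, 0, 0, 0, 0, 0, 0, 0, 0, 0, 0, 0, 0, 0, 0, 0, 0, 0, 0, 0, 0, 0, 0, 0, 0, 0, 0, 0, 0, 0, 0, 0, 0, 0, 0, 0, 0, 0, 0, 0, 0, 0, 0, 0, 0, 0, 0, 0, 0, 0, 0, 0, 0, 0, 0, 0, 0, 0, 0, 0, 0, 1])) (.leaf ([0, 0, 0, 0, 0, 0, 0, 0, 0, 0, 0, 0, 0, 0, 0, 0, 0, 0, 0, 0, 0, 0, 0, 0, 0, 0, 0, 0, 0, 0, 0, 0, 0, 0, 0, 0, 0, 0, 0, 0, 0, 0, 0, 0, 0, 0, 0, 0, 0, 0, 0, 0, 0, 0, 0, 0, 0, 0, 0, 0, 0, 0, 0, 0, 0, 0, 0, 0, 0, 0, 0, 0, 0, 0, 0, 1]))) (.leaf ([0, 0, 0, 0, 0, 0, 0, 0, 0, 0, 0, 0, 0, 0, 0, 0, 0, 0, 0, 0, 0, 0, 0, 0, 0, 0, 0, 0, 0, 0, 0, 0, 0, 0, 0, 0, 0, 0, 0, 0, 0, 0, 0, 0, 0, 0, 0, 0, 0, 0, 0, 0, 0, 0, 0, 0, 0, 0, 0, 0, 0, 0, 0, 0, 0, 0, 0, 1]))) (.node (.leaf ([])) (.leaf ([]))))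

/-- data -/
def val0_0110 : Trie (Vec) := .node (.node (.node (.node (.leaf ([])) (.leaf ([328365, 492656, 2524121, (-826571), 346892, 196505, (-17006), (-427268), (-1222671), 223316, (-78153), 560168, (-862673), 222235, (-156891), 6367, (-171860), (-1707245), (-1930420), (-352266), 216384, 355468, (-1550862), 1411520, 432926, 815234, 474619, 409774, (-35122), (-315768), (-366387), 18160, 26022, 71274, (-13304), (-50735), 182077, (-126297), 0, 0, 0, 0, 0, 0, 0, 48296, 79305, 1547, (-34122), (-7351), (-10837), 15626, 9672, 25824, (-15572), 458, 51, (-809), 7, (-373), 628, 1124, 100, 161, (-386), 264, (-1210), (-32), (-3), 4, 1, (-2), 0, 7, 7, 0, 4, (-2), 7, (-15), 4, 0, (-4)]))) (.leaf ([]))) (.node (.node (.leaf ([0, 0, 0, 0, 0, 0, 0, 0, 0, 0, 0, 0, 0, 0, 0, 0, 0, 0, 0, 0, 0, 0, 0, 0, 0, 0, 0, 0, 0, 0, 0, 0, 0, 0, 0, 0, 0, 0, 0, 0, 0, 0, 0, 0, 0, 0, 0, 0, 0, 0, 0, 0, 0, 0, 0, 0, 0, 0, 0, 0, 0, 0, 0, 0, 0, 0, 0, 1])) (.leaf ([0, 0, 0, 0, 0, 0, 0, 0, 0, 0, 0, 0, 0,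 0, 0, 0, 0, 0, 0, 0, 0, 0, 0, 0, 0, 0, 0, 0, 0, 0, 0, 0, 0, 0, 0, 0, 0, 0, 0, 0, 0, 0, 0, 0, 0, 0, 0, 0, 0, 0, 0, 0, 0, 0, 0, 0, 0, 0, 0, 0, 0, 0, 0, 0, 0, 0, 0, 1]))) (.leaf ([(-545989), (-798289), (-4113282), 1349171, (-562009), (-325146), 26226, 693058, 1999158, (-372242), 129893, (-916129), 1408833, (-355896), 264552, (-13919), 259654, 2793232, 3133310, 582691, (-369245), (-574858), 2539314, (-2306372), (-708941), (-1326662), (-774876), (-682234), 76108, 540739, 588674, (-25301), (-41401), (-119005), 15581, 82985, (-295290), 204254, 0, 0, 0, 0, 0, 0, 0, (-78253), (-132991), (-183), 56937, 11965, 18955, (-26261), (-16827), (-41990), 26214, (-126), (-31), 1105, 111, 656, (-860), (-1312), (-37), (-381), 259, (-462), 1407, (-18), 8, 3, (-2), (-7), (-8), 6, 10, 10, (-8), 9, (-20), 8, (-12), (-4), 6])))) (.node (.node (.node (.leaf ([0, 0, 0, 0, 0, 0, 0, 0, 0, 0, 0, 0, 0, 0, 0, 0, 0, 0, 0, 0, 0, 0, 0, 0, 0, 0, 0, 0, 0, 0, 0, 0, 0, 0, 0, 0, 0, 0, 0, 0, 0, 0, 0, 0, 0,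 0, 0, 0, 0, 0, 0, 0, 0, 0, 0, 0, 0, 0, 0, 0, 0, 0, 0, 0, 0, 0, 0, 1])) (.leaf ([10446, 45254, 337438, (-149077), 91972, 22850, 16285, (-114435), (-133891), 39531, (-6668), 55157, (-100847), 35184, (-7561), (-43145), (-40693), (-207102), (-255439), (-47896), 44102, 107737, (-231605), 160977, 47652, 92878, 34258, 15387, 9414, (-23110), (-40030), 4870, (-2611), 7387, (-5492), (-130), 19758, (-18322), 0, 0, 0, 0, 0, 0, 0, 17985, 20595, 1801, (-8554), (-5780), (-2211), 1458, (-1790), (-924), (-2272), 610, (-40), (-189), 164, (-98), 225, 929, 32, (-57), (-320), (-56), (-752), (-9), 2, 2, 2, (-1), 0, 2, (-1), 0, 2, (-1), (-4), (-3), 2]))) (.leaf ([0, 0, 0, 0, 0, 0, 0, 0, 0, 0, 0, 0, 0, 0, 0, 0, 0, 0, 0, 0, 0, 0, 0, 0, 0, 0, 0, 0, 0, 0, 0, 0, 0, 0, 0, 0, 0, 0, 0, 0, 0, 0, 0, 0, 0, 0, 0, 0, 0, 0, 0, 0, 0, 0, 0, 0, 0, 0, 0, 0, 0, 0, 0, 0, 0, 0, 0, 1, 0, 0, 0, 0, (-1)]))) (.node (.leaf ([0, 0, 0, 0, 0, 0, 0, 0, 0, 0, 0, 0, 0, 0, 0, 0, 0, 0, 0, 0, 0, 0, 0, 0, 0, 0, 0, 0, 0, 0,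 0, 0, 0, 0, 0, 0, 0, 0, 0, 0, 0, 0, 0, 0, 0, 0, 0, 0, 0, 0, 0, 0, 0, 0, 0, 0, 0, 0, 0, 0, 0, 0, 0, 0, 0, 0, 0, 0, 0, 0, 0, 0, 0, 0, 0, 0, 0, 0, 0, 0, 0, 0, 1])) (.leaf ([]))))

/-- data -/
def val0_0111 : Trie (Vec) := .node (.node (.node (.node (.leaf ([])) (.leaf ([279394, 403679, 2087956, (-678685), 269780, 169647, (-18936), (-343886), (-1020122), 187755, (-63318), 469413, (-712648), 177495, (-134069), 19828, (-124982), (-1422859), (-1596807), (-292139), 182128, 282691, (-1289202), 1175563, 360580, 675399, 399815, 353175, (-39497), (-271397), (-300865), 14332, 20975, 60174, (-7800), (-42727), 150435, (-103683), 0, 0, 0, 0, 0, 0, 0, 38099, 65049, 373, (-27811), (-5809), (-9302), 13291, 8576, 21495, (-13188), 21, 23, (-560), (-69), (-323), 408, 578, 26, 190, (-120), 238, (-654), 5, (-3), (-1), 0, 2, 3, (-2), (-5), (-4), 5, (-3), 9, (-6), 6, 2, (-3)]))) (.leaf ([769594, 894729, 3986097, (-894876), 68572, 347432, (-241006), (-158537), (-2171939), 256979, (-118018),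 1067776, (-1459779), 286092, (-324129), 394991, (-113872), (-2851743), (-3075716), (-480232), 155784, 24504, (-2181043), 2435272, 739446, 1396788, 976136, 968800, (-157329), (-598701), (-683031), 34611, 84665, 130974, 7175, (-144976), 333482, (-190667), 0, 0, 0, 0, 0, 0, 0, (-25216), 26894, (-7120), (-14411), 30154, (-9134), 28469, 41772, 76004, (-21331), (-4118), 302, (-271), (-1348), (-462), (-259), (-5179), (-149), 1005, 1599, 1193, 3605, 13, (-23), (-6), (-8), (-1), (-1), (-1), (-13), 0, (-12), 7, 37, 31, (-3), (-7), 3]))) (.node (.node (.leaf ([0, 0, 0, 0, 0, 0, 0, 0, 0, 0, 0, 0, 0, 0, 0, 0, 0, 0, 0, 0, 0, 0, 0, 0, 0, 0, 0, 0, 0, 0, 0, 0, 0, 0, 0, 0, 0, 0, 0, 0, 0, 0, 0, 0, 0, 0, 0, 0, 0, 0, 0, 0, 0, 0, 0, 0, 0, 0, 0, 0, 0, 0, 0, 0, 0, 0, 0, 1])) (.leaf ([1417, 1795, 6807, (-1996), 622, 572, (-81), (-514), (-3603), 451, (-370), 1692, (-2670), 579, (-668), 530, (-454), (-4861), (-5007), (-1222), 582, 240, (-3889), 4208, 1410, 2510, 1668, 1626, (-361), (-1290),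 (-965), (-91), 183, 216, 28, (-165), 498, (-306), 0, 0, 0, 0, 0, 0, 0, (-4), 156, (-32), (-72), 62, (-27), 58, 70, 136, (-46), (-8), (-2), 0, (-2), 0, 0, (-4), 0, 2, 2, 2, 4, 1, 0, 0, 0, 0, 0, 0, 0, 0, 0, 0, 0, 0, 0, (-1)]))) (.leaf ([])))) (.node (.node (.node (.leaf ([])) (.leaf ([(-276902), (-403106), (-2091646), 682811, (-276702), (-168004), 16723, 349549, 1018749, (-188697), 63559, (-468231), 713745, (-179146), 133255, (-13263), 128470, 1422671, 1598492, 293104, (-183988), (-288782), 1292162, (-1174794), (-360124), (-675069), (-396932), (-349238), 37974, 270536, 300908, (-14350), (-20690), (-60157), 8290, 42608, (-150544), 103980, 0, 0, 0, 0, 0, 0, 0, (-39198), (-66199), (-472), 28304, 6090, 9421, (-13272), (-8458), (-21261), 13226, (-75), (-24), 568, 56, 331, (-431), (-627), (-29), (-186), 146, (-235), 694, (-4), 3, 1, 0, (-2), (-3), 2, 5, 4, (-5), 3, (-9), 6, (-6), (-2), 3]))) (.leaf ([]))) (.node (.leaf ([0, 0, 0, 0, 0, 0, 0, 0, 0, 0, 0, 0, 0, 0, 0, 0, 0,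 0, 0, 0, 0, 0, 0, 0, 0, 0, 0, 0, 0, 0, 0, 0, 0, 0, 0, 0, 0, 0, 0, 0, 0, 0, 0, 0, 0, 0, 0, 0, 0, 0, 0, 0, 0, 0, 0, 0, 0, 0, 0, 0, 0, 0, 0, 0, 0, 0, 0, 1])) (.leaf ([0, 0, 0, 0, 0, 0, 0, 0, 0, 0, 0, 0, 0, 0, 0, 0, 0, 0, 0, 0, 0, 0, 0, 0, 0, 0, 0, 0, 0, 0, 0, 0, 0, 0, 0, 0, 0, 0, 0, 0, 0, 0, 0, 0, 0, 0, 0, 0, 0, 0, 0, 0, 0, 0, 0, 0, 0, 0, 0, 0, 0, 0, 0, 0, 0, 0, 0, 0, 0, 0, 0, 0, 0, 0, 0, 0, 0, 0, 1]))))

/-- data -/
def val0_100 : Trie (Vec) := .node (.node (.node (.node (.node (.leaf ([])) (.leaf ([]))) (.leaf ([(-75251), (-108130), (-530934), 171192, (-71030), (-41075), 3797, 83370, 261148, (-46393), 18316, (-119670), 184868, (-46436), 36425, (-5739), 33766, 362721, 404375, 76681, (-46539), (-67698), 324730, (-301198), (-93414), (-174083), (-103545), (-91917), 11014, 72616, 76822, (-2362), (-6500), (-15430), 1858, 11302, (-38557), 26172, 0, 0, 0, 0, 0, 0, 0, (-8793), (-16202), 168, 7000, 869, 2352, (-3482), (-2548), (-6077), 3356, 23, (-10), 149, 28, 71, (-109), (-121),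 (-9), (-52), 15, (-70), 158, 0, 3, 0, 0, 0, 0, 0, 0, 0, 0, 0, (-3), 3]))) (.node (.node (.leaf ([])) (.leaf ([0, 0, 0, 0, 0, 0, 0, 0, 0, 0, 0, 0, 0, 0, 0, 0, 0, 0, 0, 0, 0, 0, 0, 0, 0, 0, 0, 0, 0, 0, 0, 0, 0, 0, 0, 0, 0, 0, 0, 0, 0, 0, 0, 0, 0, 0, 0, 0, 0, 0, 0, 0, 0, 0, 0, 0, 0, 0, 0, 0, 0, 0, 0, 0, 0, 0, 0, 0, 0, 0, 0, 0, 0, 0, 0, 0, 1]))) (.leaf ([])))) (.node (.node (.node (.leaf ([])) (.leaf ([]))) (.leaf ([]))) (.node (.leaf ([])) (.leaf ([9846, 7912, 31532, 3426, (-11757), 3716, (-8026), 10171, (-21866), (-246), (-16), 12751, (-12698), 735, (-3019), 11136, 2317, (-24759), (-25322), (-303), (-4434), (-11372), (-9907), 22605, 6072, 12556, 11850, 13748, (-2309), (-4813), (-8483), 1127, 1380, 1440, 478, (-2792), 3872, (-1439), 0, 0, 0, 0, 0, 0, 0, (-2350), (-2278), (-129), 882, 1092, 161, 222, 876, 1295, (-39), (-110), 12, 18, (-35), (-7), (-27), (-197), (-3), 22, 46, 26, 153, 0, 2, 0, 0, 0, 0, 0, 0, 0, 0, 0, 0, 3]))))) (.node (.node (.node (.node (.leaf ([]))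 (.leaf ([]))) (.leaf ([]))) (.node (.node (.leaf ([])) (.leaf ([0, 0, 0, 0, 0, 0, 0, 0, 0, 0, 0, 0, 0, 0, 0, 0, 0, 0, 0, 0, 0, 0, 0, 0, 0, 0, 0, 0, 0, 0, 0, 0, 0, 0, 0, 0, 0, 0, 0, 0, 0, 0, 0, 0, 0, 0, 0, 0, 0, 0, 0, 0, 0, 0, 0, 0, 0, 0, 0, 0, 0, 0, 0, 0, 0, 0, 0, 0, 0, 1]))) (.leaf ([])))) (.node (.node (.node (.leaf ([])) (.leaf ([9846, 7912, 31532, 3426, (-11757), 3716, (-8026), 10171, (-21866), (-246), (-16), 12751, (-12698), 735, (-3019), 11136, 2317, (-24759), (-25322), (-303), (-4434), (-11372), (-9907), 22605, 6072, 12556, 11850, 13748, (-2309), (-4813), (-8483), 1127, 1380, 1440, 478, (-2792), 3872, (-1439), 0, 0, 0, 0, 0, 0, 0, (-2351), (-2278), (-129), 882, 1092, 161, 222, 876, 1295, (-39), (-110), 12, 18, (-35), (-7), (-27), (-197), (-3), 22, 46, 26, 153, 1, (-1), 0, 0, 0, 0, 0, (-1), 0, 0, 0, 0, 3]))) (.leaf ([]))) (.node (.leaf ([])) (.leaf ([])))))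

/-- data -/
def val0_101 : Trie (Vec) := .node (.node (.node (.node (.node (.leaf ([])) (.leaf ([25721, 28932, 121851, (-25453), (-1409), 11178, (-8514), (-987), (-69136), 7179, (-3802), 34397, (-45081), 8554, (-11070), 16075, (-1827), (-89796), (-96892), (-14767), 3165, (-3502), (-66765), 77744, 23654, 44527, 33071, 32711, (-5347), (-18576), (-21831), 1036, 3017, 3986, 177, (-5018), 10658, (-5777), 0, 0, 0, 0, 0, 0, 0, (-1550), (-92), (-206), (-51), 1177, (-155), 884, 1424, 2593, (-621), (-140), 22, (-17), (-49), (-5), (-14), (-215), 3, 30, 51, 45, 139, (-5), (-1), 0, (-1), 0, 0, 1, 1, 0, 0, 0, 2]))) (.leaf ([]))) (.node (.node (.leaf ([])) (.leaf ([0, 0, 0, 0, 0, 0, 0, 0, 0, 0, 0, 0, 0, 0, 0, 0, 0, 0, 0, 0, 0, 0, 0, 0, 0, 0, 0, 0, 0, 0, 0, 0, 0, 0, 0, 0, 0, 0, 0, 0, 0, 0, 0, 0, 0, 0, 0, 0, 0, 0, 0, 0, 0, 0, 0, 0, 0, 0, 0, 0, 0, 0, 0, 0, 0, 0, 0, 0, 0, 0, 0, 0, 0, 0, 0, 0, 0, 1]))) (.leaf ([])))) (.node (.node (.node (.leaf ([])) (.leaf ([]))) (.leaf ([0, 0, 0,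 0, 0, 0, 0, 0, 0, 0, 0, 0, 0, 0, 0, 0, 0, 0, 0, 0, 0, 0, 0, 0, 0, 0, 0, 0, 0, 0, 0, 0, 0, 0, 0, 0, 0, 0, 0, 0, 0, 0, 0, 0, 0, 0, 0, 0, 0, 0, 0, 0, 0, 0, 0, 0, 0, 0, 0, 0, 0, 0, 0, 0, 0, 0, 0, 0, 0, 0, 1]))) (.node (.leaf ([])) (.leaf ([]))))) (.node (.node (.node (.node (.leaf ([])) (.leaf ([0, 0, 0, 0, 0, 0, 0, 0, 0, 0, 0, 0, 0, 0, 0, 0, 0, 0, 0, 0, 0, 0, 0, 0, 0, 0, 0, 0, 0, 0, 0, 0, 0, 0, 0, 0, 0, 0, 0, 0, 0, 0, 0, 0, 0, 0, 0, 0, 0, 0, 0, 0, 0, 0, 0, 0, 0, 0, 0, 0, 0, 0, 0, 0, 0, 0, 0, 0, 0, 0, 0, 0, 0, 0, 0, 0, 0, 0, 0, 0, 1]))) (.leaf ([]))) (.node (.node (.leaf ([])) (.leaf ([(-289597), (-390528), (-1966339), 589201, (-188851), (-166331), 47285, 260422, 993849, (-165257), 56692, (-468220), 677113, (-160248), 135067, (-72066), 94392, 1364550, 1528029, 261964, (-140832), (-199932), 1191617, (-1139863), (-346132), (-652305), (-410780), (-372676), 44865, 255376, 300281, (-16900), (-24402), (-57576), 6638, 50256, (-149194), 97049, 0, 0, 0, 0, 0, 0, 0, (-23295), (-46603),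 (-237), 20116, 1134, 7161, (-12770), (-11064), (-24143), 11827, 359, (-148), 509, 204, 282, (-272), 447, (-71), (-220), (-19), (-357), (-66), 20, 3, (-1), 0, (-1), (-1), (-4), 1, 4, (-6), 3, (-11), 12, (-5), (-1), 3]))) (.leaf ([0, 0, 0, 0, 0, 0, 0, 0, 0, 0, 0, 0, 0, 0, 0, 0, 0, 0, 0, 0, 0, 0, 0, 0, 0, 0, 0, 0, 0, 0, 0, 0, 0, 0, 0, 0, 0, 0, 0, 0, 0, 0, 0, 0, 0, 0, 0, 0, 0, 0, 0, 0, 0, 0, 0, 0, 0, 0, 0, 0, 0, 0, 0, 0, 0, 0, 0, (-1), 1, 0, 0, 0, 0, 0, 1])))) (.node (.node (.node (.leaf ([])) (.leaf ([(-106638), (-137769), (-636835), 175501, (-50493), (-51692), 20660, 63324, 330207, (-48024), 21050, (-156803), 227645, (-51861), 48370, (-34475), 30588, 445872, 491007, 85043, (-39706), (-43234), 370562, (-376613), (-115520), (-216992), (-140800), (-131868), 18260, 90193, 101083, (-4123), (-10827), (-19484), 1122, 18544, (-49993), 31008, 0, 0, 0, 0, 0, 0, 0, (-3351), (-11699), 550, 5284, (-1836), 2062, (-4343), (-4856), (-9737), 3692, 302, (-41), 135, 118, 75, (-58), 332,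 (-7), (-103), (-89), (-145), (-169), 4, 3, 1, 0, 0, 0, (-1), 0, 0, (-1), 0, (-5), 0, 1, 1]))) (.leaf ([]))) (.node (.leaf ([])) (.leaf ([])))))

/-- data -/
def val0_110 : Trie (Vec) := .node (.node (.node (.node (.node (.leaf ([])) (.leaf ([9846, 7912, 31532, 3426, (-11757), 3716, (-8026), 10171, (-21866), (-246), (-16), 12751, (-12698), 735, (-3019), 11136, 2317, (-24759), (-25322), (-303), (-4434), (-11372), (-9907), 22605, 6072, 12556, 11850, 13748, (-2309), (-4813), (-8483), 1127, 1380, 1440, 478, (-2792), 3872, (-1439), 0, 0, 0, 0, 0, 0, 0, (-2351), (-2278), (-129), 882, 1092, 161, 222, 876, 1295, (-39), (-110), 12, 18, (-35), (-7), (-27), (-197), (-3), 22, 46, 26, 153, 0, 0, 0, 0, 0, 0, 0, 0, 0, 0, (-1), 0, 3]))) (.leaf ([]))) (.node (.node (.leaf ([])) (.leaf ([(-108845), (-145498), (-687330), 202942, (-68680), (-55326), 15294, 83733, 350421, (-55552), 23203, (-164066), 242699, (-57411), 50970, (-27231), 35496, 478345, 529394, 95284, (-50019), (-62067), 410245,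 (-401530), (-123844), (-231429), (-146599), (-134486), 18099, 96374, 105160, (-3762), (-10406), (-20453), 1695, 18043, (-52441), 33548, 0, 0, 0, 0, 0, 0, 0, (-6569), (-15804), 446, 6965, (-694), 2527, (-4641), (-4492), (-9492), 4147, 214, (-41), 172, 92, 78, (-90), 182, (-13), (-91), (-53), (-134), (-41), 5, 2, 0, 0, 0, 0, (-1), (-1), 0, 0, 0, (-5), 3]))) (.leaf ([9846, 7912, 31532, 3426, (-11757), 3716, (-8026), 10171, (-21866), (-246), (-16), 12751, (-12698), 735, (-3019), 11136, 2317, (-24759), (-25322), (-303), (-4434), (-11372), (-9907), 22605, 6072, 12556, 11850, 13748, (-2309), (-4813), (-8483), 1127, 1380, 1440, 478, (-2792), 3872, (-1439), 0, 0, 0, 0, 0, 0, 0, (-2351), (-2278), (-129), 882, 1092, 161, 222, 876, 1295, (-39), (-109), 12, 18, (-35), (-7), (-27), (-197), (-3), 22, 46, 26, 153, 0, 2, 0, 0, 0, 0, 0, 0, 0, 0, 0, 0, 3])))) (.node (.node (.node (.leaf ([])) (.leaf ([0, 0, 0, 0, 0, 0, 0, 0, 0, 0, 0, 0, 0, 0, 0, 0, 0, 0, 0, 0, 0, 0, 0, 0, 0, 0, 0, 0,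 0, 0, 0, 0, 0, 0, 0, 0, 0, 0, 0, 0, 0, 0, 0, 0, 0, 0, 0, 0, 0, 0, 0, 0, 0, 0, 0, 0, 0, 0, 0, 0, 0, 0, 0, 0, 0, 0, 0, 0, 0, 0, 0, 0, 0, 0, 0, 0, 0, 0, 0, 1]))) (.leaf ([]))) (.node (.leaf ([])) (.leaf ([]))))) (.node (.node (.node (.node (.leaf ([])) (.leaf ([]))) (.leaf ([]))) (.node (.node (.leaf ([])) (.leaf ([]))) (.leaf ([(-75178), (-108039), (-530556), 171026, (-70968), (-41015), 3784, 83277, 261039, (-46323), 18275, (-119680), 184716, (-46406), 36427, (-5836), 33664, 362515, 404176, 76638, (-46467), (-67524), 324542, (-301079), (-93354), (-174002), (-103556), (-91911), 10970, 72474, 76810, (-2370), (-6500), (-15396), 1872, 11330, (-38555), 26150, 0, 0, 0, 0, 0, 0, 0, (-8779), (-16162), 156, 6988, 857, 2346, (-3474), (-2556), (-6085), 3350, 22, (-10), 149, 28, 71, (-109), (-121), (-9), (-52), 15, (-70), 158, 0, 1, 0, 0, (-1), 0, 0, 0, 0, 0, 0, (-3), 3])))) (.node (.node (.node (.leaf ([])) (.leaf ([0, 0, 0, 0, 0, 0, 0, 0, 0, 0, 0, 0, 0, 0, 0, 0, 0, 0, 0, 0, 0,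 0, 0, 0, 0, 0, 0, 0, 0, 0, 0, 0, 0, 0, 0, 0, 0, 0, 0, 0, 0, 0, 0, 0, 0, 0, 0, 0, 0, 0, 0, 0, 0, 0, 0, 0, 0, 0, 0, 0, 0, 0, 0, 0, 0, 0, 0, 0, 0, 0, 0, 1]))) (.leaf ([]))) (.node (.leaf ([])) (.leaf ([])))))

/-- data -/
def val0_1110 : Trie (Vec) := .node (.node (.node (.node (.leaf ([])) (.leaf ([7226, 8055, 32034, (-3076), (-3958), 2830, (-3829), 3143, (-18117), 515, (-757), 9795, (-13253), 1852, (-1880), 5079, (-2005), (-21962), (-22153), (-2795), (-700), (-3735), (-12018), 19182, 5842, 11551, 8193, 9159, (-993), (-5176), (-6403), 370, 1188, 1395, 354, (-1293), 2841, (-1553), 0, 0, 0, 0, 0, 0, 0, (-997), (-557), (-113), 186, 680, 28, 190, 424, 899, (-102), (-50), 0, 9, (-19), (-4), (-7), (-43), (-2), 14, 20, 6, 28, 0, 1, 0, 0, 0, 0, 0, 3, 0, 0, 0, 0, 0, 0, 0, (-2)]))) (.leaf ([]))) (.node (.node (.leaf ([])) (.leaf ([]))) (.leaf ([])))) (.node (.node (.node (.leaf ([])) (.leaf ([(-75178), (-108039), (-530556), 171026, (-70968), (-41015), 3784, 83277, 261039, (-46323),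 18275, (-119680), 184716, (-46406), 36427, (-5836), 33664, 362515, 404176, 76638, (-46467), (-67524), 324542, (-301079), (-93354), (-174002), (-103556), (-91911), 10970, 72474, 76810, (-2370), (-6500), (-15396), 1872, 11330, (-38555), 26150, 0, 0, 0, 0, 0, 0, 0, (-8779), (-16162), 156, 6988, 857, 2346, (-3474), (-2556), (-6085), 3350, 23, (-10), 149, 28, 71, (-109), (-121), (-9), (-52), 15, (-70), 158, 0, 3, 0, 0, 0, 0, 0, 0, 0, 0, 0, (-3), 3]))) (.leaf ([]))) (.node (.leaf ([1621, 2074, 6479, (-201), (-883), 334, (-824), 1179, (-3550), (-173), (-309), 1959, (-3166), 499, (-257), 824, (-1138), (-4028), (-3765), (-580), (-311), (-1133), (-1286), 3590, 1205, 2454, 1528, 1744, 5, (-1188), (-1377), (-6), 381, 302, 76, (-244), 573, (-308), 0, 0, 0, 0, 0, 0, 0, (-303), (-174), (-40), 56, 227, 26, 39, 102, 245, (-10), (-5), 0, 0, (-4), (-1), 3, (-5), 3, 3, 0, 2, 0, 0, 2, 0, 0, 0, 0, 0, 3])) (.leaf ([100615, 158545, 832182, (-283256), 126306, 64183, (-518), (-155060), (-396374),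 76159, (-25408), 179688, (-280910), 74929, (-49106), (-7966), (-60851), (-558360), (-636720), (-117120), 75407, 132053, (-518558), 459398, 140792, 265487, 150200, 125934, (-8268), (-100082), (-118355), 6298, 7217, 22888, (-5325), (-14988), 58844, (-41960), 0, 0, 0, 0, 0, 0, 0, 18735, 28638, 863, (-12240), (-3640), (-3738), 5008, 2406, 7468, (-5194), 299, 11, (-299), 45, (-129), 244, 572, 44, 28, (-199), 66, (-559), (-14), 0, 2, 1, (-1), 0, 3, 3, 0, 2, (-1), 1, (-6), 2, 0, (-2)]))))

/-- data -/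
def val0_1111 : Trie (Vec) := .node (.node (.node (.node (.leaf ([])) (.leaf ([(-24133), (-33135), (-168394), 49961, (-16132), (-13944), 3734, 22667, 83406, (-13944), 4636, (-39102), 58937, (-13216), 10088, (-3669), 10208, 114035, 124833, 22181, (-13370), (-18080), 97654, (-93880), (-28895), (-54348), (-32472), (-30404), 3650, 23459, 25062, (-1251), (-2191), (-5280), (-18), 3559, (-12224), 8315, 0, 0, 0, 0, 0, 0, 0, (-2178), (-4590), 125, 1996, (-72), 709, (-1055), (-813), (-2075), 1007, 32, 9, 26, 17, 24, (-24), (-47), 6, (-24), (-18), (-9), 41, (-2), 1, 0, 0, 0, 0, 0, 0, 0, 1, 0, 0, 0, (-1)]))) (.leaf ([]))) (.node (.node (.leaf ([])) (.leaf ([664165, 906596, 4560830, (-1387111), 468978, 382448, (-95058), (-630362), (-2287177), 386617, (-134657), 1071068, (-1573274), 373395, (-308765), 141076, (-235031), (-3147909), (-3514522), (-616192), 344910, 492183, (-2761869), 2622319, 800239, 1503991, 932604, 846400, (-103480), (-601733), (-685908), 35614, 55521, 134318,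 (-13556), (-109521), 340780, (-225135), 0, 0, 0, 0, 0, 0, 0, 59303, 116120, (-181), (-50087), (-3800), (-17665), 29636, 24277, 54686, (-27772), (-783), 205, (-1120), (-428), (-647), 660, (-393), 88, 525, 73, 719, (-241), (-10), (-7), 1, 0, 5, 4, 1, (-6), (-10), 11, (-7), 23, (-18), 11, 3, (-7)]))) (.leaf ([])))) (.node (.node (.node (.leaf ([])) (.leaf ([112037, 144070, 662643, (-180832), 50778, 53820, (-22482), (-63565), (-344723), 49717, (-22069), 163886, (-237274), 53759, (-50785), 37495, (-31023), (-464358), (-510382), (-88180), 40729, 42456, (-383954), 392390, 120483, 226169, 147493, 138682, (-19539), (-94727), (-105556), 4212, 11471, 20324, (-949), (-19627), 52250, (-32180), 0, 0, 0, 0, 0, 0, 0, 3033, 11788, (-652), (-5374), 2101, (-2125), 4554, 5226, 10346, (-3831), (-333), 42, (-138), (-128), (-76), 55, (-378), 7, 111, 101, 155, 204, (-6), (-2), 0, 0, 0, 0, 1, 0, 0, 1, 0, 5, 0, (-1), (-1)]))) (.leaf ([0, 0, 0, 0, 0, 0, 0, 0, 0, 0, 0, 0, 0, 0, 0, 0, 0, 0, 0,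 0, 0, 0, 0, 0, 0, 0, 0, 0, 0, 0, 0, 0, 0, 0, 0, 0, 0, 0, 0, 0, 0, 0, 0, 0, 0, 0, 0, 0, 0, 0, 0, 0, 0, 0, 0, 0, 0, 0, 0, 0, 0, 0, 0, 0, 0, 0, 0, 0, 0, 0, 0, 0, 0, 0, 1]))) (.node (.leaf ([])) (.leaf ([(-32393), (-46564), (-234994), 75388, (-30413), (-18547), 2171, 37401, 114949, (-20607), 7476, (-52863), 81255, (-20120), 15273, (-2213), 14851, 159727, 178210, 33131, (-20431), (-30607), 143148, (-132146), (-40746), (-76277), (-44989), (-40046), 4503, 31265, 34000, (-1377), (-2649), (-6865), 781, 4829, (-16964), 11633, 0, 0, 0, 0, 0, 0, 0, (-4005), (-7167), 19, 3094, 458, 1049, (-1517), (-1051), (-2598), 1472, 2, (-1), 60, 11, 35, (-45), (-68), (-1), (-24), 7, (-25), 75, 0, 1, 0, 0, 0, 0, 0, 0, 0, 0, 0, (-1), 1]))))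

/-- data -/
def val0 : Trie (Vec) := .node (.node (.node (.node (val0_0000) (val0_0001)) (.node (val0_0010) (val0_0011))) (.node (.node (val0_0100) (val0_0101)) (.node (val0_0110) (val0_0111)))) (.node (.node (val0_100) (val0_101)) (.node (val0_110) (.node (val0_1110) (val0_1111))))

/-- data -/
def rank0 : Trie (ℕ) := .node (.node (.node (.node (.node (.node (.node (.node (.leaf 0) (.leaf 23)) (.leaf 36)) (.node (.node (.leaf 9) (.leaf 27)) (.leaf 19))) (.node (.node (.node (.leaf 0) (.leaf 25)) (.leaf 80)) (.node (.leaf 0) (.leaf 81)))) (.node (.node (.node (.node (.leaf 4) (.leaf 24)) (.leaf 37)) (.node (.node (.leaf 0) (.leaf 29)) (.leaf 77))) (.node (.node (.node (.leaf 0) (.leaf 0)) (.leaf 0)) (.node (.leaf 13) (.leaf 21))))) (.node (.node (.node (.node (.node (.leaf 0) (.leaf 55)) (.leaf 15)) (.node (.node (.leaf 0) (.leaf 51)) (.leaf 86))) (.node (.node (.node (.leaf 0) (.leaf 26)) (.leaf 17)) (.node (.leaf 12) (.leaf 32)))) (.node (.node (.node (.node (.leaf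 5) (.leaf 0)) (.leaf 48)) (.node (.node (.leaf 0) (.leaf 45)) (.leaf 54))) (.node (.node (.node (.leaf 57) (.leaf 0)) (.leaf 0)) (.node (.leaf 71) (.leaf 22)))))) (.node (.node (.node (.node (.node (.node (.leaf 3) (.leaf 75)) (.leaf 0)) (.node (.node (.leaf 0) (.leaf 0)) (.leaf 0))) (.node (.node (.node (.leaf 6) (.leaf 50)) (.leaf 72)) (.node (.leaf 47) (.leaf 20)))) (.node (.node (.node (.node (.leaf 0) (.leaf 82)) (.leaf 16)) (.node (.node (.leaf 59) (.leaf 30)) (.leaf 31))) (.node (.node (.node (.leaf 8) (.leaf 39)) (.leaf 18)) (.node (.leaf 0) (.leaf 0))))) (.node (.node (.node (.node (.node (.leaf 0) (.leaf 84)) (.leaf 0)) (.node (.node (.leaf 10) (.leaf 28)) (.leaf 79))) (.node (.node (.node (.leaf 7) (.leaf 85)) (.leaf 49)) (.node (.leaf 46) (.leaf 0)))) (.node (.node (.node (.node (.leaf 1) (.leaf 83)) (.leaf 87)) (.node (.node (.leaf 11) (.leaf 52)) (.leaf 0))) (.node (.node (.node (.leaf 0) (.leaf 76)) (.leaf 0)) (.node (.leaf 14) (.leaf 42))))))) (.node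 (.node (.node (.node (.node (.node (.node (.leaf 0) (.leaf 0)) (.leaf 68)) (.node (.node (.leaf 0) (.leaf 40)) (.leaf 0))) (.node (.node (.node (.leaf 0) (.leaf 0)) (.leaf 0)) (.node (.leaf 0) (.leaf 70)))) (.node (.node (.node (.node (.leaf 0) (.leaf 0)) (.leaf 0)) (.node (.node (.leaf 0) (.leaf 33)) (.leaf 0))) (.node (.node (.node (.leaf 0) (.leaf 64)) (.leaf 0)) (.node (.leaf 0) (.leaf 0))))) (.node (.node (.node (.node (.node (.leaf 0) (.leaf 67)) (.leaf 0)) (.node (.node (.leaf 0) (.leaf 41)) (.leaf 0))) (.node (.node (.node (.leaf 0) (.leaf 0)) (.leaf 34)) (.node (.leaf 0) (.leaf 0)))) (.node (.node (.node (.node (.leaf 0) (.leaf 44)) (.leaf 0)) (.node (.node (.leaf 0) (.leaf 88)) (.leaf 53))) (.node (.node (.node (.leaf 0) (.leaf 73)) (.leaf 0)) (.node (.leaf 0) (.leaf 0)))))) (.node (.node (.node (.node (.node (.node (.leaf 0) (.leaf 65)) (.leaf 0)) (.node (.node (.leaf 0) (.leaf 69)) (.leaf 61))) (.node (.node (.node (.leaf 0) (.leaf 43)) (.leaf 0)) (.node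 (.leaf 0) (.leaf 0)))) (.node (.node (.node (.node (.leaf 0) (.leaf 0)) (.leaf 0)) (.node (.node (.leaf 0) (.leaf 0)) (.leaf 66))) (.node (.node (.node (.leaf 0) (.leaf 35)) (.leaf 0)) (.node (.leaf 0) (.leaf 0))))) (.node (.node (.node (.node (.node (.leaf 0) (.leaf 60)) (.leaf 0)) (.node (.node (.leaf 0) (.leaf 0)) (.leaf 0))) (.node (.node (.node (.leaf 0) (.leaf 63)) (.leaf 0)) (.node (.leaf 58) (.leaf 78)))) (.node (.node (.node (.node (.leaf 0) (.leaf 62)) (.leaf 0)) (.node (.node (.leaf 0) (.leaf 89)) (.leaf 0))) (.node (.node (.node (.leaf 0) (.leaf 74)) (.leaf 38)) (.node (.leaf 2) (.leaf 56)))))))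

/-- data -/
def tree0 : Trie (ℕ × ℕ) := .node (.node (.node (.node (.node (.node (.node (.leaf (0, 0)) (.leaf (49, 0))) (.leaf (20, 1))) (.node (.node (.leaf (10, 0)) (.leaf (70, 0))) (.leaf (35, 0)))) (.node (.node (.node (.leaf (4, 1)) (.leaf (59, 0))) (.leaf (26, 1))) (.node (.leaf (15, 1)) (.leaf (43, 1))))) (.node (.node (.node (.node (.leaf (2, 0)) (.leaf (55, 0))) (.leaf (23, 1))) (.node (.node (.leaf (12, 1)) (.leaf (78, 0))) (.leaf (38, 1)))) (.node (.node (.node (.leaf (7, 1)) (.leaf (62, 1))) (.leaf (30, 1))) (.node (.leaf (18, 0)) (.leaf (46, 0)))))) (.node (.node (.node (.node (.node (.leaf (0, 1)) (.leaf (51, 1))) (.leaf (22, 0))) (.node (.node (.leaf (11, 1)) (.leaf (74, 1))) (.leaf (36, 1)))) (.node (.node (.node (.leaf (5, 1)) (.leaf (61, 0))) (.leaf (29, 0))) (.node (.leaf (17, 0)) (.leaf (44, 1))))) (.node (.node (.node (.node (.leaf (3, 0)) (.leaf (57, 1))) (.leaf (24, 1))) (.node (.node (.leaf (14, 1)) (.leaf (83, 1))) (.leaf (40, 1)))) (.node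 (.node (.node (.leaf (8, 1)) (.leaf (68, 1))) (.leaf (33, 1))) (.node (.leaf (19, 1)) (.leaf (47, 0))))))) (.node (.node (.node (.node (.node (.node (.leaf (0, 0)) (.leaf (50, 1))) (.leaf (21, 1))) (.node (.node (.leaf (10, 1)) (.leaf (72, 1))) (.leaf (35, 1)))) (.node (.node (.node (.leaf (5, 0)) (.leaf (60, 1))) (.leaf (28, 1))) (.node (.leaf (16, 1)) (.leaf (44, 0))))) (.node (.node (.node (.node (.leaf (2, 1)) (.leaf (55, 1))) (.leaf (24, 0))) (.node (.node (.leaf (13, 1)) (.leaf (81, 0))) (.leaf (39, 1)))) (.node (.node (.node (.leaf (8, 0)) (.leaf (64, 1))) (.leaf (33, 0))) (.node (.leaf (18, 1)) (.leaf (46, 1)))))) (.node (.node (.node (.node (.node (.leaf (1, 1)) (.leaf (52, 1))) (.leaf (22, 1))) (.node (.node (.leaf (12, 0)) (.leaf (76, 0))) (.leaf (37, 1)))) (.node (.node (.node (.leaf (6, 1)) (.leaf (61, 1))) (.leaf (29, 1))) (.node (.leaf (17, 1)) (.leaf (45, 1))))) (.node (.node (.node (.node (.leaf (3, 1)) (.leaf (58, 1))) (.leaf (25, 1))) (.node (.node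 (.leaf (15, 0)) (.leaf (85, 1))) (.leaf (41, 1)))) (.node (.node (.node (.leaf (9, 1)) (.leaf (69, 1))) (.leaf (34, 1))) (.node (.leaf (20, 0)) (.leaf (48, 1)))))))

/-- data -/
def cert0 : Trie (ℕ × ℕ × ℕ) := .node (.node (.node (.node (.node (.node (.node (.leaf (0, 0, 3)) (.leaf (3, 49, 8))) (.leaf (4, 0, 11))) (.node (.node (.leaf (2, 29, 1)) (.leaf (2, 52, 1))) (.leaf (2, 32, 1)))) (.node (.node (.node (.leaf (2, 10, 1)) (.leaf (8, 30, 3))) (.leaf (12, 0, 10))) (.node (.node (.leaf (2, 59, 1)) (.leaf (4, 48, 30))) (.leaf (3, 14, 15))))) (.node (.node (.node (.node (.leaf (2, 3, 1)) (.leaf (3, 20, 8))) (.leaf (8, 15, 2))) (.node (.node (.leaf (2, 46, 1)) (.leaf (3, 33, 3))) (.leaf (3, 2, 6)))) (.node (.node (.node (.leaf (2, 18, 1)) (.leaf (15, 49, 40))) (.leaf (16, 0, 11))) (.node (.leaf (2, 78, 1)) (.leaf (3, 35, 1)))))) (.node (.node (.node (.node (.node (.leaf (2, 0, 1)) (.leaf (8, 22, 5))) (.leaf (6, 0, 9))) (.node (.node (.leaf (2, 35, 1)) (.leaf (2, 71,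 0))) (.leaf (2, 77, 1)))) (.node (.node (.node (.leaf (2, 15, 1)) (.leaf (9, 65, 125))) (.leaf (14, 0, 9))) (.node (.leaf (2, 70, 1)) (.leaf (3, 21, 15))))) (.node (.node (.node (.node (.leaf (2, 7, 1)) (.leaf (8, 12, 2))) (.leaf (10, 0, 9))) (.node (.node (.leaf (2, 49, 1)) (.leaf (4, 5, 32))) (.leaf (3, 6, 7)))) (.node (.node (.node (.leaf (2, 22, 1)) (.leaf (17, 34, 121))) (.leaf (2, 25, 0))) (.node (.leaf (3, 0, 7)) (.leaf (3, 46, 2))))))) (.node (.node (.node (.node (.node (.node (.leaf (1, 0, 6)) (.leaf (3, 61, 8))) (.leaf (5, 0, 7))) (.node (.node (.leaf (2, 33, 1)) (.leaf (2, 65, 1))) (.leaf (2, 63, 1)))) (.node (.node (.node (.leaf (2, 12, 1)) (.leaf (3, 55, 2))) (.leaf (13, 0, 8))) (.node (.leaf (2, 61, 1)) (.leaf (3, 17, 1))))) (.node (.node (.node (.node (.leaf (2, 5, 1)) (.leaf (3, 29, 2))) (.leaf (9, 0, 7))) (.node (.node (.leaf (2, 47, 1)) (.leaf (4, 1, 93))) (.leaf (3, 3, 7)))) (.node (.node (.node (.leaf (2, 20, 1)) (.leaf (15, 61, 132))) (.leaf (17,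 0, 5))) (.node (.leaf (2, 81, 1)) (.leaf (3, 44, 2)))))) (.node (.node (.node (.node (.node (.leaf (2, 2, 1)) (.leaf (3, 12, 2))) (.leaf (7, 0, 6))) (.node (.node (.leaf (2, 44, 1)) (.leaf (3, 24, 3))) (.leaf (2, 86, 1)))) (.node (.node (.node (.leaf (2, 17, 1)) (.leaf (11, 13, 65))) (.leaf (15, 0, 9))) (.node (.leaf (2, 76, 1)) (.leaf (3, 27, 12))))) (.node (.node (.node (.node (.leaf (2, 8, 1)) (.leaf (8, 18, 2))) (.leaf (11, 0, 10))) (.node (.node (.leaf (2, 55, 1)) (.leaf (4, 47, 4))) (.leaf (3, 8, 5)))) (.node (.node (.node (.leaf (2, 24, 1)) (.leaf (17, 55, 88))) (.leaf (2, 27, 1))) (.node (.leaf (3, 1, 7)) (.leaf (3, 47, 13)))))))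

/-- data -/
def pot0 : Trie (Vec) := .node (.node (.node (.node (.node (.node (.node (.leaf ([])) (.leaf ([2, 6]))) (.leaf ([1, 5]))) (.node (.node (.leaf ([1, 3])) (.leaf ([4, 6]))) (.leaf ([2, 5])))) (.node (.node (.node (.leaf ([1, 2])) (.leaf ([4, 5]))) (.leaf ([1, 5]))) (.node (.leaf ([1, 4])) (.leaf ([2, 6]))))) (.node (.node (.node (.node (.leaf ([1, 1])) (.leaf ([4, 5]))) (.leaf ([2, 4]))) (.node (.node (.leaf ([1, 4])) (.leaf ([5, 6]))) (.leaf ([1, 6])))) (.node (.node (.node (.leaf ([1, 3])) (.leaf ([3, 6]))) (.leaf ([2, 5]))) (.node (.leaf ([3, 3])) (.leaf ([3, 5])))))) (.node (.node (.node (.node (.node (.leaf ([0, 1])) (.leaf ([2, 6]))) (.leaf ([2, 4]))) (.node (.node (.leaf ([2, 3])) (.leaf ([3, 7]))) (.leaf ([2, 5])))) (.node (.node (.node (.leaf ([0, 3])) (.leaf ([3, 6]))) (.leaf ([3, 4]))) (.node (.leaf ([1, 4])) (.leaf ([2, 6]))))) (.node (.node (.node (.node (.leaf ([2, 1])) (.leaf ([3, 6]))) (.leaf ([1, 5]))) (.node (.node (.leaf ([1, 4])) (.leaf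 ([4, 7]))) (.leaf ([1, 6])))) (.node (.node (.node (.leaf ([1, 3])) (.leaf ([4, 6]))) (.leaf ([2, 5]))) (.node (.leaf ([2, 4])) (.leaf ([3, 5]))))))) (.node (.node (.node (.node (.node (.node (.leaf ([1])) (.leaf ([2, 6]))) (.leaf ([2, 4]))) (.node (.node (.leaf ([0, 4])) (.leaf ([4, 6]))) (.leaf ([1, 6])))) (.node (.node (.node (.leaf ([1, 2])) (.leaf ([3, 6]))) (.leaf ([3, 4]))) (.node (.leaf ([1, 4])) (.leaf ([3, 5]))))) (.node (.node (.node (.node (.leaf ([0, 2])) (.leaf ([3, 6]))) (.leaf ([2, 4]))) (.node (.node (.leaf ([2, 3])) (.leaf ([5, 6]))) (.leaf ([1, 6])))) (.node (.node (.node (.leaf ([2, 2])) (.leaf ([2, 7]))) (.leaf ([3, 4]))) (.node (.leaf ([2, 4])) (.leaf ([2, 6])))))) (.node (.node (.node (.node (.node (.leaf ([1, 1])) (.leaf ([1, 7]))) (.leaf ([1, 5]))) (.node (.node (.leaf ([2, 3])) (.leaf ([4, 6]))) (.leaf ([2, 5])))) (.node (.node (.node (.leaf ([2, 2])) (.leaf ([2, 7]))) (.leaf ([2, 5]))) (.node (.leaf ([0, 5])) (.leaf ([3, 5]))))) (.node (.node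 (.node (.node (.leaf ([1, 2])) (.leaf ([2, 7]))) (.leaf ([1, 5]))) (.node (.node (.leaf ([2, 3])) (.leaf ([5, 7]))) (.leaf ([3, 5])))) (.node (.node (.node (.leaf ([1, 3])) (.leaf ([3, 7]))) (.leaf ([2, 5]))) (.node (.leaf ([2, 4])) (.leaf ([2, 6])))))))

/-- the table -/
def table0 : Table where
  size := 88
  ngen := 2
  next g x := next0.getK (2 * g + x)
  prev g x := prev0.getK (2 * g + x)
  lab g x := lab0.getK (2 * g + x)
  val g x := val0.getK (2 * g + x)
  rank g x := rank0.getK (2 * g + x)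
  tree g := tree0.getK g
  cert j := cert0.getK j
  nded := 89
  rels := [⟨[(0, true), (1, true), (1, true), (0, true), (1, false), (0, false), (1, false), (0, false)], [(0, true)], []⟩,
    ⟨[(0, true), (1, true), (1, true), (1, true), (1, true), (0, true), (1, true), (0, false), (1, false), (1, false), (1, false), (1, false)], [(1, true)], []⟩,
    ⟨[(0, true), (0, true)], [], [0, 0, 0, 0, 0, 0, 0, 0, 0, 0, 0, 0, 0, 0, 0, 0, 0, 0, 0, 0, 0, 0, 0, 0, 0, 0, 0, 0, 0, 0, 0, 0, 0, 0, 0, 0, 0, 0, 0, 0, 0, 0, 0, 0, 0, 0, 0, 0, 0, 0, 0, 0, 0, 0, 0, 0, 0, 0, 0, 0, 0, 0, 0, 0, 0, 0, 0, 1]⟩,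
    ⟨[(1, true), (1, true), (1, true), (0, true), (1, true), (1, true), (1, true), (0, true), (1, false), (1, false), (1, false), (0, false), (1, false), (1, false), (1, false), (0, false)], [], [0, 0, 0, 0, 0, 0, 0, 0, 0, 0, 0, 0, 0, 0, 0, 0, 0, 0, 0, 0, 0, 0, 0, 0, 0, 0, 0, 0, 0, 0, 0, 0, 0, 0, 0, 0, 0, 0, 0, 0, 0, 0, 0, 0, 0, 0, 0, 0, 0, 0, 0, 0, 0, 0, 0, 0, 0, 0, 0, 0, 0, 0, 0, 0, 0, 0, 0, 0, 1]⟩,
    ⟨[(0, true), (1, true), (0, true), (1, true), (1, true), (0, true), (1, true), (1, true), (0, true), (1, true), (0, true), (1, true), (0, false), (1, false), (1, false), (0, false), (1, true), (0, true), (1, false), (0, false), (1, false), (0, false), (1, true), (1, true), (1, true), (1, true), (0, true), (1, false), (0, false), (1, false), (1, false), (1, false), (0, true), (1, true), (0, false), (1, false), (0, true), (1, true), (0, false), (1, true), (1, true), (0, true), (1, true), (0, false), (1, false), (1, false), (1, false), (1, false), (0, true), (1, true),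 (1, true), (1, true), (1, true), (0, true), (1, true), (0, false), (1, false), (1, false), (1, false), (1, false), (0, true), (1, true), (1, true), (1, true), (1, true), (0, true), (1, true), (0, false), (1, false), (1, false), (1, false), (1, false), (0, true), (1, true), (1, true), (1, true), (1, true), (0, true), (1, true), (0, false), (1, false), (1, false), (1, false), (1, false), (0, true), (1, true), (0, true), (1, true), (0, false), (1, true), (1, true), (0, true), (1, true), (0, false), (1, false), (1, false), (1, false), (1, false), (0, true), (1, true), (0, true), (1, true), (0, false), (1, false), (1, false), (0, false)], [], [0, 0, 0, 0, 0, 0, 0, 0, 0, 0, 0, 0, 0, 0, 0, 0, 0, 0, 0, 0, 0, 0, 0, 0, 0, 0, 0, 0, 0, 0, 0, 0, 0, 0, 0, 0, 0, 0, 0, 0, 0, 0, 0, 0, 0, 0, 0, 0, 0, 0, 0, 0, 0, 0, 0, 0, 0, 0, 0, 0, 0, 0, 0, 0, 0, 0, 0, 0, 0, 1]⟩,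
    ⟨[(0, true), (1, true), (0, true), (1, true), (1, true), (1, true), (0, true), (1, true), (0, false), (1, false), (1, false), (0, false), (1, true), (1, true), (0, true), (1, false), (0, false), (1, false), (1, false), (1, false), (0, true), (1, true), (0, false), (1, false), (1, false), (0, false), (1, true), (1, true), (1, true), (1, true), (0, true), (1, false), (0, false), (1, false), (1, false), (1, false), (0, true), (1, true), (0, false), (1, false), (0, true), (1, true), (0, false), (1, true), (1, true), (0, true), (1, true), (0, false), (1, false), (1, false), (1, false), (1, false), (0, true), (1, true), (0, true), (1, true), (0, false), (1, false), (1, false), (0, false), (1, true), (1, true), (1, true), (1, true), (0, true), (1, false), (0, false), (1, false), (1, false), (1, false), (1, false), (0, false), (1, true), (1, true), (1, true), (1, true), (0, true), (1, false), (0, false), (1, false), (1, false), (1, false), (0, true), (1, true), (0, false),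 (1, false), (1, false), (0, false), (1, true), (1, true), (1, true), (1, true), (0, true), (1, false), (0, false), (1, false), (1, false), (0, true), (1, false), (0, false), (1, true), (1, true), (1, true), (0, true), (1, true), (0, false), (1, false), (1, false), (1, false), (1, false), (0, true), (1, true), (0, true), (1, true), (0, false), (1, false), (1, false), (0, false)], [], [0, 0, 0, 0, 0, 0, 0, 0, 0, 0, 0, 0, 0, 0, 0, 0, 0, 0, 0, 0, 0, 0, 0, 0, 0, 0, 0, 0, 0, 0, 0, 0, 0, 0, 0, 0, 0, 0, 0, 0, 0, 0, 0, 0, 0, 0, 0, 0, 0, 0, 0, 0, 0, 0, 0, 0, 0, 0, 0, 0, 0, 0, 0, 0, 0, 0, 0, 0, 0, 0, 1]⟩,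
    ⟨[(1, true), (0, true), (1, true), (1, true), (1, true), (1, true), (1, true), (0, true), (1, true), (1, true), (0, false), (1, false), (1, false), (1, false), (0, true), (1, true), (1, true), (1, true), (1, true), (0, true), (1, true), (0, false), (1, false), (1, false), (1, false), (1, false), (0, true), (1, true), (0, true), (1, true), (0, false), (1, true), (1, true), (0, true), (1, true), (0, false), (1, false), (1, false), (1, false), (1, false), (0, true), (1, true), (0, true), (1, true), (0, false), (1, false), (0, true), (1, true), (0, false), (1, true), (1, true), (0, true), (1, true), (0, false), (1, false), (1, false), (1, false), (1, false), (0, true), (1, true), (0, true), (1, true), (0, false), (1, false), (1, false), (0, false), (1, true), (1, true), (1, true), (1, true), (0, true), (1, false), (0, false), (1, false), (1, false), (1, false), (0, true), (1, true), (0, false), (1, false), (1, false), (0, false), (1, true), (1, true), (1, true), (1,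 true), (0, true), (1, false), (0, false), (1, false), (1, false), (1, false), (1, false), (0, false), (1, true), (1, true), (1, true), (1, true), (0, true), (1, false), (0, false), (1, false), (1, false), (0, true), (1, false), (0, false), (1, false), (0, false), (1, true), (1, true), (1, true), (1, true), (0, true), (1, false), (0, false), (1, false), (1, false), (0, true), (1, false), (0, false), (1, false), (0, false)], [], [0, 0, 0, 0, 0, 0, 0, 0, 0, 0, 0, 0, 0, 0, 0, 0, 0, 0, 0, 0, 0, 0, 0, 0, 0, 0, 0, 0, 0, 0, 0, 0, 0, 0, 0, 0, 0, 0, 0, 0, 0, 0, 0, 0, 0, 0, 0, 0, 0, 0, 0, 0, 0, 0, 0, 0, 0, 0, 0, 0, 0, 0, 0, 0, 0, 0, 0, 0, 0, 0, 0, 1]⟩,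
    ⟨[(0, true), (1, true), (1, true), (1, true), (1, true), (1, true), (0, true), (1, false), (1, false), (1, false), (1, false), (0, false), (1, true), (0, true), (1, false), (0, false), (1, false), (0, false), (1, true), (1, true), (1, true), (1, true), (0, true), (1, false), (0, false), (1, false), (1, false), (0, true), (1, false), (0, false), (1, true), (1, true), (1, true), (0, true), (1, true), (0, false), (1, false), (1, false), (1, false), (1, false), (0, true), (1, true), (0, true), (1, true), (0, false), (1, true), (1, true), (0, true), (1, true), (0, false), (1, false), (1, false), (1, false), (1, false), (0, true), (1, true), (1, true), (1, true), (1, true), (0, true), (1, true), (0, false), (1, false), (1, false), (1, false), (1, false), (0, true), (1, true), (0, true), (1, true), (0, false), (1, true), (1, true), (0, true), (1, true), (0, false), (1, false), (1, false), (1, false), (1, false), (0, true), (1, true), (1, true), (0, true), (1, false),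 (0, false), (1, false), (0, false), (1, true), (1, true), (1, true), (1, true), (0, true), (1, false), (0, false), (1, false), (1, false), (0, true), (1, false), (0, false), (1, false), (0, false), (1, true), (1, true), (1, true), (1, true), (0, true), (1, false), (0, false), (1, false), (1, false), (0, true), (1, false), (0, false), (1, true), (1, true), (1, true), (0, true), (1, true), (0, false), (1, false), (1, false), (1, false), (1, false)], [], [0, 0, 0, 0, 0, 0, 0, 0, 0, 0, 0, 0, 0, 0, 0, 0, 0, 0, 0, 0, 0, 0, 0, 0, 0, 0, 0, 0, 0, 0, 0, 0, 0, 0, 0, 0, 0, 0, 0, 0, 0, 0, 0, 0, 0, 0, 0, 0, 0, 0, 0, 0, 0, 0, 0, 0, 0, 0, 0, 0, 0, 0, 0, 0, 0, 0, 0, 0, 0, 0, 0, 0, 1]⟩,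
    ⟨[(0, true), (1, true), (0, true), (1, false), (0, true), (1, true), (0, true), (1, false), (0, true), (1, true), (0, true), (1, false), (0, true), (1, true), (0, true), (1, false)], [], [0, 0, 0, 0, 0, 0, 0, 0, 0, 0, 0, 0, 0, 0, 0, 0, 0, 0, 0, 0, 0, 0, 0, 0, 0, 0, 0, 0, 0, 0, 0, 0, 0, 0, 0, 0, 0, 0, 0, 0, 0, 0, 0, 0, 0, 0, 0, 0, 0, 0, 0, 0, 0, 0, 0, 0, 0, 0, 0, 0, 0, 0, 0, 0, 0, 0, 0, 0, 0, 0, 0, 0, 0, 1]⟩,
    ⟨[(1, true), (0, true), (1, true), (1, true), (1, true), (0, true), (1, true), (1, true), (0, false), (1, false), (1, false), (1, false), (0, false), (1, false), (0, true), (1, true), (0, true), (1, true), (0, false), (1, false), (0, true), (1, true), (0, false), (1, false), (1, false), (0, false), (1, true), (1, true), (1, true), (1, true), (0, true), (1, false), (0, false), (1, false), (1, false), (0, true), (1, false), (0, false), (1, true), (1, true), (1, true), (0, true), (1, true), (0, false), (1, false), (1, false), (1, false), (1, false), (0, true),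 (1, true), (1, true), (0, true), (1, false), (0, false), (1, false), (0, false), (1, true), (1, true), (1, true), (1, true), (0, true), (1, false), (0, false), (1, false), (1, false), (0, true), (1, false), (0, false), (1, true), (1, true), (1, true), (0, true), (1, true), (0, false), (1, false), (1, false), (1, false), (1, false), (0, true), (1, true), (1, true), (1, true), (1, true), (0, true), (1, true), (0, false), (1, false), (1, false), (1, false), (1, false), (0, true), (1, true), (1, true), (0, true), (1, false), (0, false), (1, true), (1, true), (1, true), (0, true), (1, true), (0, false), (1, false), (1, false), (1, false), (1, false), (0, true), (1, true), (1, true), (0, true), (1, false), (0, false), (1, false), (0, false), (1, true), (1, true), (1, true), (1, true), (0, true), (1, false), (0, false), (1, false), (1, false), (1, false), (1, false), (0, false)], [], [0, 0, 0, 0, 0, 0, 0, 0, 0, 0, 0, 0, 0, 0, 0, 0, 0, 0, 0, 0, 0, 0, 0, 0, 0, 0, 0, 0, 0,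 0, 0, 0, 0, 0, 0, 0, 0, 0, 0, 0, 0, 0, 0, 0, 0, 0, 0, 0, 0, 0, 0, 0, 0, 0, 0, 0, 0, 0, 0, 0, 0, 0, 0, 0, 0, 0, 0, 0, 0, 0, 0, 0, 0, 0, 1]⟩,
    ⟨[(1, true), (0, true), (1, true), (1, true), (1, true), (1, true), (1, true), (0, true), (1, true), (0, true), (1, false), (0, false), (1, false), (1, false), (1, false), (1, false), (0, false), (1, false), (0, false), (1, false), (0, true), (1, true), (1, true), (0, true), (1, false), (0, false), (1, false), (0, false), (1, true), (1, true), (1, true), (1, true), (0, true), (1, false), (0, false), (1, false), (1, false), (0, true), (1, false), (0, false), (1, true), (1, true), (1, true), (0, true), (1, true), (0, false), (1, false), (1, false), (1, false), (1, false), (0, true), (1, true), (0, true), (1, true), (0, false), (1, false), (1, false), (0, false), (1, true), (1, true), (1, true), (1, true), (0, true), (1, false), (0, false), (1, false), (1, false), (1, false), (0, true), (1, true), (0, false), (1, false), (0,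 true), (1, true), (0, false), (1, true), (1, true), (0, true), (1, true), (0, false), (1, false), (1, false), (1, false), (1, false), (0, true), (1, true), (1, true), (0, true), (1, false), (0, false), (1, false), (0, false), (1, true), (1, true), (1, true), (1, true), (0, true), (1, false), (0, false), (1, false), (1, false), (1, false), (0, true), (1, true), (0, false), (1, true), (1, true), (0, true), (1, true), (0, false), (1, false), (1, false), (1, false), (1, false), (0, true), (1, true), (0, true), (1, true), (0, false), (1, false), (0, true), (1, true), (0, false), (1, false), (1, false), (0, false)], [], [0, 0, 0, 0, 0, 0, 0, 0, 0, 0, 0, 0, 0, 0, 0, 0, 0, 0, 0, 0, 0, 0, 0, 0, 0, 0, 0, 0, 0, 0, 0, 0, 0, 0, 0, 0, 0, 0, 0, 0, 0, 0, 0, 0, 0, 0, 0, 0, 0, 0, 0, 0, 0, 0, 0, 0, 0, 0, 0, 0, 0, 0, 0, 0, 0, 0, 0, 0, 0, 0, 0, 0, 0, 0, 0, 1]⟩,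
    ⟨[(0, true), (1, true), (1, true), (1, true), (0, true), (1, true), (1, true), (0, true), (1, true), (0, true), (1, true), (0, false), (1, true), (0, true), (1, true), (0, false), (1, false), (1, false), (1, false), (1, false), (0, true), (1, true), (0, true), (1, true), (0, false), (1, true), (1, true), (0, true), (1, true), (0, false), (1, false), (1, false), (1, false), (1, false), (0, true), (1, true), (1, true), (1, true), (1, true), (0, true), (1, true), (0, false), (1, false), (1, false), (1, false), (1, false), (0, true), (1, true), (0, true), (1, true), (0, false), (1, false), (1, false), (0, false), (1, true), (1, true), (1, true), (1, true), (0, true), (1, false), (0, false), (1, false), (1, false), (0, true), (1, false), (0, false), (1, false), (0, false), (1, true), (1, true), (1, true), (1, true), (0, true), (1, false), (0, false), (1, false), (1, false), (1, false), (0, true), (1, true), (0, false), (1, true), (1, true), (0, true), (1, true), (0,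 false), (1, false), (1, false), (1, false), (1, false), (0, true), (1, true), (0, true), (1, true), (0, false), (1, false), (0, true), (1, true), (0, false), (1, false), (1, false), (0, false), (1, true), (1, true), (1, true), (1, true), (0, true), (1, false), (0, false), (1, false), (1, false), (1, false), (0, true), (1, true), (0, false), (1, false), (1, false), (0, false), (1, true), (1, true), (1, true), (1, true), (0, true), (1, false), (0, false), (1, false), (1, false), (1, false), (1, false), (0, false)], [], [0, 0, 0, 0, 0, 0, 0, 0, 0, 0, 0, 0, 0, 0, 0, 0, 0, 0, 0, 0, 0, 0, 0, 0, 0, 0, 0, 0, 0, 0, 0, 0, 0, 0, 0, 0, 0, 0, 0, 0, 0, 0, 0, 0, 0, 0, 0, 0, 0, 0, 0, 0, 0, 0, 0, 0, 0, 0, 0, 0, 0, 0, 0, 0, 0, 0, 0, 0, 0, 0, 0, 0, 0, 0, 0, 0, 1]⟩,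
    ⟨[(1, true), (0, true), (1, true), (0, true), (1, true), (1, true), (1, true), (1, true), (0, true), (1, true), (1, true), (0, false), (1, false), (0, false), (1, true), (1, true), (0, true), (1, false), (0, false), (1, false), (1, false), (0, true), (1, false), (0, false), (1, false), (0, false), (1, true), (1, true), (1, true), (1, true), (0, true), (1, false), (0, false), (1, false), (1, false), (0, true), (1, false), (0, false), (1, true), (1, true), (1, true), (0, true), (1, true), (0, false), (1, false), (1, false), (1, false), (1, false), (0, true), (1, true), (1, true), (0, true), (1, false), (0, false), (1, false), (0, false), (1, true), (1, true), (1, true), (1, true), (0, true), (1, false), (0, false), (1, false), (1, false), (1, false), (0, true), (1, true), (0, false), (1, false), (1, false), (0, false), (1, true), (1, true), (1, true), (1, true), (0, true), (1, false), (0, false), (1, false), (1, false), (0, true), (1, false), (0, false), (1, false),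 (0, false), (1, true), (1, true), (1, true), (1, true), (0, true), (1, false), (0, false), (1, false), (1, false), (1, false), (0, true), (1, true), (0, false), (1, false), (0, true), (1, true), (0, false), (1, true), (1, true), (0, true), (1, true), (0, false), (1, false), (1, false), (1, false), (1, false), (0, true), (1, true), (1, true), (1, true), (1, true), (0, true), (1, true), (0, false), (1, false), (1, false), (1, false), (1, false), (0, true), (1, true), (0, true), (1, true), (0, false), (1, false), (1, false), (0, false)], [], [0, 0, 0, 0, 0, 0, 0, 0, 0, 0, 0, 0, 0, 0, 0, 0, 0, 0, 0, 0, 0, 0, 0, 0, 0, 0, 0, 0, 0, 0, 0, 0, 0, 0, 0, 0, 0, 0, 0, 0, 0, 0, 0, 0, 0, 0, 0, 0, 0, 0, 0, 0, 0, 0, 0, 0, 0, 0, 0, 0, 0, 0, 0, 0, 0, 0, 0, 0, 0, 0, 0, 0, 0, 0, 0, 0, 0, 1]⟩,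
    ⟨[(1, true), (0, true), (1, true), (1, true), (1, true), (1, true), (0, true), (1, true), (0, true), (1, false), (0, false), (1, false), (1, false), (1, false), (0, false), (1, false), (0, false), (1, false), (0, true), (1, true), (0, true), (1, true), (0, false), (1, true), (1, true), (0, true), (1, true), (0, false), (1, false), (1, false), (1, false), (1, false), (0, true), (1, true), (1, true), (0, true), (1, false), (0, false), (1, false), (0, false), (1, true), (1, true), (1, true), (1, true), (0, true), (1, false), (0, false), (1, false), (1, false), (1, false), (0, true), (1, true), (0, false), (1, false), (0, true), (1, true), (0, false), (1, true), (1, true), (0, true), (1, true), (0, false), (1, false), (1, false), (1, false), (1, false), (0, true), (1, true), (1, true), (0, true), (1, false), (0, false), (1, false), (0, false), (1, true), (1, true), (1, true), (1, true), (0, true), (1, false), (0, false), (1, false), (1, false), (1, false), (0, true),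 (1, true), (0, false), (1, false), (0, true), (1, true), (0, false), (1, true), (1, true), (0, true), (1, true), (0, false), (1, false), (1, false), (1, false), (1, false), (0, true), (1, true), (0, true), (1, true), (0, false), (1, false), (1, false), (0, false), (1, true), (1, true), (1, true), (1, true), (0, true), (1, false), (0, false), (1, false), (1, false), (1, false), (1, false), (0, false), (1, true), (1, true), (1, true), (1, true), (0, true), (1, false), (0, false), (1, false), (1, false), (1, false), (0, true), (1, true), (0, false), (1, false), (1, false), (0, false)], [], [0, 0, 0, 0, 0, 0, 0, 0, 0, 0, 0, 0, 0, 0, 0, 0, 0, 0, 0, 0, 0, 0, 0, 0, 0, 0, 0, 0, 0, 0, 0, 0, 0, 0, 0, 0, 0, 0, 0, 0, 0, 0, 0, 0, 0, 0, 0, 0, 0, 0, 0, 0, 0, 0, 0, 0, 0, 0, 0, 0, 0, 0, 0, 0, 0, 0, 0, 0, 0, 0, 0, 0, 0, 0, 0, 0, 0, 0, 1]⟩,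
    ⟨[(1, true), (0, true), (1, true), (0, true), (1, true), (1, true), (1, true), (0, true), (1, true), (1, true), (0, false), (1, false), (1, false), (1, false), (0, false), (1, false), (0, false), (1, false), (0, true), (1, true), (1, true), (0, true), (1, false), (0, false), (1, false), (0, false), (1, true), (1, true), (1, true), (1, true), (0, true), (1, false), (0, false), (1, false), (1, false), (1, false), (0, true), (1, true), (0, false), (1, false), (1, false), (0, false), (1, true), (1, true), (1, true), (1, true), (0, true), (1, false), (0, false), (1, false), (1, false), (0, true), (1, false), (0, false), (1, true), (1, true), (1, true), (0, true), (1, true), (0, false), (1, false), (1, false), (1, false), (1, false), (0, true), (1, true), (0, true), (1, true), (0, false), (1, false), (0, true), (1, true), (0, false), (1, true), (1, true), (0, true), (1, true), (0, false), (1, false), (1, false), (1, false), (1, false), (0, true), (1, true), (0, true),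 (1, true), (0, false), (1, true), (1, true), (0, true), (1, true), (0, false), (1, false), (1, false), (1, false), (1, false), (0, true), (1, true), (1, true), (0, true), (1, false), (0, false), (1, false), (0, false), (1, true), (1, true), (1, true), (1, true), (0, true), (1, false), (0, false), (1, false), (1, false), (1, false), (1, false), (0, false), (1, true), (1, true), (1, true), (1, true), (0, true), (1, false), (0, false), (1, false), (1, false), (1, false), (0, true), (1, true), (0, false), (1, false), (0, true), (1, true), (0, false), (1, false), (1, false), (0, false)], [], [0, 0, 0, 0, 0, 0, 0, 0, 0, 0, 0, 0, 0, 0, 0, 0, 0, 0, 0, 0, 0, 0, 0, 0, 0, 0, 0, 0, 0, 0, 0, 0, 0, 0, 0, 0, 0, 0, 0, 0, 0, 0, 0, 0, 0, 0, 0, 0, 0, 0, 0, 0, 0, 0, 0, 0, 0, 0, 0, 0, 0, 0, 0, 0, 0, 0, 0, 0, 0, 0, 0, 0, 0, 0, 0, 0, 0, 0, 0, 1]⟩,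
    ⟨[(0, true), (1, true), (1, true), (1, true), (0, true), (1, true), (1, true), (0, true), (1, true), (1, true), (0, false), (1, false), (1, false), (0, false), (1, false), (1, false), (1, false), (0, false), (1, true), (1, true), (1, true), (1, true), (0, true), (1, false), (0, false), (1, false), (1, false), (1, false), (1, false), (0, false), (1, true), (1, true), (1, true), (1, true), (0, true), (1, false), (0, false), (1, false), (1, false), (1, false), (0, true), (1, true), (0, false), (1, false), (1, false), (0, false), (1, true), (1, true), (1, true), (1, true), (0, true), (1, false), (0, false), (1, false), (1, false), (1, false), (0, true), (1, true), (0, false), (1, true), (1, true), (0, true), (1, true), (0, false), (1, false), (1, false), (1, false), (1, false), (0, true), (1, true), (1, true), (1, true), (1, true), (0, true), (1, true), (0, false), (1, false), (1, false), (1, false), (1, false), (0, true), (1, true), (1, true), (0, true), (1, false),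 (0, false), (1, false), (0, false), (1, true), (1, true), (1, true), (1, true), (0, true), (1, false), (0, false), (1, false), (1, false), (1, false), (0, true), (1, true), (0, false), (1, false), (1, false), (0, false), (1, true), (1, true), (1, true), (1, true), (0, true), (1, false), (0, false), (1, false), (1, false), (0, true), (1, false), (0, false), (1, true), (1, true), (1, true), (0, true), (1, true), (0, false), (1, false), (1, false), (1, false), (1, false), (0, true), (1, true), (1, true), (1, true), (1, true), (0, true), (1, true), (0, false), (1, false), (1, false), (1, false), (1, false)], [], [0, 0, 0, 0, 0, 0, 0, 0, 0, 0, 0, 0, 0, 0, 0, 0, 0, 0, 0, 0, 0, 0, 0, 0, 0, 0, 0, 0, 0, 0, 0, 0, 0, 0, 0, 0, 0, 0, 0, 0, 0, 0, 0, 0, 0, 0, 0, 0, 0, 0, 0, 0, 0, 0, 0, 0, 0, 0, 0, 0, 0, 0, 0, 0, 0, 0, 0, 0, 0, 0, 0, 0, 0, 0, 0, 0, 0, 0, 0, 0, 1]⟩,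
    ⟨[(1, true), (0, true), (1, true), (1, true), (1, true), (0, true), (1, true), (0, true), (1, true), (0, true), (1, true), (0, true), (1, false), (0, false), (1, false), (0, false), (1, false), (0, false), (1, false), (1, false), (0, false), (1, false), (0, false), (1, true), (1, true), (1, true), (0, true), (1, false), (0, false), (1, false), (1, false), (1, false), (1, false), (0, false), (1, true), (1, true), (1, true), (1, true), (0, true), (1, false), (0, false), (1, false), (1, false), (1, false), (1, false), (0, false), (1, true), (1, true), (1, true), (1, true), (0, true), (1, false), (0, false), (1, false), (1, false), (0, true), (1, false), (0, false), (1, true), (1, true), (1, true), (0, true), (1, true), (0, false), (1, false), (1, false), (1, false), (1, false), (0, true), (1, true), (0, true), (1, true), (0, false), (1, false), (1, false), (0, false), (1, true), (1, true), (1, true), (1, true), (0, true), (1, false), (0, false), (1, false), (1, false),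 (1, false), (0, true), (1, true), (0, false), (1, false), (0, true), (1, true), (0, false), (1, false), (1, false), (0, false), (1, true), (1, true), (1, true), (1, true), (0, true), (1, false), (0, false), (1, false), (1, false), (1, false), (1, false), (0, false), (1, true), (1, true), (1, true), (1, true), (0, true), (1, false), (0, false), (1, false), (1, false), (0, true), (1, false), (0, false), (1, true), (1, true), (1, true), (0, true), (1, true), (0, false), (1, false), (1, false), (1, false), (1, false), (0, true), (1, true), (0, true), (1, true), (0, false), (1, false), (1, false), (0, false)], [], [0, 0, 0, 0, 0, 0, 0, 0, 0, 0, 0, 0, 0, 0, 0, 0, 0, 0, 0, 0, 0, 0, 0, 0, 0, 0, 0, 0, 0, 0, 0, 0, 0, 0, 0, 0, 0, 0, 0, 0, 0, 0, 0, 0, 0, 0, 0, 0, 0, 0, 0, 0, 0, 0, 0, 0, 0, 0, 0, 0, 0, 0, 0, 0, 0, 0, 0, 0, 0, 0, 0, 0, 0, 0, 0, 0, 0, 0, 0, 0, 0, 1]⟩,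
    ⟨[(1, true), (1, true), (1, true), (1, true), (1, true), (0, true), (1, false), (1, false), (1, false), (0, false), (1, false), (1, false), (0, true), (1, true), (0, true), (1, true), (0, false), (1, true), (1, true), (0, true), (1, true), (0, false), (1, false), (1, false), (1, false), (1, false), (0, true), (1, true), (0, true), (1, true), (0, false), (1, false), (1, false), (0, false), (1, true), (1, true), (1, true), (1, true), (0, true), (1, false), (0, false), (1, false), (1, false), (1, false), (0, true), (1, true), (0, false), (1, false), (0, true), (1, true), (0, false), (1, false), (1, false), (0, false), (1, true), (1, true), (1, true), (1, true), (0, true), (1, false), (0, false), (1, false), (1, false), (1, false), (0, true), (1, true), (0, false), (1, true), (1, true), (0, true), (1, true), (0, false), (1, false), (1, false), (1, false), (1, false), (0, true), (1, true), (1, true), (1, true), (1, true), (0, true), (1, true), (0, false), (1, false),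 (1, false), (1, false), (1, false), (0, true), (1, true), (1, true), (1, true), (1, true), (0, true), (1, true), (0, false), (1, false), (1, false), (1, false), (1, false), (0, true), (1, true), (0, true), (1, true), (0, false), (1, false), (0, true), (1, true), (0, false), (1, false), (1, false), (0, false), (1, true), (1, true), (1, true), (1, true), (0, true), (1, false), (0, false), (1, false), (1, false), (0, true), (1, false), (0, false), (1, false), (0, false), (1, true), (1, true), (1, true), (1, true), (0, true), (1, false), (0, false), (1, false), (1, false), (1, false), (1, false), (0, false), (1, true), (1, true), (1, true), (1, true), (0, true), (1, false), (0, false), (1, false), (1, false), (1, false), (1, false), (0, false)], [], [0, 0, 0, 0, 0, 0, 0, 0, 0, 0, 0, 0, 0, 0, 0, 0, 0, 0, 0, 0, 0, 0, 0, 0, 0, 0, 0, 0, 0, 0, 0, 0, 0, 0, 0, 0, 0, 0, 0, 0, 0, 0, 0, 0, 0, 0, 0, 0, 0, 0, 0, 0, 0, 0, 0, 0, 0, 0, 0, 0, 0, 0, 0, 0, 0, 0, 0, 0, 0, 0, 0, 0, 0, 0,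 0, 0, 0, 0, 0, 0, 0, 0, 1]⟩]
  pot g := pot0.getK g
  innerSize := 10321920
  innerGen := 2

/-- data -/
def level0eqsPart0 : List (ℕ × ℕ × Vec) := [(2, 53, [0, 0, 0, 0, 0, 0, 0, 0, 0, 0, 0, 0, 0, 0, 0, 0, 0, 0, 0, 0, 0, 0, 0, 0, 0, 0, 0, 0, 0, 0, 0, 0, 0, 0, 0, 0, 0, 0, 0, 0, 0, 0, 0, 0, 0, 0, 0, 0, 0, 0, 0, 0, 0, 0, 0, 0, 0, 0, 0, 0, 0, 0, 0, 0, 0, 0, 0, 0, 2]), (8, 3, [0, 0, 0, 0, 0, 0, 0, 0, 0, 0, 0, 0, 0, 0, 0, 0, 0, 0, 0, 0, 0, 0, 0, 0, 0, 0, 0, 0, 0, 0, 0, 0, 0, 0, 0, 0, 0, 0, 0, 0, 0, 0, 0, 0, 0, 0, 0, 0, 0, 0, 0, 0, 0, 0, 0, (-1), 0, 0, 0, 0, 0, 0, 0, 0, 0, 0, 0, 4, 0, 0, 0, 0, 0, (-1)]), (8, 6, [0, 0, 0, 0, 0, 0, 0, 0, 0, 0, 0, 0, 0, 0, 0, 0, 0, 0, 0, 0, 0, 0, 0, 0, 0, 0, 0, 0, 0, 0, 0, 0, 0, 0, 0, 0, 0, 0, 0, 0, 0, 0, 0, 0, 0, 0, 0, 0, 0, 0, 0, 0, 0, 0, 0, 1, 0, 0, 0, 0, 0, 0, 0, 0, 0, 0, 0, 4, 0, 0, 0, 0, 0, (-1)]), (2, 30, [(-2704), (-3479), (-4825), (-579), (-515), 728, (-250), (-2250), 3155, 510, 1153, (-1523), 4298, (-631), 1055, 672, 1567, 2755, (-420),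 2046, (-1200), 2210, (-965), (-2883), (-1344), (-2231), (-732), (-2155), 1253, 4582, 650, 868, (-778), (-567), (-606), 414, (-458), 65, 0, 0, 0, 0, 0, 0, 0, 444, (-237), 336, 152, (-538), 89, (-58), (-267), (-434), 44, 45, 7, (-17), 8, 6, 1, 18, 2, (-11), (-36), (-4), (-21), (-8), 0, 0, 0, 0, 0, 2]), (8, 5, [(-5369), (-1662), (-7726), (-7469), 12533, (-2543), 6507, (-10316), 10205, 739, (-963), (-6935), 2498, 1477, 1947, (-10799), (-6077), 10087, 10081, (-2439), 4768, 11338, 985, (-9661), (-2180), (-4622), (-7738), (-9270), 2169, 1105, 4065, (-1022), (-571), (-422), (-411), 2020, (-1890), 209, 0, 0, 0, 0, 0, 0, 0, 2118, 2436, 3, (-988), (-680), (-192), (-114), (-630), (-751), (-46), 95, (-19), (-16), 28, 1, 33, 199, 0, (-12), (-45), (-21), (-153), 4, 0, 0, 0, 2, 0, (-1), 0, (-2), 0, (-2)]), (10, 52, [(-8993), (-1376), (-1554), (-17619), 27246, (-5094), 12156, (-21515), 12747, 3321, (-2730), (-9711), 1, 4517, 2330, (-22622), (-12189), 10253, 8827, (-6252), 10529, 23500,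 (-5713), (-11331), (-1954), (-4859), (-12552), (-15608), 3559, (-851), 5708, (-2048), (-858), (-351), (-751), 2822, (-2307), (-93), 0, 0, 0, 0, 0, 0, 0, 4356, 5364, (-72), (-2218), (-1250), (-514), (-96), (-896), (-1207), (-211), 177, (-21), (-31), 59, (-9), 68, 315, 0, (-20), (-72), (-28), (-245), 0, 0, 0, 0, 0, 0, 0, 0, (-2)]), (11, 52, [15950, 18537, 82274, (-13330), (-5083), 7965, (-7516), 1086, (-43477), 3360, (-1925), 22345, (-32247), 4639, (-4039), 7888, (-5531), (-54672), (-55218), (-8137), 1784, (-2099), (-35079), 46137, 14081, 27200, 17464, 19852, (-2592), (-13993), (-14526), 862, 2254, 3658, 1088, (-2260), 6467, (-4081), 0, 0, 0, 0, 0, 0, 0, (-1090), 227, (-400), (-144), 1091, (-159), 443, 648, 1708, (-356), (-91), (-15), 23, (-27), (-10), (-19), (-24), (-18), 26, 52, (-2), 31, 0, 0, 1, 0, 0, 0, 0, 0, 0, (-1)]), (5, 32, [(-12937), 4948, 22094, (-27758), 55809, (-14183), 20040, (-37721), 16992, 3932, (-6678), (-14296), (-16170), 11477, 6259, (-53936), (-35858),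 12963, 17783, (-12448), 20581, 43052, (-1787), (-16610), (-2728), (-5169), (-28914), (-29638), 6290, (-10895), 5059, (-3866), (-199), 1863, (-202), 4151, (-2100), (-1589), 0, 0, 0, 0, 0, 0, 0, 7783, 11158, (-975), (-4829), (-834), (-1200), (-167), (-1035), (-1270), (-420), 193, (-117), 28, 84, (-71), 150, 656, (-43), 15, (-87), (-52), (-451), 19, (-1), (-2), (-1), 2, 2, (-4), (-2), 0, (-4), 0, 0, 9, (-2), 0, 1]), (9, 63, [781, (-8326), (-110641), 33155, (-9845), (-9342), 5825, 27025, 45984, (-9486), (-3250), (-23050), 29512, (-9701), (-2611), 7387, 11491, 66128, 90131, 4206, (-1354), (-26116), 65744, (-52394), (-11707), (-29219), (-12184), (-6023), (-7389), (-3579), 19527, (-5944), 1465, (-2251), 2836, 2547, (-8577), 6515, 0, 0, 0, 0, 0, 0, 0, (-4115), (-2856), (-1241), 1186, 1460, 180, (-169), 381, 236, 374, (-257), (-17), 62, (-56), 62, (-75), (-153), (-36), 22, 166, (-2), 154, 9, (-2), (-2), (-3), 2, 0, (-2), (-4), 0, (-2), 3, 6, 1, (-2), 0, 4]), (13, 52, [(-16554),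 (-16800), (-102041), 20651, 13934, (-14966), 11192, 2432, 58389, (-6098), (-2026), (-30552), 31101, (-4103), 5257, (-21073), (-3820), 76206, 88694, 7143, 1955, 2556, 60472, (-65034), (-18114), (-36354), (-29912), (-27626), 2026, 5780, 19437, (-3587), (-1042), (-2489), 657, 3805, (-8901), 5174, 0, 0, 0, 0, 0, 0, 0, 1117, 1466, (-613), (-612), (-285), (-162), (-574), (-630), (-1516), 375, 54, (-17), 27, 18, 1, 25, 141, (-13), (-11), 9, (-26), (-73), 13, (-2), (-1), 0, 2, 2, (-3), (-1), (-1), (-1), (-1), 1, 3, (-1), 0, (-1)]), (8, 52, [(-27035), (-10375), 83955, (-70977), 49575, 8745, 16928, (-76573), (-12417), 18533, 5285, 130, (-6707), 10420, 10340, (-35743), (-17040), (-39644), (-73424), (-9922), 20065, 75290, (-87595), 21787, 3819, 11447, (-9376), (-25300), 15198, 18361, (-3370), 5224, (-6787), (-1052), (-5386), 5842, 1138, (-5949), 0, 0, 0, 0, 0, 0, 0, 13858, 11733, 2603, (-4629), (-6100), (-840), (-228), (-3462), (-4301), (-632), 674, (-29), (-149), 184, (-49),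 163, 881, 52, (-103), (-351), (-97), (-715), (-19), 3, 3, 1, (-3), (-2), 4, 3, 2, 3, 0, (-7), (-9), 3, 0, (-1)]), (12, 57, [36005, 5997, (-37822), 66945, (-89475), 13502, (-29365), 80796, (-16637), (-14688), 3752, 18113, (-1939), (-22283), (-6975), 66333, 34273, 2483, 46230, 10892, (-17992), (-82921), 60915, 3552, 3237, 618, 24444, 48840, (-23434), (-24136), (-879), (-1971), 5391, 3721, 9331, (-2825), (-667), 3681, 0, 0, 0, 0, 0, 0, 0, (-15250), (-12478), (-2451), 5310, 5934, 662, 519, 2579, 4077, 317, (-968), (-63), 301, (-248), 50, (-300), (-807), (-142), 150, 550, (-2), 757, 46, 1, (-5), (-4), 5, 1, (-10), (-6), (-4), (-5), 1, 6, 9, 1, 3, (-1)]), (4, 63, [38072, 38048, 105885, 26440, (-34996), 2175, (-28951), 47329, (-73512), (-9251), (-2726), 43856, (-52276), 8105, (-10885), 33655, (-7255), (-78506), (-83571), 1375, (-25165), (-50042), (-12270), 77360, 20776, 46628, 39814, 44358, (-3967), (-13955), (-35066), 3756, 7599, 4706, (-434), (-12356), 15439, (-5098),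 0, 0, 0, 0, 0, 0, 0, (-10494), (-10239), (-332), 3782, 5755, 1041, 710, 4009, 5846, 204, (-384), 35, 41, (-117), (-33), (-12), (-676), 2, 84, 79, 137, 447, (-15), (-4), 1, (-1), (-2), (-1), 5, 6, 3, (-4), 3, 1, 3, (-3), (-2)]), (15, 22, [23416, 45409, 172293, (-38130), 17546, 6365, (-4793), (-15662), (-78191), 1807, (-4227), 36847, (-68617), 17506, (-2844), (-908), (-34847), (-100853), (-114507), (-18205), 2177, 12665, (-69098), 85863, 27232, 57167, 27134, 21556, 7527, (-14151), (-31378), 2206, 5200, 4893, (-2408), (-2418), 12767, (-9402), 0, 0, 0, 0, 0, 0, 0, 582, 2123, 822, (-1372), 1986, (-5), 718, 557, 3362, (-370), 198, (-73), (-67), 28, 0, 126, 594, 16, 1, (-141), (-44), (-525), (-26), (-3), 6, 1, (-7), (-7), 7, 18, 8, (-5), 8, (-8), (-11), (-8), (-3), (-2)]), (9, 20, [15951, 26253, 130411, (-1654), (-49840), 20947, (-30124), 17915, (-75661), (-7615), 9908, 44531, (-37461), 5007, 5566, 45503, (-12678), (-89867), (-124421), 9115, (-33059), (-23012), (-45777),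 81205, 19587, 50831, 44329, 33093, 15493, 22723, (-39199), 12115, 3644, 1087, (-5932), (-5100), 13485, (-8446), 0, 0, 0, 0, 0, 0, 0, (-5331), (-10948), 3381, 4464, 2417, 2180, (-302), (-40), 2928, 748, 411, 28, (-186), 58, 59, 111, 233, 149, (-86), (-342), (-10), (-372), (-83), 14, 14, 5, (-12), (-9), 20, 24, 11, 4, 5, (-15), (-27), (-4), (-6), (-2)]), (3, 10, [25751, 35209, 174842, (-50148), 15252, 14271, (-4565), (-21475), (-86941), 13773, (-4948), 41048, (-62090), 13717, (-10345), 4492, (-11355), (-118042), (-128577), (-22743), 13051, 16942, (-98899), 97438, 30098, 56792, 33996, 32144, (-3643), (-24653), (-26437), 1245, 2574, 5580, 96, (-3803), 12795, (-8621), 0, 0, 0, 0, 0, 0, 0, 1875, 4416, (-165), (-1940), 299, (-683), 1094, 915, 2320, (-1017), (-38), (-9), (-26), (-21), (-25), 27, 42, (-3), 27, 18, 11, (-41), 2, (-1), 0, 0, 0, 0, 0, 3, 0, (-2), 0, 0, 0, 1]), (3, 16, [(-25751), (-35209), (-174842), 50148, (-15252), (-14271), 4565, 21475, 86941, (-13773), 4948,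 (-41048), 62090, (-13717), 10345, (-4492), 11355, 118042, 128577, 22743, (-13051), (-16942), 98899, (-97438), (-30098), (-56792), (-33996), (-32144), 3643, 24653, 26437, (-1245), (-2574), (-5580), (-96), 3803, (-12795), 8621, 0, 0, 0, 0, 0, 0, 0, (-1875), (-4416), 165, 1940, (-299), 683, (-1094), (-915), (-2320), 1017, 38, 9, 26, 21, 25, (-27), (-42), 3, (-27), (-18), (-11), 41, (-2), (-1), 0, 0, 0, 0, 0, (-3), 0, 2, 0, 0, 0, (-1)]), (14, 52, [(-30768), (-38915), (-240365), 65341, (-4568), (-25841), 13027, 29053, 123529, (-19237), 38, (-60688), 75603, (-15369), 11674, (-18780), 4543, 168582, 195088, 23005, (-9434), (-20669), 146493, (-139373), (-39478), (-78354), (-52566), (-46993), 2912, 19603, 39976, (-6188), (-1357), (-6308), 1558, 6490, (-18819), 12347, 0, 0, 0, 0, 0, 0, 0, (-2275), (-3141), (-987), 1311, 493, 512, (-1359), (-920), (-2421), 1207, (-1), (-13), 57, 15, 50, (-16), 53, (-12), (-15), 37, (-28), (-9), 13, (-1), (-1), 0, 2, 2, (-3), (-1), (-1), (-1),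 (-1), 2, 3, (-1), 0, (-1)]), (10, 77, [(-44735), (-56105), (-254736), 61299, (-22685), (-15651), 10333, 19973, 131850, (-17912), 9464, (-63529), 94821, (-21864), 20220, (-8059), 15607, 176376, 192354, 32299, (-13978), (-12867), 138803, (-149876), (-45152), (-85720), (-53492), (-52425), 8845, 39726, 42569, (-1586), (-5049), (-8532), 188, 9598, (-21233), 12297, 0, 0, 0, 0, 0, 0, 0, (-612), (-4691), 664, 2186, (-1553), 963, (-1793), (-2705), (-4360), 1480, 246, (-3), 8, 64, 55, (-39), 283, 25, (-76), (-91), (-84), (-203), (-5), 3, 1, 1, 0, (-1), 1, 4, (-2), 1, (-1), (-3), (-6), 1]), (16, 31, [67706, 22836, 114030, 1715, (-96342), 45737, (-34402), 58677, (-120029), 14082, 1427, 68863, (-35895), (-16740), (-34988), 111424, 78666, (-149911), (-140054), (-16834), (-3991), (-71626), (-109727), 137273, 40451, 65202, 91116, 107136, (-43426), (-42862), (-20165), (-291), 3294, 5482, 7693, (-12054), 13258, (-2439), 0, 0, 0, 0, 0, 0, 0, (-14436), (-11276), (-2312), 5934, 1953,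 463, 2504, 3369, 3639, (-1496), (-1242), 225, 119, (-346), 31, (-344), (-2029), 4, 141, 592, 228, 1462, 46, 7, (-4), (-7), 12, 2, (-13), (-10), (-22), 10, (-5), 15, (-26), 10, 11, (-2)])]

/-- data -/
def level0eqsPart1 : List (ℕ × ℕ × Vec) := [(11, 84, [38874, 59172, 247817, (-99282), 39015, 26460, 4948, (-46295), (-124197), 24359, (-12765), 52466, (-83944), 21655, (-21466), 12602, (-12098), (-174458), (-190393), (-45564), 29675, 37428, (-167404), 144918, 49178, 85685, 55273, 46969, (-6132), (-37969), (-29928), (-1672), 3149, 6771, (-293), (-408), 15096, (-12077), 0, 0, 0, 0, 0, 0, 0, 4936, 8461, (-103), (-3578), (-1449), (-1152), 1726, 142, 2721, (-1706), 146, 19, (-146), 6, 67, 4, 324, 36, (-17), (-35), (-27), (-304), (-9), (-5), 2, 6, 1, 4, 2, 10, 3, 3, (-3), (-1), (-10), (-2), (-1), 2]), (13, 43, [(-78083), (-34481), (-42914), (-135829), 157057, (-10703), 79950, (-165216), 97740, 27506, (-4267), (-73071), 42927, 15931, 23024, (-116960), (-50049), 73852, 47642,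 (-30788), 67534, 170313, (-69584), (-87474), (-18525), (-43938), (-75527), (-106869), 29735, 29076, 47283, (-6376), (-13183), (-7960), (-7842), 27452, (-21917), (-179), 0, 0, 0, 0, 0, 0, 0, 32438, 32768, 2760, (-13065), (-13266), (-2560), (-1218), (-9614), (-11666), (-1013), 1527, (-150), (-345), 436, 53, 389, 2606, 84, (-260), (-687), (-315), (-2051), (-27), 0, 7, 5, (-2), 0, 5, 10, 6, 6, 0, (-10), (-25), (-1), (-1), (-2)]), (4, 53, [72301, 25203, (-95554), 175035, (-190884), 9200, (-78701), 200140, (-43370), (-46121), 7358, 46517, 5560, (-29164), (-19686), 150805, 62177, 4946, 37490, 45533, (-87781), (-206606), 145258, 27835, 4492, 14183, 73338, 98740, (-24898), (-3306), (-28973), 4878, 14497, 978, 6063, (-21640), 10931, 7077, 0, 0, 0, 0, 0, 0, 0, (-38541), (-42537), (-1552), 17203, 14462, 4358, 337, 8390, 11481, 2255, (-1341), 160, 195, (-409), 107, (-405), (-2352), 3, 162, 542, 278, 1741, (-39), 0, 1, (-2), (-6), (-7), 10, 7, 7, 1, 7, 3, (-1), (-9), (-5), 1]),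 (7, 40, [70731, 71585, 258730, (-44554), (-12819), 24911, (-20989), 15882, (-158484), 13341, (-11276), 78980, (-102233), 15858, (-32184), 50611, 5450, (-200991), (-204639), (-35784), 6848, (-27992), (-138969), 177329, 56003, 101441, 81847, 86282, (-21408), (-53242), (-46398), (-708), 8652, 9235, 2598, (-12492), 23517, (-11270), 0, 0, 0, 0, 0, 0, 0, (-7320), (-2306), (-1518), 676, 4262, (-388), 2433, 4458, 7173, (-1491), (-637), 37, 28, (-177), (-13), (-104), (-778), (-32), 110, 280, 142, 570, 3, (-2), (-2), (-2), 2, (-1), (-1), (-4), (-1), 1, 1, 7, 0, (-2), 0, 1]), (15, 17, [69705, 10255, (-26448), 184225, (-225051), 20634, (-99000), 201067, (-72826), (-40729), 19750, 68912, (-12571), (-35674), (-7621), 148833, 65668, (-28493), 8018, 56803, (-89924), (-206134), 133348, 47289, 3415, 20365, 71485, 109661, (-27601), (-9236), (-43463), 11864, 12380, 6331, 9901, (-24961), 16741, 3143, 0, 0, 0, 0, 0, 0, 0, (-38221), (-41281), (-1780), 16754, 15074, 3821, 310, 8596, 11376,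 2022, (-1640), 66, 463, (-454), (-33), (-482), (-2493), (-101), 259, 749, 226, 2010, 3, 3, (-2), (-7), (-3), (-6), 1, (-6), (-2), (-9), 6, (-1), 17, 1, (-1), 1]), (17, 42, [21319, 58897, 286802, (-119327), 109687, 286, 22915, (-87673), (-110442), 28713, (-19090), 43775, (-108600), 40518, (-15083), (-63353), (-56911), (-169686), (-197317), (-53674), 43989, 87206, (-175895), 138611, 43694, 82696, 20498, 9715, 3334, (-43530), (-34087), (-3009), 2739, 9154, (-3617), (-3666), 18524, (-14890), 0, 0, 0, 0, 0, 0, 0, 13815, 20298, (-794), (-8615), (-2210), (-2439), 1614, 346, 1131, (-2204), 291, (-19), (-97), 81, (-128), 250, 529, 8, 22, (-171), 41, (-455), 11, (-9), (-4), 3, 4, 5, (-4), 1, (-4), 4, (-5), 6, (-1), (-3), 1, (-3)])]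

/-- the table with its checks -/
def level0 : CfsgLib.Sporadic.ChainLevel where
  table := table0
  gexp := [[1], [0, 1]]
  perm := [0x20010081e01005018110001f0280b088280541904c07070100500e0741706c0f090180481600c09080210302b0682509827034290a8230d02d0b84a0c0310c83d0b04b0d83713854104450fc331203c1003a1244311c3b140440f8420bc351304d0e05711851148530e4551584f, 0x181b08c140240207c1d02c1109c070001e0141c0a818028120542800c160642104c0103c260342b09004068200380c0a42205c08040250c84713c400d42e12c490dc3d14c330b04a0c448158440d83e104540bc421144d0fc2d0ec520e457140301184c0e8381544e10c340f051]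
  pinv := [0x20010081e01005018110001f0280b088280541904c07070100500e0741706c0f090180481600c09080210302b0682509827034290a8230d02d0b84a0c0310c83d0b04b0d83713854104450fc331203c1003a1244311c3b140440f8420bc351304d0e05711851148530e4551584f, 0x301b014160840e0000b0a404048080941e0901c0a80904c1a00c1405c28044180880103c070340608c1909c020802b0740a054260401f0e0470c4421343a0b037154300f8341444a14048158350fc460bc4010c540f4441382d0ec330e43213c4514c2e1305712436104520f04b]
  defs := [[(0, true), (1, true), (1, true), (0, true), (1, false), (0, false), (1, false), (0, false)], [(0, true), (1, true), (1, true), (1, true), (1, true), (0, true), (1, true), (0, false), (1, false), (1, false), (1, false), (1, false)]]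
  eqs := level0eqsPart0 ++ level0eqsPart1
  pts := [0]

end CfsgLib.Sporadic.MultTwoMono
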