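import Mathlib
import Cfsg.Agent.Lib.Sporadic.ChainCertificate
import Cfsg.Agent.Lib.Schur.TrieFast

/-!
# Coset table 1 of a chain
-/

set_option autoImplicit false
set_option maxRecDepth 100000
set_option maxHeartbeats 0
set_option Elab.async false

noncomputable section

namespace CfsgLib.Sporadic.MultTwoMono

open CfsgLib.Schur.Cert

/-- data -/
def next1 : Trie (ℕ) := .node (.node (.node (.node (.node (.node (.node (.leaf 1) (.leaf 33)) (.leaf 28)) (.node (.node (.leaf 13) (.leaf 15)) (.leaf 18))) (.node (.node (.node (.leaf 9) (.leaf 41)) (.leaf 32)) (.node (.leaf 21) (.leaf 27)))) (.node (.node (.node (.node (.leaf 5) (.leaf 6)) (.leaf 29)) (.node (.leaf 17) (.leaf 37))) (.node (.node (.node (.leaf 12) (.leaf 16)) (.leaf 35)) (.node (.leaf 24) (.leaf 20))))) (.node (.node (.node (.node (.node (.leaf 3) (.leaf 30)) (.leaf 10)) (.node (.node (.leaf 8) (.leaf 36)) (.leaf 25))) (.node (.node (.node (.leaf 2) (.leaf 40)) (.leaf 34)) (.node (.leaf 4)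 (.leaf 14)))) (.node (.node (.node (.node (.leaf 7) (.leaf 22)) (.leaf 31)) (.node (.leaf 19) (.leaf 38))) (.node (.node (.node (.leaf 0) (.leaf 11)) (.leaf 23)) (.node (.leaf 26) (.leaf 39)))))) (.node (.node (.node (.node (.node (.node (.leaf 2) (.leaf 19)) (.leaf 21)) (.node (.node (.leaf 15) (.leaf 31)) (.leaf 36))) (.node (.node (.node (.leaf 10) (.leaf 9)) (.leaf 33)) (.node (.leaf 22) (.leaf 38)))) (.node (.node (.node (.node (.leaf 6) (.leaf 29)) (.leaf 30)) (.node (.leaf 18) (.leaf 28))) (.node (.node (.node (.leaf 13) (.leaf 17)) (.leaf 7)) (.node (.leaf 25) (.leaf 1))))) (.node (.node (.node (.node (.node (.leaf 4) (.leaf 41)) (.leaf 5)) (.node (.node (.leaf 16) (.leaf 35)) (.leaf 0))) (.node (.node (.node (.leaf 11) (.leaf 34)) (.leaf 24)) (.node (.leaf 23) (.leaf 39)))) (.node (.node (.node (.node (.leaf 8) (.leaf 26)) (.leaf 3)) (.node (.leaf 20) (.leaf 37))) (.node (.node (.node (.leaf 14) (.leaf 32)) (.leaf 12)) (.node (.leaf 27) (.leaf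 40))))))

/-- data -/
def prev1 : Trie (ℕ) := .node (.node (.node (.node (.node (.node (.node (.leaf 7) (.leaf 20)) (.leaf 38)) (.node (.node (.leaf 9) (.leaf 37)) (.leaf 14))) (.node (.node (.node (.leaf 13) (.leaf 41)) (.leaf 30)) (.node (.leaf 6) (.leaf 16)))) (.node (.node (.node (.node (.leaf 5) (.leaf 21)) (.leaf 24)) (.node (.leaf 17) (.leaf 15))) (.node (.node (.node (.leaf 34) (.leaf 27)) (.leaf 35)) (.node (.leaf 29) (.leaf 33))))) (.node (.node (.node (.node (.node (.leaf 0) (.leaf 32)) (.leaf 10)) (.node (.node (.leaf 4) (.leaf 36)) (.leaf 25))) (.node (.node (.node (.leaf 2) (.leaf 26)) (.leaf 12)) (.node (.leaf 8) (.leaf 18)))) (.node (.node (.node (.node (.leaf 1) (.leaf 22)) (.leaf 11)) (.node (.leaf 39) (.leaf 28))) (.node (.node (.node (.leaf 3) (.leaf 31)) (.leaf 23)) (.node (.leaf 40) (.leaf 19)))))) (.node (.node (.node (.node (.node (.node (.leaf 25) (.leaf 39)) (.leaf 9)) (.node (.node (.leaf 3) (.leaf 31)) (.leaf 21))) (.node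 (.node (.node (.leaf 1) (.leaf 24)) (.leaf 11)) (.node (.leaf 23) (.leaf 26)))) (.node (.node (.node (.node (.leaf 0) (.leaf 37)) (.leaf 10)) (.node (.leaf 4) (.leaf 35))) (.node (.node (.node (.leaf 2) (.leaf 28)) (.leaf 12)) (.node (.leaf 7) (.leaf 18))))) (.node (.node (.node (.node (.node (.leaf 30) (.leaf 20)) (.leaf 38)) (.node (.node (.leaf 36) (.leaf 33)) (.leaf 14))) (.node (.node (.node (.leaf 17) (.leaf 27)) (.leaf 16)) (.node (.leaf 6) (.leaf 34)))) (.node (.node (.node (.node (.leaf 19) (.leaf 41)) (.leaf 32)) (.node (.leaf 5) (.leaf 15))) (.node (.node (.node (.leaf 22) (.leaf 29)) (.leaf 13)) (.node (.leaf 8) (.leaf 40))))))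

/-- data -/
def lab1 : Trie (Word) := .node (.node (.node (.node (.node (.node (.node (.leaf ([])) (.leaf ([(2, true), (0, true), (2, true), (1, false), (0, true), (2, false), (0, true), (1, false), (2, false), (1, false), (2, true)]))) (.leaf ([]))) (.node (.node (.leaf ([(1, false), (2, false), (1, true), (2, true), (1, false), (1, false), (2, false), (1, true), (2, true)])) (.leaf ([(1, true), (2, false), (1, false), (2, true), (1, false), (2, false), (0, true), (2, false), (0, true), (1, false), (0, true)]))) (.leaf ([(2, true), (1, true), (2, true), (1, true), (0, true), (2, false), (1, false), (2, true)])))) (.node (.node (.node (.leaf ([])) (.leaf ([(0, true), (1, false), (0, true), (2, true), (1, true), (2, false), (1, false), (2, true), (0, true), (1, true)]))) (.leaf ([]))) (.node (.leaf ([])) (.leaf ([(0, true), (1, true), (2, false), (1, true), (2, false), (0, true), (2, true), (0, true), (2, false), (1, false), (2, false)]))))) (.node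 (.node (.node (.node (.leaf ([])) (.leaf ([]))) (.leaf ([]))) (.node (.leaf ([])) (.leaf ([])))) (.node (.node (.node (.leaf ([])) (.leaf ([(2, true), (1, true), (2, true), (0, true), (2, false), (0, true), (2, true), (1, false), (2, true), (1, false), (0, true)]))) (.leaf ([]))) (.node (.leaf ([])) (.leaf ([(1, true), (0, true), (1, true), (0, true), (2, false), (1, true), (2, false), (1, true), (2, true), (1, false), (1, false)])))))) (.node (.node (.node (.node (.node (.leaf ([])) (.leaf ([(2, true), (1, false), (0, true), (1, false), (0, true), (2, false), (1, false), (0, true), (2, true), (1, true)]))) (.leaf ([(1, true), (0, true), (1, false), (0, true), (2, true), (1, false), (2, true), (1, false), (2, false), (0, true)]))) (.node (.node (.leaf ([(2, true), (1, true), (1, true), (2, true), (1, false), (2, true), (2, true), (1, true), (2, true)])) (.leaf ([(1, false), (0, true), (2, false), (0, true), (2, true), (2, true), (1, false), (2, false),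 (0, true), (2, true)]))) (.leaf ([(0, true), (1, true), (2, false), (1, true), (1, true), (2, false), (1, false)])))) (.node (.node (.node (.leaf ([(0, true)])) (.leaf ([(0, true), (1, true), (2, false), (1, true), (2, false), (1, false), (2, false), (1, false), (0, true), (2, true), (1, false)]))) (.leaf ([]))) (.node (.leaf ([(1, true)])) (.leaf ([(2, false), (1, true), (2, true), (0, true), (1, false), (2, false), (1, false), (2, false)]))))) (.node (.node (.node (.node (.leaf ([])) (.leaf ([(2, true), (2, true), (1, false), (2, true), (1, true), (2, true), (1, false), (2, true), (1, true)]))) (.leaf ([]))) (.node (.leaf ([])) (.leaf ([])))) (.node (.node (.node (.leaf ([])) (.leaf ([(2, false), (0, true), (2, true), (1, true), (2, true), (0, true), (2, true), (1, true), (2, true), (1, false)]))) (.leaf ([(2, false), (1, true), (2, false), (1, false), (1, false), (2, false), (1, true), (2, false), (0, true), (1, false)]))) (.node (.leaf ([])) (.leaf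 ([(1, true), (2, false), (1, false), (2, false), (0, true), (2, false), (1, false), (2, false), (0, true), (2, true)]))))))) (.node (.node (.node (.node (.node (.node (.leaf ([])) (.leaf ([(2, true), (1, true), (0, true), (2, false), (1, true), (2, true), (0, true), (2, false), (1, false)]))) (.leaf ([(1, false), (1, false), (2, false), (1, true), (2, true), (0, true), (1, false), (2, false), (1, true), (2, false)]))) (.node (.node (.leaf ([])) (.leaf ([(2, true), (2, true), (1, false), (0, true), (2, true), (1, true), (2, true), (1, true), (1, true), (2, false)]))) (.leaf ([])))) (.node (.node (.node (.leaf ([])) (.leaf ([(1, false), (0, true), (2, false), (1, false), (1, false), (2, true), (0, true), (2, false), (1, true)]))) (.leaf ([]))) (.node (.leaf ([])) (.leaf ([(0, true), (1, true), (2, true), (1, true), (2, false), (1, true), (2, true), (2, true), (0, true), (1, true)]))))) (.node (.node (.node (.node (.leaf ([])) (.leaf ([(1, false), (0,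 true), (2, false), (1, true), (1, true), (2, true), (0, true), (1, true), (2, true), (1, false)]))) (.leaf ([]))) (.node (.leaf ([])) (.leaf ([(0, true), (1, false), (0, true), (2, false), (1, false), (2, false), (0, true), (2, false), (1, false), (0, true), (2, true)])))) (.node (.node (.node (.leaf ([])) (.leaf ([(1, true), (2, true), (1, false), (1, false), (0, true), (1, true), (2, false), (1, true), (2, true), (1, false)]))) (.leaf ([(2, true), (1, false), (2, false), (0, true), (1, false), (2, false), (0, true), (2, true)]))) (.node (.leaf ([])) (.leaf ([(1, true), (2, false), (1, true), (1, true), (1, true), (2, true), (1, true), (1, true)])))))) (.node (.node (.node (.node (.node (.leaf ([])) (.leaf ([]))) (.leaf ([(1, true), (2, false), (1, true), (2, true), (0, true), (2, true), (1, false), (0, true), (2, false), (0, true), (1, false)]))) (.node (.node (.leaf ([])) (.leaf ([(1, false), (2, false), (0, true), (1, true), (2, false), (1, true),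 (2, true), (0, true), (2, false), (0, true)]))) (.leaf ([(2, true)])))) (.node (.node (.node (.leaf ([])) (.leaf ([(1, true), (0, true), (1, true), (2, true), (1, true), (2, false), (0, true), (1, true), (2, false), (0, true), (2, true), (1, true)]))) (.leaf ([(0, true), (2, false), (1, false), (0, true), (2, true), (0, true), (1, true), (2, true), (0, true), (2, true), (0, true)]))) (.node (.leaf ([])) (.leaf ([]))))) (.node (.node (.node (.node (.leaf ([])) (.leaf ([(1, false), (1, false), (2, true), (1, true), (2, false), (1, false), (2, false), (0, true)]))) (.leaf ([(1, false), (1, false), (2, true), (1, true), (2, true), (1, false), (0, true), (1, true)]))) (.node (.leaf ([])) (.leaf ([(2, false), (0, true), (2, true), (1, false), (0, true), (1, false), (0, true), (2, false), (1, false), (2, false)])))) (.node (.node (.node (.leaf ([])) (.leaf ([(2, true), (0, true), (1, false), (2, true), (1, false), (1, false), (2, true), (1, true), (0, true)])))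 (.leaf ([(2, true), (2, true), (1, false), (2, false), (0, true), (1, false), (2, false), (0, true), (2, false)]))) (.node (.leaf ([])) (.leaf ([])))))))

/-- data -/
def val1_00 : Trie (Vec) := .node (.node (.node (.node (.node (.leaf ([])) (.leaf ([11831, 13328, 62530, (-12087), (-1548), 5746, (-5092), (-971), (-34516), 3697, (-1312), 17481, (-22637), 4111, (-4602), 7123, (-1319), (-44696), (-48570), (-6404), 1185, (-1005), (-32911), 38276, 11247, 21786, 15512, 15688, (-2270), (-8684), (-11343), 931, 1303, 2126, 121, (-2564), 5451, (-3021), 0, 0, 0, 0, 0, 0, 0, (-660), (-5), (-86), (-44), 565, (-95), 416, 693, 1225, (-300), (-64), 8, (-1), (-23), (-10), (-6), (-106), 0, 17, 25, 20, 75]))) (.leaf ([]))) (.node (.node (.leaf ([0, 0, 0, 0, 0, 0, 0, 0, 0, 0, 0, 0, 0, 0, 0, 0, 0, 0, 0, 0, 0, 0, 0, 0, 0, 0, 0, 0, 0, 0, 0, 0, 0, 0, 0, 0, 0, 0, 0, 0, 0, 0, 0, 0, 0, 0, 0, 0, 0, 0, 0, 0, 0, 0, 0, 0, 0, 0, 0, 0, 0, 0, 0, 0, 1])) (.leaf ([(-4236), (-4456), (-22375),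 2960, 1697, (-1980), 2572, (-606), 12505, (-1018), 208, (-6667), 8118, (-1331), 1424, (-2974), 408, 15828, 17391, 1633, 383, 1309, 10657, (-13669), (-3823), (-7723), (-5627), (-5842), 687, 2591, 4495, (-540), (-484), (-794), (-11), 1116, (-2111), 1100, 0, 0, 0, 0, 0, 0, 0, 412, 273, (-4), (-85), (-280), 7, (-143), (-311), (-496), 86, 30, (-3), (-4), 11, 6, 4, 52, 1, (-8), (-10), (-9), (-39)]))) (.leaf ([0, 0, 0, 0, 0, 0, 0, 0, 0, 0, 0, 0, 0, 0, 0, 0, 0, 0, 0, 0, 0, 0, 0, 0, 0, 0, 0, 0, 0, 0, 0, 0, 0, 0, 0, 0, 0, 0, 0, 0, 0, 0, 0, 0, 0, (-1), 0, 0, 0, 0, 0, 0, 0, 0, 0, 1, 0, (-1)])))) (.node (.node (.node (.leaf ([])) (.leaf ([(-15142), (-24498), (-131327), 45879, (-21961), (-9685), (-838), 26218, 61330, (-12384), 4083, (-27557), 44525, (-11975), 7356, 3348, 10429, 86987, 98528, 18903, (-13152), (-22653), 81647, (-70990), (-21918), (-41171), (-22262), (-18576), 1224, 16201, 18038, (-796), (-1016), (-3654), 717, 2072, (-9032), 6601, 0, 0, 0, 0, 0, 0,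 0, (-3309), (-5038), (-92), 2158, 649, 668, (-796), (-327), (-1097), 845, (-45), 6, 41, (-9), 23, (-39), (-115), (-1), (-8), 29, (-6), 99]))) (.leaf ([]))) (.node (.leaf ([])) (.leaf ([7794, 9506, 45654, (-10140), 1588, 3462, (-2808), (-2532), (-24384), 3054, (-1186), 12141, (-16392), 3588, (-3360), 3206, (-1666), (-32022), (-35570), (-5055), 1530, 1114, (-24891), 27323, 8021, 15579, 10490, 10150, (-1229), (-6010), (-8081), 583, 851, 1454, (-92), (-1896), 3990, (-2217), 0, 0, 0, 0, 0, 0, 0, (-126), 336, (-21), (-193), 288, (-108), 303, 504, 834, (-231), (-29), 9, (-5), (-12), (-10), 1, (-68), 2, 10, 10, 16, 46]))))) (.node (.node (.node (.node (.leaf ([])) (.leaf ([0, 0, 0, 0, 0, 0, 0, 0, 0, 0, 0, 0, 0, 0, 0, 0, 0, 0, 0, 0, 0, 0, 0, 0, 0, 0, 0, 0, 0, 0, 0, 0, 0, 0, 0, 0, 0, 0, 0, 0, 0, 0, 0, 0, 0, 0, 0, 0, 0, 0, 0, 0, 0, 0, 0, 1]))) (.leaf ([]))) (.node (.leaf ([])) (.leaf ([])))) (.node (.node (.node (.leaf ([])) (.leaf ([(-1912), (-5480), (-30721),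 14522, (-10487), (-1459), (-2629), 10591, 12178, (-3692), 1435, (-4617), 10291, (-3577), 1409, 4876, 4270, 18816, 21712, 5809, (-5408), (-9967), 21036, (-14732), (-4854), (-8807), (-3006), (-1541), (-267), 4010, 3065, 219, (-10), (-768), 294, (-90), (-1680), 1569, 0, 0, 0, 0, 0, 0, 0, (-1631), (-2209), (-17), 939, 436, 266, (-183), 94, (-31), 244, (-44), 5, 15, (-12), 7, (-20), (-88), (-1), 2, 18, 5, 70]))) (.leaf ([]))) (.node (.leaf ([])) (.leaf ([5287, 5207, 22462, (-2075), (-4143), 2719, (-3044), 2347, (-13158), 511, (-165), 7098, (-8760), 792, (-1374), 4695, (-264), (-16126), (-16260), (-1793), (-546), (-2961), (-9397), 14004, 4154, 8133, 6259, 7083, (-1164), (-3571), (-4456), 399, 708, 969, 310, (-889), 1972, (-1089), 0, 0, 0, 0, 0, 0, 0, (-741), (-451), (-74), 174, 435, 14, 149, 274, 578, (-81), (-46), (-3), 10, (-14), (-2), (-10), (-39), (-5), 10, 21, 4, 32])))))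

/-- data -/
def val1_01 : Trie (Vec) := .node (.node (.node (.node (.node (.leaf ([])) (.leaf ([0, 0, 0, 0, 0, 0, 0, 0, 0, 0, 0, 0, 0, 0, 0, 0, 0, 0, 0, 0, 0, 0, 0, 0, 0, 0, 0, 0, 0, 0, 0, 0, 0, 0, 0, 0, 0, 0, 0, 0, 0, 0, 0, 0, 0, 0, 0, 0, 0, 0, 0, 0, 0, 0, 0, 0, 0, 0, 0, 0, 0, 0, 1]))) (.leaf ([48, 117, 700, (-363), 360, 8, 55, (-277), (-345), 127, (-42), 122, (-156), 108, (-109), (-63), 40, (-531), (-664), (-82), 103, 210, (-619), 410, 110, 210, 124, 64, (-5), (-45), (-98), 23, (-24), 1, (-14), (-25), 59, (-36), 0, 0, 0, 0, 0, 0, 0, 38, 30, 6, (-15), (-14), (-6), 1, 7, 4, (-5), 0, 0, (-1), 0, (-2), 0, 0, 0, 0, (-1), 1]))) (.node (.node (.leaf ([21, 93, 323, 25, (-81), 8, (-67), 76, (-179), (-12), (-10), 106, (-146), 28, 20, 11, (-76), (-162), (-172), 6, (-49), (-57), 8, 146, 51, 109, 52, 73, 6, (-70), (-91), 6, 17, 30, 10, (-24), 41, (-21), 0, 0, 0, 0, 0, 0, 0, (-18), (-10), (-5), 2, 16, 1, 1, 5, 12, 1, 1, 0, 0, 0, 0, 0, 0, 0, 0, (-1)])) (.leaf ([1308,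 1093, 1494, 844, (-1218), 143, (-678), 1802, (-1728), (-134), (-283), 962, (-1073), 27, (-563), 1347, 445, (-1510), (-791), (-160), (-310), (-1933), 333, 1518, 586, 956, 1186, 1559, (-485), (-1077), (-499), (-125), 249, 138, 177, (-271), 271, (-10), 0, 0, 0, 0, 0, 0, 0, (-380), (-273), (-79), 97, 183, 13, 29, 130, 197, (-2), (-17), 2, 2, (-5), 2, (-5), (-26), 0, 3, 9, 3, 21]))) (.leaf ([0, 0, 0, 0, 0, 0, 0, 0, 0, 0, 0, 0, 0, 0, 0, 0, 0, 0, 0, 0, 0, 0, 0, 0, 0, 0, 0, 0, 0, 0, 0, 0, 0, 0, 0, 0, 0, 0, 0, 0, 0, 0, 0, 0, 0, 0, 0, 0, 0, 0, 0, 0, 0, 0, 0, 0, 0, 0, 0, 1])))) (.node (.node (.node (.leaf ([])) (.leaf ([9010, 10174, 46574, (-7950), (-1566), 3969, (-4217), 133, (-25796), 2316, (-947), 13259, (-17168), 3228, (-3415), 5482, (-1396), (-33150), (-36341), (-4470), 137, (-1607), (-23521), 28722, 8341, 16419, 11702, 11786, (-1551), (-6086), (-8880), 779, 1072, 1569, (-16), (-2136), 4242, (-2267), 0, 0, 0, 0, 0, 0, 0, (-648), (-218), (-42), 40, 510, (-38),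 311, 595, 986, (-206), (-57), 5, 1, (-18), (-9), (-3), (-90), 0, 14, 17, 20, 63]))) (.leaf ([]))) (.node (.leaf ([])) (.leaf ([0, 0, 0, 0, 0, 0, 0, 0, 0, 0, 0, 0, 0, 0, 0, 0, 0, 0, 0, 0, 0, 0, 0, 0, 0, 0, 0, 0, 0, 0, 0, 0, 0, 0, 0, 0, 0, 0, 0, 0, 0, 0, 0, 0, 0, 0, 0, 0, 0, 0, 0, 0, 0, 0, 0, 0, 0, 1]))))) (.node (.node (.node (.node (.leaf ([])) (.leaf ([(-701), (-863), (-3551), 968, (-200), (-309), 88, 233, 1889, (-236), 157, (-915), 1373, (-277), 304, (-249), 224, 2539, 2643, 588, (-270), (-109), 1984, (-2184), (-714), (-1284), (-863), (-850), 176, 657, 534, 27, (-93), (-124), (-18), 102, (-271), 163, 0, 0, 0, 0, 0, 0, 0, 1, (-76), 16, 34, (-34), 12, (-27), (-33), (-67), 23, 4, 1, 0, 1, 0, 0, 2, 0, (-1), (-1), (-1), (-2)]))) (.leaf ([]))) (.node (.leaf ([])) (.leaf ([])))) (.node (.node (.node (.leaf ([0, 0, 0, 0, 0, 0, 0, 0, 0, 0, 0, 0, 0, 0, 0, 0, 0, 0, 0, 0, 0, 0, 0, 0, 0, 0, 0, 0, 0, 0, 0, 0, 0, 0, 0, 0, 0, 0, 0, 0, 0, 0, 0, 0, 0, 0, 0, 0, 0, 0,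 0, 0, 0, 0, 0, 1])) (.leaf ([65, 137, (-580), 152, 163, (-121), 97, 144, 238, (-123), (-85), (-135), 87, 26, (-91), 53, (-66), 341, 404, (-72), (-47), (-161), 326, (-163), (-12), (-67), (-21), (-24), (-34), (-17), 84, (-60), 32, (-17), (-14), 7, (-34), 30, 0, 0, 0, 0, 0, 0, 0, (-26), (-18), (-4), 4, 14, 4, (-1), 14, 13, 2, (-2), 0, 1, (-1), 0, 0, 0, 0, 0, 0, 1, (-1)]))) (.leaf ([(-660), (-837), (-3980), 701, (-42), (-257), 316, 90, 2110, (-205), 99, (-1091), 1486, (-319), 241, (-239), 231, 2684, 2957, 370, (-47), 6, 1897, (-2307), (-657), (-1329), (-852), (-871), 60, 528, 755, (-64), (-89), (-145), (-3), 182, (-362), 197, 0, 0, 0, 0, 0, 0, 0, 31, (-5), 6, 8, (-41), 7, (-20), (-46), (-82), 16, 2, (-1), 0, 1, 1, 0, 6, 0, (-1), (-1), (-1), (-4)]))) (.node (.leaf ([])) (.leaf ([(-65), (-137), 580, (-152), (-163), 121, (-97), (-144), (-238), 123, 85, 135, (-87), (-26), 91, (-53), 66, (-341), (-404), 72, 47, 161, (-326), 163, 12, 67, 21, 24, 34, 17, (-84),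 60, (-32), 17, 14, (-7), 34, (-30), 0, 0, 0, 0, 0, 0, 0, 24, 18, 4, (-4), (-14), (-4), 1, (-14), (-13), (-2), 3, 0, (-1), 1, 0, 0, 0, 0, 0, 0, (-1), 1])))))

/-- data -/
def val1_10 : Trie (Vec) := .node (.node (.node (.node (.node (.leaf ([])) (.leaf ([2769, 3720, 16905, (-3844), 1290, 985, (-948), (-1139), (-8865), 1096, (-579), 4327, (-6110), 1632, (-1309), 711, (-1066), (-11761), (-13589), (-1854), 373, 665, (-9262), 10190, 2944, 5813, 3771, 3412, (-262), (-1997), (-3110), 240, 327, 488, (-162), (-795), 1542, (-835), 0, 0, 0, 0, 0, 0, 0, (-3), 132, (-8), (-73), 99, (-28), 100, 198, 298, (-82), (-6), 5, (-6), (-3), (-4), 5, (-29), 3, 3, (-3), 9, 16]))) (.leaf ([1016, 1594, 5145, (-1415), 1054, 103, 50, (-452), (-2481), 249, (-445), 1107, (-2267), 635, (-451), (-214), (-842), (-3202), (-3323), (-964), 449, 402, (-2407), 2835, 977, 1779, 906, 894, (-91), (-1132), (-762), (-131), 199, 216, 18, (-126), 388, (-244), 0, 0, 0, 0, 0, 0, 0, 19, 154, (-37),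 (-77), 55, (-23), 32, 54, 119, (-29), (-2), 1, (-1), (-1), 0, 1, 3, 0, 1, 1, 1, (-5)]))) (.node (.node (.leaf ([])) (.leaf ([(-932), (-1550), (-7690), 2420, (-1286), (-427), (-11), 1292, 3605, (-665), 312, (-1651), 2802, (-740), 435, 454, 752, 4916, 5346, 1127, (-813), (-1175), 4308, (-4013), (-1252), (-2374), (-1161), (-1089), 102, 1256, 1094, 6, (-112), (-268), (-15), 169, (-560), 378, 0, 0, 0, 0, 0, 0, 0, (-157), (-302), 22, 136, (-1), 48, (-50), (-41), (-97), 49, (-3), 0, 1, 0, 2, (-2), (-5), 0, (-1), (-1), 0, 3]))) (.leaf ([])))) (.node (.node (.node (.leaf ([])) (.leaf ([(-760), (-1062), (-4188), 1224, (-677), (-195), 56, 380, 2146, (-353), 308, (-1004), 1651, (-463), 404, (-15), 369, 2833, 3018, 684, (-351), (-278), 2236, (-2428), (-800), (-1431), (-883), (-859), 126, 832, 640, 53, (-117), (-162), (-19), 141, (-337), 196, 0, 0, 0, 0, 0, 0, 0, (-28), (-112), 25, 52, (-26), 20, (-25), (-42), (-83), 27, 2, (-1), 1, 1, 0, 0, 3, 0, (-1), (-1), (-1),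 (-2)]))) (.leaf ([]))) (.node (.leaf ([])) (.leaf ([5482, 8253, 42630, (-13612), 6225, 3031, (-365), (-7241), (-20318), 3698, (-1341), 9320, (-14740), 3819, (-2530), (-421), (-3241), (-28341), (-32021), (-5833), 3627, 6128, (-25575), 23395, 7146, 13549, 7589, 6580, (-475), (-5219), (-6234), 310, 438, 1233, (-236), (-880), 3101, (-2139), 0, 0, 0, 0, 0, 0, 0, 814, 1335, 27, (-587), (-117), (-194), 272, 191, 457, (-260), 9, 1, (-11), 0, (-8), 10, 17, 0, 4, (-6), 4, (-17)]))))) (.node (.node (.node (.node (.leaf ([])) (.leaf ([375, 416, 1321, (-250), (-62), 150, (-100), 37, (-691), 61, (-83), 284, (-576), 80, (-97), 101, (-120), (-877), (-858), (-179), 67, (-10), (-591), 759, 241, 453, 272, 323, (-91), (-361), (-202), (-14), 50, 61, 26, (-24), 92, (-62), 0, 0, 0, 0, 0, 0, 0, (-27), 12, (-23), (-2), 17, (-2), 11, 3, 24, (-8), 0, 0, (-1), 0, 0, 0, 0, 0, 0, 1, 0, 1]))) (.leaf ([]))) (.node (.leaf ([])) (.leaf ([(-3996), (-4700), (-21629), 4197, (-310), (-1591),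 1624, 520, 11734, (-1310), 638, (-5927), 7995, (-1677), 1662, (-1746), 832, 15165, 16659, 2292, (-470), 87, 11153, (-13056), (-3827), (-7441), (-5091), (-5104), 670, 3074, 3971, (-262), (-484), (-749), (-2), 983, (-1949), 1043, 0, 0, 0, 0, 0, 0, 0, 180, (-57), 37, 50, (-198), 43, (-145), (-271), (-442), 105, 18, (-5), 1, 7, 4, 1, 41, 0, (-6), (-7), (-8), (-29)])))) (.node (.node (.node (.leaf ([])) (.leaf ([(-6388), (-7505), (-39119), 11063, (-1012), (-4480), 1762, 4051, 20693, (-3276), 678, (-9926), 12973, (-2288), 2726, (-4022), 151, 27931, 30213, 4877, (-2637), (-2439), 23748, (-23097), (-7097), (-13121), (-9208), (-8917), 1485, 5231, 5891, (-454), (-411), (-1168), (-135), 822, (-2867), 1896, 0, 0, 0, 0, 0, 0, 0, (-201), (-631), (-9), 282, (-12), 134, (-269), (-225), (-535), 232, 29, 3, 2, 8, 4, 8, 12, 4, (-7), (-13), (-3), (-11)]))) (.leaf ([0, 0, 0, 0, 0, 0, 0, 0, 0, 0, 0, 0, 0, 0, 0, 0, 0, 0, 0, 0, 0, 0, 0, 0, 0, 0, 0, 0, 0, 0, 0, 0, 0, 0, 0,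 0, 0, 0, 0, 0, 0, 0, 0, 0, 0, 0, 0, 0, 0, 0, 0, 0, 0, 0, 0, 0, 0, 0, 0, 0, 0, 1]))) (.node (.leaf ([])) (.leaf ([0, 0, 0, 0, 0, 0, 0, 0, 0, 0, 0, 0, 0, 0, 0, 0, 0, 0, 0, 0, 0, 0, 0, 0, 0, 0, 0, 0, 0, 0, 0, 0, 0, 0, 0, 0, 0, 0, 0, 0, 0, 0, 0, 0, 0, 0, 0, 0, 0, 0, 0, 0, 0, 0, 0, 0, 0, 0, 0, 0, 1])))))

/-- data -/
def val1_11 : Trie (Vec) := .node (.node (.node (.node (.node (.leaf ([])) (.leaf ([]))) (.leaf ([(-1287), (-1915), (-5721), 1588, (-892), (-212), (-40), 261, 2899, (-278), 556, (-1303), 2614, (-663), 548, 33, 933, 3746, 3711, 1208, (-545), (-212), 2686, (-3343), (-1198), (-2106), (-1191), (-1189), 177, 1425, 838, 198, (-272), (-239), (-33), 143, (-430), 261, 0, 0, 0, 0, 0, 0, 0, 15, (-163), 62, 75, (-80), 18, (-42), (-57), (-144), 36, 0, (-1), 3, 1, (-2), (-3), (-1), (-2), (-1), (-1), (-1), 3]))) (.node (.node (.leaf ([])) (.leaf ([6981, 11051, 56384, (-19498), 9642, 3978, 482, (-10924), (-26318), 5131, (-1902), 11703, (-19529), 5194, (-3280),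 (-1525), (-4983), (-37316), (-41880), (-8275), 5677, 9423, (-34472), 30512, 9518, 17793, 9539, 8047, (-689), (-7373), (-7728), 242, 551, 1582, (-286), (-852), 3835, (-2822), 0, 0, 0, 0, 0, 0, 0, 1352, 2196, 2, (-937), (-197), (-286), 346, 153, 506, (-365), 11, (-6), (-16), 4, (-10), 19, 53, (-1), 4, (-11), 3, (-46)]))) (.leaf ([])))) (.node (.node (.node (.leaf ([])) (.leaf ([654, 825, 3507, (-1034), 347, 305, (-59), (-370), (-1867), 258, (-147), 891, (-1262), 278, (-347), 273, (-115), (-2562), (-2741), (-611), 300, 186, (-2190), 2212, 712, 1273, 880, 822, (-177), (-557), (-530), (-17), 69, 98, (-3), (-107), 279, (-165), 0, 0, 0, 0, 0, 0, 0, 24, 82, (-4), (-41), 11, (-15), 28, 41, 64, (-24), (-7), (-1), 0, (-1), 0, 0, (-3), 0, 1, 2, 2, 2]))) (.leaf ([0, 0, 0, 0, 0, 0, 0, 0, 0, 0, 0, 0, 0, 0, 0, 0, 0, 0, 0, 0, 0, 0, 0, 0, 0, 0, 0, 0, 0, 0, 0, 0, 0, 0, 0, 0, 0, 0, 0, 0, 0, 0, 0, 0, 0, 0, 0, 0, 0, 0, 0, 0, 0, 0, 0, 0, 0, 0, 0, 0, 0, 0, 0, 0, 0, 0, 1])))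 (.node (.leaf ([])) (.leaf ([]))))) (.node (.node (.node (.node (.leaf ([])) (.leaf ([0, 0, 0, 0, 0, 0, 0, 0, 0, 0, 0, 0, 0, 0, 0, 0, 0, 0, 0, 0, 0, 0, 0, 0, 0, 0, 0, 0, 0, 0, 0, 0, 0, 0, 0, 0, 0, 0, 0, 0, 0, 0, 0, 0, 0, 0, 0, 0, 0, 0, 0, 0, 0, 0, 0, 0, 0, 0, 0, 0, 0, 0, 0, 1]))) (.leaf ([0, 0, 0, 0, 0, 0, 0, 0, 0, 0, 0, 0, 0, 0, 0, 0, 0, 0, 0, 0, 0, 0, 0, 0, 0, 0, 0, 0, 0, 0, 0, 0, 0, 0, 0, 0, 0, 0, 0, 0, 0, 0, 0, 0, 0, 0, 0, 0, 0, 0, 0, 0, 0, 0, 0, 0, 0, 0, 1]))) (.node (.leaf ([])) (.leaf ([(-4543), (-5385), (-26003), 4740, 347, (-2069), 2134, 496, 14097, (-1437), 517, (-7252), 9505, (-1866), 1731, (-2243), 947, 18166, 19907, 2550, (-406), 252, 13194, (-15596), (-4488), (-8903), (-6036), (-6109), 737, 3462, 4863, (-418), (-546), (-897), (-13), 1185, (-2355), 1272, 0, 0, 0, 0, 0, 0, 0, 229, (-31), 32, 45, (-253), 44, (-166), (-313), (-518), 119, 24, (-3), (-1), 8, 7, 0, 45, (-1), (-7), (-9), (-10), (-33)])))) (.node (.node (.node (.leaf ([])) (.leaf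 ([(-5156), (-6478), (-29647), 6117, (-835), (-2106), 2031, 1144, 15773, (-1827), 902, (-7835), 10936, (-2433), 2092, (-1843), 1526, 20446, 22483, 3133, (-806), (-394), 15168, (-17468), (-5131), (-10059), (-6597), (-6526), 711, 4214, 5365, (-366), (-639), (-1010), 2, 1257, (-2613), 1443, 0, 0, 0, 0, 0, 0, 0, 153, (-174), 64, 108, (-254), 61, (-182), (-329), (-576), 141, 17, (-5), 5, 7, 6, (-2), 42, (-2), (-7), (-6), (-10), (-29)]))) (.leaf ([29, 11, 265, (-79), 88, 4, (-3), (-91), (-104), 46, (-8), 43, (-76), 20, (-16), (-76), (-5), (-146), (-193), (-29), 37, 89, (-183), 125, 13, 37, 4, 8, (-1), (-34), (-38), 6, (-4), 12, (-2), (-10), 22, (-14), 0, 0, 0, 0, 0, 0, 0, 10, 12, (-2), (-4), (-8), (-2), 0, 0, 0, (-2), 0, 1, 0, 0, 0, 0, (-1)]))) (.node (.leaf ([])) (.leaf ([])))))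

/-- data -/
def val1 : Trie (Vec) := .node (.node (val1_00) (val1_01)) (.node (val1_10) (val1_11))

/-- data -/
def rank1 : Trie (ℕ) := .node (.node (.node (.node (.node (.node (.node (.leaf 0) (.leaf 37)) (.leaf 0)) (.node (.node (.leaf 13) (.leaf 31)) (.leaf 17))) (.node (.node (.node (.leaf 0) (.leaf 43)) (.leaf 0)) (.node (.leaf 0) (.leaf 35)))) (.node (.node (.node (.node (.leaf 0) (.leaf 5)) (.leaf 0)) (.node (.leaf 0) (.leaf 0))) (.node (.node (.node (.leaf 0) (.leaf 40)) (.leaf 0)) (.node (.leaf 0) (.leaf 36))))) (.node (.node (.node (.node (.node (.leaf 0) (.leaf 11)) (.leaf 14)) (.node (.node (.leaf 16) (.leaf 38)) (.leaf 8))) (.node (.node (.node (.leaf 1) (.leaf 34)) (.leaf 0)) (.node (.leaf 2) (.leaf 6)))) (.node (.node (.node (.node (.leaf 0) (.leaf 22)) (.leaf 0)) (.node (.leaf 0) (.leaf 0))) (.node (.node (.node (.leaf 4) (.leaf 20)) (.leaf 25)) (.node (.leaf 0) (.leaf 21)))))) (.node (.node (.node (.node (.node (.node (.leaf 0) (.leaf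 33)) (.leaf 26)) (.node (.node (.leaf 0) (.leaf 30)) (.leaf 0))) (.node (.node (.node (.leaf 0) (.leaf 24)) (.leaf 0)) (.node (.leaf 0) (.leaf 39)))) (.node (.node (.node (.node (.leaf 0) (.leaf 19)) (.leaf 0)) (.node (.leaf 0) (.leaf 29))) (.node (.node (.node (.leaf 0) (.leaf 41)) (.leaf 10)) (.node (.leaf 0) (.leaf 9))))) (.node (.node (.node (.node (.node (.leaf 0) (.leaf 0)) (.leaf 27)) (.node (.node (.leaf 0) (.leaf 42)) (.leaf 3))) (.node (.node (.node (.leaf 0) (.leaf 23)) (.leaf 15)) (.node (.leaf 0) (.leaf 0)))) (.node (.node (.node (.node (.leaf 0) (.leaf 12)) (.leaf 7)) (.node (.leaf 0) (.leaf 28))) (.node (.node (.node (.leaf 0) (.leaf 32)) (.leaf 18)) (.node (.leaf 0) (.leaf 0))))))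

/-- data -/
def tree1 : Trie (ℕ × ℕ) := .node (.node (.node (.node (.node (.node (.leaf (0, 0)) (.leaf (20, 0))) (.leaf (9, 1))) (.node (.node (.leaf (3, 1)) (.leaf (31, 1))) (.leaf (14, 0)))) (.node (.node (.node (.leaf (1, 1)) (.leaf (24, 1))) (.leaf (11, 1))) (.node (.leaf (6, 0)) (.leaf (16, 0))))) (.node (.node (.node (.node (.leaf (0, 1)) (.leaf (21, 0))) (.leaf (10, 1))) (.node (.leaf (4, 1)) (.leaf (15, 0)))) (.node (.node (.node (.leaf (2, 1)) (.leaf (27, 0))) (.leaf (12, 1))) (.node (.leaf (7, 1)) (.leaf (18, 1)))))) (.node (.node (.node (.node (.node (.leaf (0, 0)) (.leaf (20, 1))) (.leaf (10, 0))) (.node (.node (.leaf (4, 0)) (.leaf (33, 1))) (.leaf (14, 1)))) (.node (.node (.node (.leaf (2, 0)) (.leaf (26, 0))) (.leaf (12, 0))) (.node (.leaf (6, 1)) (.leaf (18, 0))))) (.node (.node (.node (.node (.leaf (1, 0)) (.leaf (22, 0))) (.leaf (11, 0))) (.node (.leaf (5, 1)) (.leaf (15, 1)))) (.node (.node (.node (.leaf (3, 0)) (.leaf (29, 1)))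 (.leaf (13, 1))) (.node (.leaf (8, 1)) (.leaf (19, 0))))))

/-- data -/
def cert1 : Trie (ℕ × ℕ × ℕ) := .node (.node (.node (.node (.node (.node (.leaf (0, 0, 2)) (.leaf (8, 21, 4))) (.leaf (3, 14, 1))) (.node (.node (.leaf (8, 0, 5)) (.leaf (12, 20, 51))) (.leaf (7, 12, 5)))) (.node (.node (.node (.leaf (3, 6, 3)) (.leaf (12, 5, 32))) (.leaf (3, 11, 2))) (.node (.leaf (12, 0, 3)) (.leaf (8, 25, 28))))) (.node (.node (.node (.node (.leaf (2, 0, 5)) (.leaf (10, 26, 1))) (.leaf (12, 12, 2))) (.node (.node (.leaf (10, 0, 5)) (.leaf (12, 29, 3))) (.leaf (10, 2, 37)))) (.node (.node (.node (.leaf (6, 0, 4)) (.leaf (12, 16, 55))) (.leaf (13, 4, 5))) (.node (.leaf (14, 0, 4)) (.leaf (6, 17, 36)))))) (.node (.node (.node (.node (.node (.leaf (1, 0, 3)) (.leaf (10, 11, 41))) (.leaf (4, 0, 4))) (.node (.node (.leaf (9, 0, 4)) (.leaf (12, 23, 15))) (.leaf (8, 12, 5)))) (.node (.node (.node (.leaf (5, 0, 5)) (.leaf (12, 15, 34))) (.leaf (11, 12, 12))) (.node (.leaf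 (13, 0, 7)) (.leaf (6, 5, 8))))) (.node (.node (.node (.node (.leaf (3, 0, 3)) (.leaf (11, 5, 26))) (.leaf (13, 2, 9))) (.node (.leaf (11, 0, 5)) (.leaf (11, 23, 20)))) (.node (.node (.node (.leaf (7, 0, 5)) (.leaf (12, 18, 13))) (.leaf (5, 12, 3))) (.node (.leaf (3, 4, 1)) (.leaf (7, 19, 15))))))

/-- data -/
def pot1 : Trie (Vec) := .node (.node (.node (.node (.node (.node (.leaf ([])) (.leaf ([3, 3]))) (.leaf ([2, 2]))) (.node (.node (.leaf ([1, 1])) (.leaf ([3, 3]))) (.leaf ([1, 1])))) (.node (.node (.node (.leaf ([1, 1])) (.leaf ([2, 2]))) (.leaf ([3, 3]))) (.node (.leaf ([2, 2])) (.leaf ([2, 2]))))) (.node (.node (.node (.node (.leaf ([1, 1])) (.leaf ([2, 2]))) (.leaf ([3, 3]))) (.node (.leaf ([2, 2])) (.leaf ([2, 2])))) (.node (.node (.node (.leaf ([2, 2])) (.leaf ([3, 3]))) (.leaf ([3, 3]))) (.node (.leaf ([1, 1])) (.leaf ([4, 4])))))) (.node (.node (.node (.node (.node (.leaf ([])) (.leaf ([4, 4]))) (.leaf ([2, 2]))) (.node (.node (.leaf ([1,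 1])) (.leaf ([5, 5]))) (.leaf ([2, 2])))) (.node (.node (.node (.leaf ([1, 1])) (.leaf ([2, 2]))) (.leaf ([2, 2]))) (.node (.leaf ([3, 3])) (.leaf ([3, 3]))))) (.node (.node (.node (.node (.leaf ([])) (.leaf ([3, 3]))) (.leaf ([2, 2]))) (.node (.leaf ([2, 2])) (.leaf ([3, 3])))) (.node (.node (.node (.leaf ([])) (.leaf ([4, 4]))) (.leaf ([4, 4]))) (.node (.leaf ([2, 2])) (.leaf ([2, 2]))))))

/-- the table -/
def table1 : Table where
  size := 42
  ngen := 2
  next g x := next1.getK (2 * g + x)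
  prev g x := prev1.getK (2 * g + x)
  lab g x := lab1.getK (2 * g + x)
  val g x := val1.getK (2 * g + x)
  rank g x := rank1.getK (2 * g + x)
  tree g := tree1.getK g
  cert j := cert1.getK j
  nded := 43
  rels := [⟨[(1, true), (0, true), (0, true), (1, false)], [(0, true)], []⟩,
    ⟨[(1, true), (1, true), (1, true), (0, true), (1, false), (0, false)], [(1, true)], []⟩,
    ⟨[(0, true), (0, true), (0, true), (1, true), (1, true), (1, true)], [(2, true)], []⟩,
    ⟨[(0, true), (0, true), (0, true), (0, true)], [], [0, 0, 0, 0, 0, 0, 0, 0, 0, 0, 0, 0, 0, 0, 0, 0, 0, 0, 0, 0, 0, 0, 0, 0, 0, 0, 0, 0, 0, 0, 0, 0, 0, 0, 0, 0, 0, 0, 0, 0, 0, 0, 0, 0, 0, 0, 0, 0, 0, 0, 0, 0, 0, 0, 0, 1]⟩,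
    ⟨[(1, true), (1, true), (1, true), (1, true), (1, true), (1, true), (1, true), (1, true), (1, true), (1, true)], [], [0, 0, 0, 0, 0, 0, 0, 0, 0, 0, 0, 0, 0, 0, 0, 0, 0, 0, 0, 0, 0, 0, 0, 0, 0, 0, 0, 0, 0, 0, 0, 0, 0, 0, 0, 0, 0, 0, 0, 0, 0, 0, 0, 0, 0, 0, 0, 0, 0, 0, 0, 0, 0, 0, 0, 0, 1]⟩,
    ⟨[(0, true), (1, true), (1, true), (1, true), (0, true), (0, true), (1, true), (1, true), (1, true), (1, true), (1, true), (0, true), (1, false), (0, true), (0, true), (1, true), (1, true), (1, true), (1, true), (1, true), (1, true), (0, true), (1, false), (0, false), (1, true), (0, false), (0, false), (1, false), (1, false), (1, false), (1, false), (0, false), (0, false), (1, true), (0, false), (1, false), (1, false), (1, false), (0, true), (0, true), (0, true), (1, true), (1, true), (1, true)], [], [0, 0, 0, 0, 0, 0, 0, 0, 0, 0, 0, 0, 0, 0, 0, 0, 0, 0, 0, 0, 0, 0, 0, 0, 0, 0, 0, 0, 0, 0, 0, 0, 0, 0, 0, 0, 0, 0, 0, 0, 0, 0, 0, 0, 0, 0, 0, 0, 0, 0, 0, 0, 0,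 0, 0, 0, 0, 1]⟩,
    ⟨[(1, true), (0, true), (1, true), (0, true), (1, true), (0, false), (1, true), (0, false), (1, false), (1, false), (0, false), (0, false), (1, true), (1, true), (0, true), (1, false), (0, false), (1, false), (1, false), (1, false), (0, false), (0, false), (1, true), (0, false), (1, false), (1, false), (1, false), (1, false), (1, false), (1, false), (0, false), (0, false), (0, false), (1, true), (1, true), (1, true), (0, true), (1, false), (0, false), (1, true), (1, true), (1, true), (0, true), (1, false), (0, false)], [], [0, 0, 0, 0, 0, 0, 0, 0, 0, 0, 0, 0, 0, 0, 0, 0, 0, 0, 0, 0, 0, 0, 0, 0, 0, 0, 0, 0, 0, 0, 0, 0, 0, 0, 0, 0, 0, 0, 0, 0, 0, 0, 0, 0, 0, 0, 0, 0, 0, 0, 0, 0, 0, 0, 0, 0, 0, 0, 1]⟩,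
    ⟨[(0, true), (0, true), (0, true), (1, true), (1, true), (0, true), (1, false), (1, false), (0, false), (0, false), (0, false), (1, true), (1, true), (1, true), (0, true), (1, false), (0, true), (0, true), (1, true), (1, true), (1, true), (0, true), (1, true), (0, false), (1, false), (1, false), (1, false), (0, true), (1, true), (0, false), (1, false), (1, false), (1, false), (0, true), (0, true), (0, true), (1, true), (1, true), (1, true), (0, true), (1, true), (0, false), (1, false), (1, false), (0, false), (0, false), (1, false)], [], [0, 0, 0, 0, 0, 0, 0, 0, 0, 0, 0, 0, 0, 0, 0, 0, 0, 0, 0, 0, 0, 0, 0, 0, 0, 0, 0, 0, 0, 0, 0, 0, 0, 0, 0, 0, 0, 0, 0, 0, 0, 0, 0, 0, 0, 0, 0, 0, 0, 0, 0, 0, 0, 0, 0, 0, 0, 0, 0, 1]⟩,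
    ⟨[(0, true), (1, true), (1, true), (1, true), (1, true), (1, true), (1, true), (0, false), (1, false), (1, false), (1, false), (0, true), (1, true), (0, false), (1, false), (1, false), (1, false), (1, false), (1, false), (1, false), (0, false), (0, false), (1, true), (0, false), (1, false), (1, false), (1, false), (0, true), (1, true), (0, false), (1, false), (1, false), (1, false), (0, true), (1, true), (0, false), (1, false), (1, false), (1, false), (0, true), (0, true), (0, true), (1, true), (1, true), (1, true), (0, true), (1, true), (0, false), (1, false), (1, false), (1, false)], [], [0, 0, 0, 0, 0, 0, 0, 0, 0, 0, 0, 0, 0, 0, 0, 0, 0, 0, 0, 0, 0, 0, 0, 0, 0, 0, 0, 0, 0, 0, 0, 0, 0, 0, 0, 0, 0, 0, 0, 0, 0, 0, 0, 0, 0, 0, 0, 0, 0, 0, 0, 0, 0, 0, 0, 0, 0, 0, 0, 0, 1]⟩,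
    ⟨[(1, true), (1, true), (0, true), (1, true), (1, true), (0, false), (0, false), (0, false), (1, false), (1, false), (1, false), (0, false), (0, false), (0, false), (1, true), (0, false), (0, false), (1, false), (0, true), (0, true), (0, true), (1, true), (1, true), (1, true), (1, true), (1, true), (1, true), (0, true), (1, false), (0, false), (1, true), (0, false), (0, false), (1, false), (0, true), (0, true), (0, true), (1, true), (1, true), (1, true), (1, true), (1, true), (1, true), (0, true), (1, false), (0, false), (1, false), (1, false), (1, false), (0, false), (0, false), (0, false)], [], [0, 0, 0, 0, 0, 0, 0, 0, 0, 0, 0, 0, 0, 0, 0, 0, 0, 0, 0, 0, 0, 0, 0, 0, 0, 0, 0, 0, 0, 0, 0, 0, 0, 0, 0, 0, 0, 0, 0, 0, 0, 0, 0, 0, 0, 0, 0, 0, 0, 0, 0, 0, 0, 0, 0, 0, 0, 0, 0, 0, 0, 1]⟩,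
    ⟨[(1, true), (0, true), (1, true), (1, true), (1, true), (0, true), (1, false), (1, false), (1, false), (0, false), (1, false), (1, false), (1, false), (1, false), (1, false), (1, false), (0, false), (0, false), (0, false), (1, true), (0, false), (0, false), (1, true), (1, true), (0, true), (1, false), (0, true), (0, true), (1, true), (1, true), (1, true), (1, true), (0, false), (0, false), (1, true), (1, true), (0, true), (1, false), (0, false), (1, true), (0, false), (0, false), (1, true), (1, true), (0, true), (1, false), (0, false), (1, false), (1, false), (1, false), (0, false), (0, false), (0, false)], [], [0, 0, 0, 0, 0, 0, 0, 0, 0, 0, 0, 0, 0, 0, 0, 0, 0, 0, 0, 0, 0, 0, 0, 0, 0, 0, 0, 0, 0, 0, 0, 0, 0, 0, 0, 0, 0, 0, 0, 0, 0, 0, 0, 0, 0, 0, 0, 0, 0, 0, 0, 0, 0, 0, 0, 0, 0, 0, 0, 0, 0, 0, 1]⟩,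
    ⟨[(1, true), (1, true), (0, true), (1, true), (0, true), (1, true), (0, false), (1, false), (1, false), (0, false), (0, false), (1, true), (0, false), (0, false), (1, false), (0, true), (0, true), (0, true), (1, true), (1, true), (1, true), (1, true), (1, true), (1, true), (0, true), (1, false), (0, true), (0, true), (1, true), (1, true), (1, true), (0, true), (1, true), (0, false), (1, false), (1, false), (1, false), (1, false), (1, false), (1, false), (0, false), (0, false), (0, false), (1, true), (1, true), (1, true), (0, true), (1, false), (0, false), (1, true), (1, true), (1, true), (0, true), (1, false), (0, false)], [], [0, 0, 0, 0, 0, 0, 0, 0, 0, 0, 0, 0, 0, 0, 0, 0, 0, 0, 0, 0, 0, 0, 0, 0, 0, 0, 0, 0, 0, 0, 0, 0, 0, 0, 0, 0, 0, 0, 0, 0, 0, 0, 0, 0, 0, 0, 0, 0, 0, 0, 0, 0, 0, 0, 0, 0, 0, 0, 0, 0, 0, 0, 0, 1]⟩,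
    ⟨[(0, true), (0, true), (1, true), (0, true), (1, false), (1, false), (1, false), (1, false), (1, false), (1, false), (0, false), (0, false), (1, true), (0, false), (1, false), (1, false), (1, false), (0, true), (0, true), (0, true), (1, true), (1, true), (1, true), (1, true), (1, true), (1, true), (0, true), (1, false), (0, false), (1, true), (1, true), (1, true), (0, true), (1, false), (0, false), (1, false), (1, false), (1, false), (0, false), (0, false), (1, true), (0, false), (1, false), (1, false), (1, false), (0, true), (0, true), (0, true), (1, true), (1, true), (1, true), (1, true), (1, true), (1, true), (0, true), (1, false), (0, false)], [], [0, 0, 0, 0, 0, 0, 0, 0, 0, 0, 0, 0, 0, 0, 0, 0, 0, 0, 0, 0, 0, 0, 0, 0, 0, 0, 0, 0, 0, 0, 0, 0, 0, 0, 0, 0, 0, 0, 0, 0, 0, 0, 0, 0, 0, 0, 0, 0, 0, 0, 0, 0, 0, 0, 0, 0, 0, 0, 0, 0, 0, 0, 0, 0, 1]⟩,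
    ⟨[(0, true), (0, true), (1, true), (0, true), (0, true), (1, true), (0, true), (0, true), (1, true), (0, true), (0, true), (1, true), (0, true), (0, true), (1, true)], [], [0, 0, 0, 0, 0, 0, 0, 0, 0, 0, 0, 0, 0, 0, 0, 0, 0, 0, 0, 0, 0, 0, 0, 0, 0, 0, 0, 0, 0, 0, 0, 0, 0, 0, 0, 0, 0, 0, 0, 0, 0, 0, 0, 0, 0, 0, 0, 0, 0, 0, 0, 0, 0, 0, 0, 0, 0, 0, 0, 0, 0, 0, 0, 0, 0, 1]⟩,
    ⟨[(1, true), (1, true), (0, true), (0, true), (1, true), (0, false), (1, false), (0, false), (0, false), (0, false), (1, true), (0, false), (0, false), (1, false), (1, false), (1, false), (1, false), (0, false), (0, false), (0, false), (1, true), (0, false), (0, false), (1, false), (1, false), (1, false), (1, false), (0, false), (0, false), (1, true), (0, false), (1, false), (1, false), (0, false), (0, false), (1, false), (1, false), (1, false), (1, false), (0, false), (0, false), (0, false), (1, true), (0, false), (0, false), (1, true), (1, true), (0, true), (1, false), (0,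 true), (0, true), (1, true), (1, true), (1, true), (1, true), (0, false), (0, false), (1, false)], [], [0, 0, 0, 0, 0, 0, 0, 0, 0, 0, 0, 0, 0, 0, 0, 0, 0, 0, 0, 0, 0, 0, 0, 0, 0, 0, 0, 0, 0, 0, 0, 0, 0, 0, 0, 0, 0, 0, 0, 0, 0, 0, 0, 0, 0, 0, 0, 0, 0, 0, 0, 0, 0, 0, 0, 0, 0, 0, 0, 0, 0, 0, 0, 0, 0, 0, 1]⟩]
  pot g := pot1.getK g
  innerSize := 245760
  innerGen := 3

/-- data -/
def level1eqsPart0 : List (ℕ × ℕ × Vec) := [(3, 2, [0, 0, 0, 0, 0, 0, 0, 0, 0, 0, 0, 0, 0, 0, 0, 0, 0, 0, 0, 0, 0, 0, 0, 0, 0, 0, 0, 0, 0, 0, 0, 0, 0, 0, 0, 0, 0, 0, 0, 0, 0, 0, 0, 0, 0, 1, 0, 0, 0, 0, 0, 0, 0, 0, 0, (-1)]), (4, 1, [(-52), (-140), (-412), 56, (-121), 22, 27, 29, 180, (-7), 49, (-85), 173, (-63), 21, (-13), 89, 204, 260, 24, 29, (-19), 118, (-195), (-67), (-138), (-55), (-70), (-3), 81, 78, 1, (-12), (-25), (-2), 17, (-38), 24, 0, 0, 0, 0, 0, 0, 0, (-2), (-3), 0, 4, (-7), 1, 0, (-5), (-9), 1, 0, (-1), 0, 0, 0, 2]), (3, 25, [33, 84, (-386), (-147), 273, (-50),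 178, (-61), 213, (-7), (-102), (-146), 59, 22, (-76), (-5), (-57), 193, 314, (-164), 119, 36, 39, (-119), 24, (-38), (-30), (-57), (-25), (-33), 147, (-76), 14, (-27), (-9), 45, (-57), 27, 0, 0, 0, 0, 0, 0, 0, 10, 31, (-4), (-11), (-6), (-4), 5, (-1), (-1), (-3), (-1), 0, 0, 0, 4]), (3, 10, [68, 206, 1309, (-676), 639, 25, 86, (-499), (-653), 246, (-76), 237, (-285), 205, (-198), (-76), 107, (-1004), (-1262), (-115), 169, 381, (-1169), 760, 205, 402, 234, 115, 0, (-61), (-181), 52, (-52), (-3), (-25), (-49), 109, (-66), 0, 0, 0, 0, 0, 0, 0, 72, 49, 15, (-24), (-26), (-10), 2, 9, 4, (-9), (-1), 0, (-2), 0, (-4), 0, 0, 0, 0, (-2), 2]), (4, 24, [424, 904, 1498, (-325), 723, (-183), 194, (-126), (-431), (-175), (-267), 97, (-1041), 297, (-62), (-323), (-867), (-404), (-262), (-446), 146, 231, (-127), 505, 259, 549, (-46), 14, 59, (-482), (-149), (-144), 134, 73, 5, 57, 57, (-73), 0, 0, 0, 0, 0, 0, 0, (-22), 63, (-20), (-40), 42, (-3), 19, 17, 55, (-3),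 0, (-1), 0, 0, 0, 2, 12, 0, 0, 0, 0, (-12)]), (11, 37, [582, 955, (-658), (-1856), 905, 468, 964, (-431), (-386), 477, (-651), (-287), 243, 26, (-885), 968, 833, (-667), 91, (-1251), 1130, 112, (-1696), 641, 696, 450, 854, 789, (-701), (-1338), 798, (-499), 74, (-93), 176, 227, (-240), 120, 0, 0, 0, 0, 0, 0, 0, 75, 253, (-107), (-96), (-42), (-24), 10, (-19), 1, (-39), (-4), 0, (-6), 1, 7, (-3), 6, 2, (-4), 3, 0, (-4)]), (9, 19, [(-617), (-340), 2581, (-1860), 1182, 251, 493, (-2031), (-418), 439, 186, 150, (-485), 271, 289, (-1263), (-663), (-1375), (-2296), (-409), 595, 2152, (-2630), 950, 119, 403, (-324), (-672), 304, 348, (-157), 143, (-164), 32, (-144), 119, 61, (-183), 0, 0, 0, 0, 0, 0, 0, 392, 364, 45, (-132), (-160), (-25), (-4), (-103), (-142), (-25), 13, (-2), (-2), 5, (-2), 6, 22, 0, (-2), (-9), (-2), (-18)]), (5, 1, [2082, 1248, (-39), 1890, (-2935), 480, (-1009), 3103, (-1766), (-780), (-8), 1150, (-586), (-275), (-825), 3266, 999, (-1833),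 (-1889), 11, (-1414), (-3420), 235, 2491, 765, 1335, 2324, 2307, (-600), 2, (-669), 14, 309, (-50), (-72), (-385), 285, 41, 0, 0, 0, 0, 0, 0, 0, (-629), (-698), 10, 303, 205, 99, 29, 138, 184, 18, (-36), 3, (-3), (-8), 3, (-3), (-45), 1, 3, 5, 11, 25]), (6, 12, [1166, 1515, 5840, (-1094), (-435), 571, (-360), 173, (-3273), 161, (-176), 1723, (-2393), 372, (-355), 706, (-486), (-4197), (-4294), (-857), 156, (-323), (-2726), 3668, 1236, 2265, 1578, 1610, (-282), (-1098), (-1032), (-32), 223, 240, 52, (-231), 499, (-275), 0, 0, 0, 0, 0, 0, 0, (-91), 45, (-31), (-26), 112, (-6), 46, 64, 133, (-30), (-13), (-4), 0, (-3), 0, 0, (-2), 0, 3, 3, 3, 3]), (8, 2, [1341, 979, 3397, (-1291), (-1507), 1269, (-315), 559, (-3065), 610, (-140), 1456, (-893), (-299), (-783), 2410, 1770, (-3670), (-2721), (-920), 789, (-1089), (-2955), 2930, 1170, 1610, 2134, 2452, (-855), (-1587), (-225), (-161), 84, 140, 326, (-12), 187, (-76), 0, 0, 0, 0, 0, 0, 0, (-176), (-37), (-57),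 14, 24, (-26), 43, 36, 126, (-37), (-11), 2, 0, (-5), 4, (-11), (-12), 1, 1, 15, (-3), 12]), (9, 37, [524, (-1048), (-2407), 2840, (-5371), 1288, (-1682), 3235, (-619), (-356), 724, 1011, 1241, (-1459), 150, 3920, 2729, 338, 1790, 1187, (-1063), (-3553), 2264, (-438), (-99), (-391), 1307, 2211, (-796), (-84), 95, 181, 7, 66, 430, (-37), (-116), 188, 0, 0, 0, 0, 0, 0, 0, (-595), (-644), (-15), 270, 155, 49, (-1), 53, 97, 28, (-35), (-2), 12, (-9), 5, (-19), (-30), (-5), 4, 21, (-3), 30]), (6, 27, [(-1359), (-2494), (-2909), (-2778), 217, 1503, 915, (-3215), 1408, 1162, 922, (-1141), 3553, (-1028), (-12), 1533, 2987, 42, (-1279), 89, 996, 2482, (-4510), (-758), (-234), (-1063), 391, (-548), (-373), 2144, 1422, 306, (-773), (-528), (-214), 619, (-613), 138, 0, 0, 0, 0, 0, 0, 0, 528, 262, 193, (-64), (-506), (-23), 29, (-210), (-386), (-36), 1, (-4), (-4), 4, 6, (-6), 16, (-2), (-5), (-7), (-4), (-12)]), (3, 22, [(-1377), (-1673), (-6793), 1817, (-268),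 (-624), 196, 346, 3653, (-423), 295, (-1794), 2654, (-525), 598, (-578), 418, 4882, 5041, 1136, (-489), (-111), 3761, (-4222), (-1381), (-2497), (-1697), (-1680), 347, 1247, 1034, 54, (-188), (-234), (-38), 194, (-520), 312, 0, 0, 0, 0, 0, 0, 0, 19, (-132), 30, 60, (-70), 21, (-54), (-68), (-134), 44, 7, 2, 0, 2, 0, 0, 4, 0, (-2), (-2), (-2), (-4)]), (9, 11, [1765, 2521, 5807, (-3368), 2715, 350, 1003, (-1443), (-2488), 754, (-1162), 599, (-2908), 748, (-936), (-590), (-1231), (-3608), (-2701), (-2255), 1890, 1459, (-3554), 2981, 1501, 2042, 933, 1015, (-566), (-2658), (-36), (-634), 317, 286, 197, 320, 87, (-221), 0, 0, 0, 0, 0, 0, 0, 189, 599, (-153), (-248), (-9), (-78), 72, (-18), 107, (-77), (-1), (-2), (-2), (-1), 7, 1, 27, 1, 0, 6, (-4), (-20)]), (8, 17, [1317, 1318, 8468, (-706), (-1914), 997, (-1189), 714, (-4563), 220, 135, 2705, (-3324), 247, 1, 971, (-536), (-5595), (-5543), (-439), (-177), (-692), (-2959), 4652, 1271, 2719, 1720, 2110,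 (-157), (-1032), (-1698), 237, 217, 414, 131, (-319), 724, (-436), 0, 0, 0, 0, 0, 0, 0, (-207), (-101), (-26), 45, 181, (-2), 38, 74, 175, (-26), (-6), (-2), 5, (-4), (-5), (-1), (-11), (-1), 3, 4, 0, 13]), (5, 15, [(-2243), (-1822), (-4750), 824, 2826, (-1760), 790, (-1527), 3886, (-188), 164, (-1911), 1843, 433, 782, (-3460), (-1333), 4572, 3385, 988, (-293), 1898, 2803, (-3980), (-1523), (-2337), (-2653), (-3239), 1078, 2019, 547, 166, (-255), (-271), (-390), (-76), (-229), 165, 0, 0, 0, 0, 0, 0, 0, 385, 205, 101, (-100), (-123), (-9), (-53), (-24), (-170), 34, 25, 3, (-4), 6, (-8), 11, 10, 2, (-3), (-18), 4, (-10)]), (10, 12, [2289, 1774, 4849, 1166, (-3219), 1045, (-1723), 2774, (-4189), (-353), 23, 2485, (-1952), (-137), (-837), 3712, 1036, (-4711), (-4666), (-58), (-1232), (-3229), (-1671), 4554, 1371, 2579, 2996, 3299, (-709), (-718), (-1458), 179, 293, 186, 92, (-464), 644, (-206), 0, 0, 0, 0, 0, 0, 0, (-613), (-631), (-5), 252, 226, 57, 55,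 174, 270, (-2), (-32), (-2), 4, (-9), 3, (-9), (-36), (-2), 5, 9, 5, 29]), (9, 5, [(-1910), 581, 4890, (-3470), 6958, (-2037), 1632, (-4568), 282, 770, (-667), (-775), (-1840), 2326, 393, (-6340), (-3769), (-716), (-3645), (-494), 841, 5331, (-2938), 376, (-281), 380, (-2342), (-3547), 1785, 598, (-838), 145, (-129), 11, (-589), (-319), 496, (-376), 0, 0, 0, 0, 0, 0, 0, 900, 843, 42, (-362), (-243), (-65), (-49), (-68), (-174), (-18), 65, 11, (-19), 16, (-10), 27, 33, 8, (-8), (-34), 3, (-39)])]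

/-- the table with its checks -/
def level1 : CfsgLib.Sporadic.ChainLevel where
  table := table1
  gexp := [[0, 0], [1, 1]]
  perm := [0x15c31100550f84a130340cc4614c4712c3b150561084e0fc4d0e8510c8490d8440d4410b42f120380f0300f45013c370e4450b8431482c0ac05050290481e0800801c1a09c1b07c0f0a02a0582204c21038250181d0281802415004030700c040040442408c0b034190081709800, 0x15c380c03d1284e154410fc560c4540d8491443c114330d03b1004c0dc431204f1403e11c320e84d0bc520b4441082e0d4391185312c2c0ac0c01011078220a41504c2a014280281d09410064070200f0502002c17070230901206c060382100c2600418058020240d0682707c00]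
  pinv := [0x15c48150491342d108340cc461105112c52100391304e0c03e0b8470f055114530d437128430c4380c83f0f45013c41158360e82f0ec2c0ac1c0a01d084010580801c1a0602507c260500d08022010120081b04029064270240b078170140c018130442408c150a80a0380303c00, 0x15c4e1444c0b8361243d0f8520e0420b4531283f0ec2f11c34100331404313c3c15048110390c0561044b0c4451183a134550dc320d42c0ac22094200080a074110482603016004270781303c0306c08050070901708c100a01c0600d0102a0541f014190680e0842902c0602400]
  defs := [[(1, true), (0, true), (0, true), (1, false)], [(1, true), (1, true), (1, true), (0, true), (1, false), (0, false)], [(0, true), (0, true), (0, true), (1, true), (1, true), (1, true)]]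
  eqs := level1eqsPart0
  pts := [1]

end CfsgLib.Sporadic.MultTwoMono
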