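import Mathlib
import Cfsg.Agent.Lib.Sporadic.ChainCertificate
import Cfsg.Agent.Lib.Schur.TrieFast

/-!
# Coset table 2 of a chain
-/

set_option autoImplicit false
set_option maxRecDepth 100000
set_option maxHeartbeats 0
set_option Elab.async false

noncomputable section

namespace CfsgLib.Sporadic.MultTwoMono

open CfsgLib.Schur.Cert

/-- data -/
def next2 : Trie (ℕ) := .node (.node (.node (.node (.node (.node (.node (.leaf 1) (.leaf 30)) (.node (.leaf 23) (.leaf 18))) (.node (.node (.leaf 12) (.leaf 7)) (.node (.leaf 30) (.leaf 28)))) (.node (.node (.node (.leaf 8) (.leaf 37)) (.node (.leaf 23) (.leaf 38))) (.node (.node (.leaf 17) (.leaf 6)) (.leaf 33)))) (.node (.node (.node (.node (.leaf 4) (.leaf 35)) (.node (.leaf 26) (.leaf 25))) (.node (.node (.leaf 15) (.leaf 22)) (.node (.leaf 16) (.leaf 34)))) (.node (.node (.node (.leaf 4) (.leaf 38)) (.node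 (.leaf 30) (.leaf 33))) (.node (.node (.leaf 20) (.leaf 39)) (.leaf 20))))) (.node (.node (.node (.node (.node (.leaf 3) (.leaf 28)) (.node (.leaf 24) (.leaf 29))) (.node (.node (.leaf 2) (.leaf 19)) (.node (.leaf 31) (.leaf 39)))) (.node (.node (.node (.leaf 1) (.leaf 20)) (.node (.leaf 15) (.leaf 34))) (.node (.node (.leaf 19) (.leaf 16)) (.leaf 31)))) (.node (.node (.node (.node (.leaf 6) (.leaf 36)) (.node (.leaf 2) (.leaf 19))) (.node (.node (.leaf 0) (.leaf 1)) (.node (.leaf 32) (.leaf 35)))) (.node (.node (.node (.leaf 10) (.leaf 12)) (.node (.leaf 9) (.leaf 27))) (.node (.node (.leaf 21) (.leaf 27)) (.leaf 11)))))) (.node (.node (.node (.node (.node (.node (.leaf 2) (.leaf 14)) (.node (.leaf 5) (.leaf 11))) (.node (.node (.leaf 13) (.leaf 13)) (.node (.leaf 26) (.leaf 9)))) (.node (.node (.node (.leaf 9) (.leaf 17)) (.node (.leaf 28) (.leaf 35)))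 (.node (.node (.leaf 18) (.leaf 22)) (.leaf 34)))) (.node (.node (.node (.node (.leaf 5) (.leaf 23)) (.node (.leaf 21) (.leaf 37))) (.node (.node (.leaf 7) (.leaf 5)) (.node (.leaf 4) (.leaf 38)))) (.node (.node (.node (.leaf 3) (.leaf 24)) (.node (.leaf 14) (.leaf 13))) (.node (.node (.leaf 18) (.leaf 31)) (.leaf 15))))) (.node (.node (.node (.node (.node (.leaf 0) (.leaf 10)) (.node (.leaf 25) (.leaf 36))) (.node (.node (.leaf 14) (.leaf 36)) (.node (.leaf 8) (.leaf 33)))) (.node (.node (.node (.leaf 0) (.leaf 25)) (.node (.leaf 29) (.leaf 32))) (.node (.node (.leaf 3) (.leaf 37)) (.leaf 12)))) (.node (.node (.node (.node (.leaf 7) (.leaf 17)) (.node (.leaf 27) (.leaf 39))) (.node (.node (.leaf 16) (.leaf 29)) (.node (.leaf 8) (.leaf 21)))) (.node (.node (.node (.leaf 11) (.leaf 32)) (.node (.leaf 6) (.leaf 24))) (.node (.node (.leaf 22) (.leaf 26)) (.leaf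 10))))))

/-- data -/
def prev2 : Trie (ℕ) := .node (.node (.node (.node (.node (.node (.node (.leaf 1) (.leaf 12)) (.node (.leaf 4) (.leaf 18))) (.node (.node (.leaf 28) (.leaf 31)) (.node (.leaf 30) (.leaf 30)))) (.node (.node (.node (.leaf 12) (.leaf 37)) (.node (.leaf 36) (.leaf 38))) (.node (.node (.leaf 17) (.leaf 14)) (.leaf 9)))) (.node (.node (.node (.node (.leaf 3) (.leaf 29)) (.node (.leaf 26) (.leaf 38))) (.node (.node (.leaf 15) (.leaf 22)) (.node (.leaf 24) (.leaf 34)))) (.node (.node (.node (.leaf 4) (.leaf 33)) (.node (.leaf 21) (.leaf 33))) (.node (.node (.leaf 15) (.leaf 14)) (.leaf 20))))) (.node (.node (.node (.node (.node (.leaf 3) (.leaf 28)) (.node (.leaf 32) (.leaf 35))) (.node (.node (.leaf 2) (.leaf 31)) (.node (.leaf 7) (.leaf 39)))) (.node (.node (.node (.leaf 4) (.leaf 25)) (.node (.leaf 15) (.leaf 39))) (.node (.node (.leaf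 2) (.leaf 16)) (.leaf 27)))) (.node (.node (.node (.node (.leaf 6) (.leaf 13)) (.node (.leaf 19) (.leaf 19))) (.node (.node (.leaf 2) (.leaf 13)) (.node (.leaf 32) (.leaf 34)))) (.node (.node (.node (.leaf 17) (.leaf 12)) (.node (.leaf 20) (.leaf 27))) (.node (.node (.leaf 21) (.leaf 19)) (.leaf 24)))))) (.node (.node (.node (.node (.node (.node (.leaf 7) (.leaf 39)) (.node (.leaf 5) (.leaf 26))) (.node (.node (.leaf 1) (.leaf 13)) (.node (.leaf 17) (.leaf 33)))) (.node (.node (.node (.leaf 9) (.leaf 11)) (.node (.leaf 5) (.leaf 35))) (.node (.node (.leaf 18) (.leaf 32)) (.leaf 34)))) (.node (.node (.node (.node (.leaf 28) (.leaf 23)) (.node (.leaf 5) (.leaf 18))) (.node (.node (.leaf 7) (.leaf 37)) (.node (.leaf 23) (.leaf 38)))) (.node (.node (.node (.leaf 1) (.leaf 11)) (.node (.leaf 14) (.leaf 23))) (.node (.node (.leaf 37) (.leaf 31)) (.leaf 9)))))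 (.node (.node (.node (.node (.node (.leaf 0) (.leaf 10)) (.node (.leaf 20) (.leaf 36))) (.node (.node (.leaf 29) (.leaf 36)) (.node (.leaf 8) (.leaf 25)))) (.node (.node (.node (.leaf 0) (.leaf 25)) (.node (.leaf 6) (.leaf 22))) (.node (.node (.leaf 3) (.leaf 21)) (.leaf 8)))) (.node (.node (.node (.node (.leaf 0) (.leaf 10)) (.node (.leaf 27) (.leaf 35))) (.node (.node (.leaf 26) (.leaf 29)) (.node (.leaf 8) (.leaf 30)))) (.node (.node (.node (.leaf 11) (.leaf 16)) (.node (.leaf 6) (.leaf 24))) (.node (.node (.leaf 22) (.leaf 16)) (.leaf 10))))))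

/-- data -/
def lab2 : Trie (Word) := .node (.node (.node (.node (.node (.node (.node (.leaf ([])) (.leaf ([(3, false), (1, false), (3, true), (1, false), (3, false), (2, true), (0, true)]))) (.node (.leaf ([])) (.leaf ([])))) (.node (.node (.leaf ([])) (.leaf ([(3, false), (2, true), (0, true), (1, false), (3, true), (1, false), (0, true)]))) (.node (.leaf ([(2, true), (3, false), (1, true), (2, true), (1, true), (3, false), (0, true)])) (.leaf ([(2, true), (1, true), (3, true), (1, false), (3, false)]))))) (.node (.node (.node (.leaf ([])) (.leaf ([]))) (.node (.leaf ([(0, true)])) (.leaf ([(1, true), (0, true), (3, true), (2, true), (1, true), (1, true), (0, true)])))) (.node (.node (.leaf ([])) (.leaf ([(1, false), (0, true), (1, true), (0, true)]))) (.leaf ([]))))) (.node (.node (.node (.node (.leaf ([])) (.leaf ([]))) (.node (.leaf ([])) (.leaf ([(1,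 true), (3, false)])))) (.node (.node (.leaf ([])) (.leaf ([(3, true), (2, true), (1, true), (0, true), (3, false), (1, true), (1, true)]))) (.node (.leaf ([(3, false), (1, false), (0, true), (3, false), (2, true), (0, true)])) (.leaf ([(2, true), (1, true), (1, true), (0, true), (3, false), (1, false)]))))) (.node (.node (.node (.leaf ([(2, true)])) (.leaf ([]))) (.node (.leaf ([])) (.leaf ([(0, true), (1, true), (3, true), (2, true), (1, false), (3, true)])))) (.node (.node (.leaf ([])) (.leaf ([]))) (.leaf ([(3, false), (1, false), (0, true), (1, true), (3, true), (2, true)])))))) (.node (.node (.node (.node (.node (.leaf ([])) (.leaf ([(3, true), (0, true), (1, false), (2, true), (3, false), (1, true), (1, true)]))) (.node (.leaf ([])) (.leaf ([(3, true), (2, true), (1, true), (0, true), (3, false), (2, true)])))) (.node (.node (.leaf ([])) (.leaf ([(0,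 true)]))) (.node (.leaf ([])) (.leaf ([(2, true), (1, true), (1, true), (3, false), (1, true), (1, true)]))))) (.node (.node (.node (.leaf ([(1, true)])) (.leaf ([(1, true), (2, true), (0, true), (1, false), (3, true), (0, true)]))) (.node (.leaf ([(0, true), (1, true)])) (.leaf ([(2, true), (3, true), (0, true), (1, true), (3, true), (1, false)])))) (.node (.node (.leaf ([])) (.leaf ([(1, true), (2, true), (0, true), (1, false), (3, false), (1, true), (1, true)]))) (.leaf ([(1, false), (0, true), (1, true)]))))) (.node (.node (.node (.node (.leaf ([])) (.leaf ([]))) (.node (.leaf ([(3, true)])) (.leaf ([])))) (.node (.node (.leaf ([(1, false), (0, true), (1, true), (0, true)])) (.leaf ([]))) (.node (.leaf ([])) (.leaf ([(2, true), (3, false), (2, true), (3, false), (1, false), (0, true)]))))) (.node (.node (.node (.leaf ([])) (.leaf ([]))) (.node (.leaf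 ([(1, true), (0, true), (1, true)])) (.leaf ([(1, false), (3, false), (0, true), (3, true)])))) (.node (.node (.leaf ([])) (.leaf ([]))) (.leaf ([(3, false), (1, true), (3, false), (1, false), (2, true)]))))))) (.node (.node (.node (.node (.node (.node (.leaf ([])) (.leaf ([(1, true), (2, true), (3, true), (1, true), (1, true), (0, true)]))) (.node (.leaf ([])) (.leaf ([(3, true), (0, true), (3, false), (1, true), (2, true), (0, true), (1, false)])))) (.node (.node (.leaf ([])) (.leaf ([]))) (.node (.leaf ([(0, true), (1, true), (3, true), (2, true), (3, true), (1, true)])) (.leaf ([(3, false), (1, false), (0, true), (3, false), (1, false), (3, true), (1, false)]))))) (.node (.node (.node (.leaf ([])) (.leaf ([(1, true), (3, true), (2, true), (1, true), (1, true)]))) (.node (.leaf ([])) (.leaf ([(1, false), (3, false), (2, true), (0, true), (3, true), (1,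 true)])))) (.node (.node (.leaf ([])) (.leaf ([(1, true), (3, false), (1, false), (0, true), (3, false), (2, true)]))) (.leaf ([]))))) (.node (.node (.node (.node (.leaf ([])) (.leaf ([(2, true), (1, false), (0, true), (1, true)]))) (.node (.leaf ([(0, true), (1, true), (2, true), (0, true), (3, true), (1, true), (0, true)])) (.leaf ([(1, true), (3, false), (1, false), (2, true)])))) (.node (.node (.leaf ([(3, true), (1, true), (0, true), (1, true), (3, false), (2, true), (0, true)])) (.leaf ([(1, true), (2, true), (0, true), (1, false), (3, true), (1, true)]))) (.node (.leaf ([(1, true), (1, true), (0, true), (1, true), (3, false), (1, false)])) (.leaf ([(1, true), (1, true), (3, true), (2, true), (1, true), (1, true)]))))) (.node (.node (.node (.leaf ([(0, true), (1, false), (0, true)])) (.leaf ([(2, true), (0, true), (1, true), (3, true), (2, true), (1,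 false)]))) (.node (.leaf ([(1, false), (0, true)])) (.leaf ([(1, false), (0, true), (1, true)])))) (.node (.node (.leaf ([(0, true), (1, true), (2, true), (3, false), (2, true), (1, true)])) (.leaf ([(3, true), (1, true), (0, true), (1, true), (3, false), (2, true)]))) (.leaf ([(1, true), (1, true), (0, true)])))))) (.node (.node (.node (.node (.node (.leaf ([])) (.leaf ([(1, true), (3, true), (2, true), (3, true), (1, false), (3, false)]))) (.node (.leaf ([])) (.leaf ([(3, false), (1, true), (2, true), (3, false), (1, false), (0, true)])))) (.node (.node (.leaf ([])) (.leaf ([(3, true), (0, true), (3, false), (1, true)]))) (.node (.leaf ([])) (.leaf ([(1, true), (1, true), (3, true), (2, true), (1, true), (2, true)]))))) (.node (.node (.node (.leaf ([(0, true)])) (.leaf ([(1, false), (3, false), (1, true), (2, true), (1, true), (3, true), (1, true), (0,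 true)]))) (.node (.leaf ([])) (.leaf ([(3, false), (1, true), (2, true), (0, true), (1, false)])))) (.node (.node (.leaf ([])) (.leaf ([(1, true), (1, true), (3, false), (1, false)]))) (.leaf ([(3, false)]))))) (.node (.node (.node (.node (.leaf ([])) (.leaf ([(3, true), (1, true), (3, false), (1, true), (3, true), (0, true)]))) (.node (.leaf ([])) (.leaf ([(1, false), (0, true), (1, true)])))) (.node (.node (.leaf ([])) (.leaf ([(2, true), (1, false), (0, true), (1, true), (0, true)]))) (.node (.leaf ([(2, true), (0, true), (3, false), (1, false), (2, true), (0, true)])) (.leaf ([(0, true), (1, true), (1, true), (3, false), (2, true), (1, false)]))))) (.node (.node (.node (.leaf ([])) (.leaf ([(0, true), (3, false), (2, true), (1, true)]))) (.node (.leaf ([(1, false), (0, true), (1, true)])) (.leaf ([])))) (.node (.node (.leaf ([])) (.leaf ([(3, false),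 (2, true), (0, true), (1, false), (3, true), (1, false), (0, true)]))) (.leaf ([])))))))

/-- data -/
def val2_00 : Trie (Vec) := .node (.node (.node (.node (.node (.leaf ([])) (.leaf ([(-77), (-121), (-304), (-1), 20, (-9), 44, (-55), 131, 16, 35, (-67), 172, (-28), (-4), (-2), 106, 134, 109, 34, 17, 34, (-2), (-132), (-49), (-95), (-32), (-59), (-6), 73, 60, 9, (-23), (-24), (-6), 5, (-23), 17, 0, 0, 0, 0, 0, 0, 0, 13, 7, 5, (-2), (-13), (-1), 0, (-5), (-11)]))) (.node (.leaf ([])) (.leaf ([0, 0, 0, 0, 0, 0, 0, 0, 0, 0, 0, 0, 0, 0, 0, 0, 0, 0, 0, 0, 0, 0, 0, 0, 0, 0, 0, 0, 0, 0, 0, 0, 0, 0, 0, 0, 0, 0, 0, 0, 0, 0, 0, 0, 0, 1])))) (.node (.node (.leaf ([])) (.leaf ([9, 8, 114, (-45), 50, (-2), 4, (-42), (-46), 22, (-7), 19, (-34), 14, (-10), (-29), (-2), (-71), (-91), (-15), 20, 41, (-88), 57, 11, 21, 7, 5, (-1), (-17), (-15), 1, (-2), 4, (-1), (-4), 10,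 (-6), 0, 0, 0, 0, 0, 0, 0, 8, 7, (-1), (-3), (-4), (-1), 0, 0, 0, (-1)]))) (.node (.leaf ([(-8), (-20), 146, (-86), 37, 21, 22, (-85), (-32), 30, 4, 20, (-45), (-6), 18, (-43), (-23), (-80), (-79), (-29), 49, 83, (-111), 43, 17, 22, (-5), (-9), 3, (-10), 3, (-1), (-4), 4, 0, 11, (-2), (-7), 0, 0, 0, 0, 0, 0, 0, 15, 19, 0, (-6), (-4), (-2), 0, (-5), (-4), (-2)])) (.leaf ([17, 33, 163, (-52), 11, 18, (-4), (-21), (-86), 15, (-6), 43, (-52), 8, (-9), 14, (-6), (-123), (-127), (-20), 14, 14, (-99), 95, 35, 55, 39, 34, (-6), (-20), (-22), 2, 0, 4, 1, (-2), 11, (-8), 0, 0, 0, 0, 0, 0, 0, 3, 5, 0, (-2), 0, (-1), 1, 1, 2, (-1)]))))) (.node (.node (.node (.leaf ([])) (.leaf ([]))) (.node (.leaf ([1, (-2), (-5), 6, 8, (-4), (-1), (-5), 7, 2, (-1), (-7), 3, (-2), 2, (-17), (-3), 9, 8, 2, 3, 8, 8, (-10), (-4), (-9), (-8), (-6), 0, (-6), 0, 0, 0, 2, 0, 0, 0, 0, 0, 0,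 0, 0, 0, 0, 0, 0, 0, (-1)])) (.leaf ([42, 54, 253, 33, (-93), 13, (-59), 73, (-150), (-9), 8, 87, (-112), 19, 6, 16, (-24), (-151), (-150), 22, (-38), (-67), (-11), 121, 27, 76, 45, 59, 12, (-39), (-77), 14, 12, 12, 7, (-24), 32, (-14), 0, 0, 0, 0, 0, 0, 0, (-10), (-11), 0, 3, 8, 2, 0, 4, 8, 1])))) (.node (.node (.leaf ([])) (.leaf ([(-7), 1, 3, (-12), 16, (-6), 4, (-4), (-1), 6, (-4), (-1), (-1), 8, (-2), (-3), (-4), (-2), (-4), 4, 0, 4, 0, (-4), 2, 2, 0, (-4), 2, 0, 0, 0, 0, (-2), 0, 0, 0, 0, 0, 0, 0, 0, 0, 0, 0, 0, 1]))) (.leaf ([]))))) (.node (.node (.node (.node (.leaf ([])) (.leaf ([]))) (.node (.leaf ([])) (.leaf ([0, 0, 0, 0, 0, 0, 0, 0, 0, 0, 0, 0, 0, 0, 0, 0, 0, 0, 0, 0, 0, 0, 0, 0, 0, 0, 0, 0, 0, 0, 0, 0, 0, 0, 0, 0, 0, 0, 0, 0, 0, 0, 0, 0, 0, 0, 0, 0, 0, 0, 0, 0, 1])))) (.node (.node (.leaf ([])) (.leaf ([(-12), (-25), (-117), 61, (-29), (-13),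 (-6), 27, 56, (-14), 8, (-26), 39, (-17), 14, (-25), (-4), 87, 91, 20, (-12), (-14), 95, (-73), (-24), (-46), (-27), (-20), 1, 4, 10, 0, 1, 1, 1, (-1), (-6), 5, 0, 0, 0, 0, 0, 0, 0, (-3), (-6), (-1), 2, 3, 1, (-1), 0, 0, 1]))) (.node (.leaf ([84, 103, 431, (-209), 152, 28, 44, (-118), (-210), 59, (-43), 91, (-156), 35, (-56), (-12), (-29), (-313), (-315), (-126), 92, 79, (-319), 271, 96, 144, 98, 83, (-28), (-85), (-35), (-18), 7, 12, (-3), 1, 24, (-19), 0, 0, 0, 0, 0, 0, 0, 16, 25, (-1), (-11), (-2), (-3), 3, 3, 7, (-4)])) (.leaf ([3, (-27), 7, (-43), 10, 19, 27, (-49), 30, 7, 6, (-11), (-9), (-19), 15, (-25), (-18), 9, 26, (-28), 39, 54, (-32), (-18), 0, (-8), (-16), (-17), (-3), 6, 31, (-8), (-2), (-2), 1, 18, (-16), 2, 0, 0, 0, 0, 0, 0, 0, 4, 9, 0, (-2), 0, (-3), 1, (-4), (-4), (-1)]))))) (.node (.node (.node (.leaf ([])) (.leaf ([]))) (.node (.leaf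 ([])) (.leaf ([9, 14, 21, (-19), 9, 8, 7, (-8), (-14), (-3), (-3), 8, (-6), 0, (-9), 31, 9, (-20), (-13), (-18), 4, (-10), (-33), 28, 9, 17, 15, 12, (-2), 8, 1, (-2), (-1), (-5), (-2), 2, 0, (-1), 0, 0, 0, 0, 0, 0, 0, 1, 0, 2, 0, (-1), 0, 0, 0, 1])))) (.node (.node (.leaf ([])) (.leaf ([]))) (.leaf ([0, (-16), 0, 19, (-46), 6, (-13), 28, (-8), 0, 4, 16, (-8), (-3), 7, 8, 5, (-4), (-8), 14, (-15), (-18), 16, 6, (-5), 0, 2, 11, (-2), (-7), (-7), 3, 1, 5, 3, (-5), 3, (-1), 0, 0, 0, 0, 0, 0, 0, (-3), (-2), (-1), 2, 1, 1, 0, (-2), (-2)])))))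

/-- data -/
def val2_010 : Trie (Vec) := .node (.node (.node (.node (.leaf ([])) (.leaf ([9, 16, 159, (-48), 10, 17, (-6), (-30), (-79), 16, (-2), 45, (-46), 11, (-6), 13, 2, (-110), (-131), (-20), 5, 14, (-109), 101, 23, 51, 32, 31, (-3), (-10), (-26), 4, (-1), 5, (-1), (-7), 14, (-9), 0, 0, 0, 0, 0, 0, 0, 4, 6, 1, (-2), (-3), (-1), 1, 0, 0, (-1)]))) (.node (.leaf ([])) (.leaf ([0, (-20), (-44), (-30), 39, 9, 28, (-54), 22, 6, 4, (-13), 38, (-17), (-13), 10, 35, 4, (-20), (-30), 24, 36, (-81), 13, 1, (-9), 9, 0, (-15), 16, 26, (-6), (-7), (-5), (-7), 6, (-8), 3, 0, 0, 0, 0, 0, 0, 0, 6, 5, 3, (-2), (-6), (-1), 2, 0, (-4), (-1)])))) (.node (.node (.leaf ([0, 0, 0, 0, 0, 0, 0, 0, 0, 0, 0, 0, 0, 0, 0, 0, 0, 0, 0, 0, 0, 0, 0, 0, 0, 0, 0, 0, 0, 0, 0, 0, 0, 0, 0, 0, 0, 0, 0, 0, 0, 0, 0, 0, 0, 1])) (.leaf ([1, (-2), (-5), 6, 8, (-4), (-1), (-5), 7, 2, (-1), (-7),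 3, (-2), 2, (-17), (-3), 9, 8, 2, 3, 8, 8, (-10), (-4), (-9), (-8), (-6), 0, (-6), 0, 0, 0, 2, 0, 0, 0, 0, 0, 0, 0, 0, 0, 0, 0, 1, 0, (-1), 0, 0, (-1)]))) (.node (.leaf ([])) (.leaf ([7, (-13), (-32), 22, (-51), 15, (-19), 30, 14, 0, 5, (-7), 9, (-10), 6, 22, 4, 33, 42, 16, (-17), (-21), 43, (-25), (-11), (-20), (-9), 1, (-6), 5, 6, 2, 1, 1, 2, 4, (-7), 1, 0, 0, 0, 0, 0, 0, 0, (-2), 0, (-1), 1, 3, 1, (-1), (-1), (-1)]))))) (.node (.node (.node (.leaf ([])) (.leaf ([24, 36, 199, (-80), 20, 25, 0, (-30), (-102), 28, (-13), 51, (-67), 11, (-14), 26, (-7), (-145), (-153), (-29), 22, 26, (-129), 110, 45, 70, 49, 45, (-11), (-28), (-18), (-3), 2, 5, 1, 0, 10, (-8), 0, 0, 0, 0, 0, 0, 0, 2, 6, (-1), (-2), (-1), (-1), 2, 1, 2, (-2)]))) (.node (.leaf ([0, 0, 0, 0, 0, 0, 0, 0, 0, 0, 0, 0, 0, 0, 0, (-1), 0, 0, 0, 0, 0, 0, 0, 0, 0, 0, 0, 0, 0, 0, 0, 0, 0, 0, 0, 0, 0,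 0, 0, 0, 0, 0, 0, 0, 0, 1, 0, 0, 0, (-1)])) (.leaf ([(-16), (-22), (-31), (-56), 50, 7, 35, (-62), 22, 14, 0, (-12), 30, (-5), (-8), 15, 26, 3, (-23), (-23), 21, 44, (-79), 5, 6, (-3), 8, (-6), (-9), 17, 29, (-7), (-8), (-6), (-5), 7, (-9), 3, 0, 0, 0, 0, 0, 0, 0, 9, 9, 1, (-3), (-7), (-2), 0, (-1), (-5), (-1)])))) (.node (.node (.leaf ([])) (.leaf ([(-50), (-69), (-160), 50, (-87), 2, (-18), 54, 76, (-5), 16, (-17), 56, (-9), 28, 30, 15, 110, 106, 59, (-40), (-37), 121, (-110), (-30), (-45), (-22), (-26), 14, 48, 23, 6, (-4), (-10), 0, (-1), (-12), 10, 0, 0, 0, 0, 0, 0, 0, (-6), (-8), 1, 4, 0, 2, 0, (-2), (-4), 1]))) (.leaf ([(-3), 3, 8, (-8), 8, (-2), 1, (-1), (-5), 4, (-3), 2, (-2), 4, (-2), 8, 0, (-7), (-6), 2, (-1), (-2), (-4), 2, 4, 5, 4, 2, 0, 0, 0, 0, 0, (-2), 0, 0, 0, 0, 0, 0, 0, 0, 0, 0, 0, 2, 2, 1, (-1), 0, 1]))))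

/-- data -/
def val2_011 : Trie (Vec) := .node (.node (.node (.node (.leaf ([])) (.leaf ([]))) (.node (.leaf ([])) (.leaf ([0, 0, 0, 0, 0, 0, 0, 0, 0, 0, 0, 0, 0, 0, 0, 0, 0, 0, 0, 0, 0, 0, 0, 0, 0, 0, 0, 0, 0, 0, 0, 0, 0, 0, 0, 0, 0, 0, 0, 0, 0, 0, 0, 0, 0, 1])))) (.node (.node (.leaf ([0, 0, 0, 0, 0, 0, 0, 0, 0, 0, 0, 0, 0, 0, 0, (-1), 0, 0, 0, 0, 0, 0, 0, 0, 0, 0, 0, 0, 0, 0, 0, 0, 0, 0, 0, 0, 0, 0, 0, 0, 0, 0, 0, 0, 0, (-1), (-1), 0, 1])) (.leaf ([1, (-2), (-5), 6, 8, (-4), (-1), (-5), 7, 2, (-1), (-7), 3, (-2), 2, (-16), (-3), 9, 8, 2, 3, 8, 8, (-10), (-4), (-9), (-8), (-6), 0, (-6), 0, 0, 0, 2, 0, 0, 0, 0, 0, 0, 0, 0, 0, 0, 0, 1]))) (.node (.leaf ([])) (.leaf ([21, 30, 84, (-11), (-31), 11, (-1), 15, (-46), (-6), 0, 26, (-46), (-2), 8, 11, (-28), (-54), (-28), (-21), 9, (-22), (-3), 44, 21, 36, 26, 28, 1, (-23), (-10), (-5), 8, 3, 3, 2, 4, (-2), 0,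 0, 0, 0, 0, 0, 0, (-8), (-5), (-1), 2, 6, 0, 1, 0, 5]))))) (.node (.node (.node (.leaf ([])) (.leaf ([0, 0, 0, 0, 0, 0, 0, 0, 0, 0, 0, 0, 0, 0, 0, 0, 0, 0, 0, 0, 0, 0, 0, 0, 0, 0, 0, 0, 0, 0, 0, 0, 0, 0, 0, 0, 0, 0, 0, 0, 0, 0, 0, 0, 0, 1]))) (.node (.leaf ([(-3), 3, 8, (-8), 8, (-2), 1, (-1), (-5), 4, (-3), 2, (-2), 4, (-2), 8, 0, (-7), (-6), 2, (-1), (-2), (-4), 2, 4, 5, 4, 2, 0, 0, 0, 0, 0, (-2), 0, 0, 0, 0, 0, 0, 0, 0, 0, 0, 0, (-2), (-2), 0, 1, (-1), 0, 1])) (.leaf ([(-9), (-23), 13, 7, (-83), 19, 0, 29, (-34), (-9), 13, 48, (-9), (-13), 11, 19, 5, (-59), (-61), (-18), (-7), (-33), (-28), 62, 16, 25, 38, 32, (-1), 4, (-13), 1, 5, 4, 0, (-9), 6, (-2), 0, 0, 0, 0, 0, 0, 0, (-1), 1, 1, 2, 2, 1, (-2), (-4), (-2)])))) (.node (.node (.leaf ([])) (.leaf ([0, 0, 0, 0, 0, 0, 0, 0, 0, 0, 0, 0, 0, 0, 0, 0, 0, 0, 0, 0, 0, 0, 0, 0, 0, 0, 0, 0, 0, 0, 0, 0, 0, 0,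 0, 0, 0, 0, 0, 0, 0, 0, 0, 0, 0, (-1), 1]))) (.leaf ([2, 7, 25, (-13), 35, (-6), 8, (-24), (-7), 2, (-4), 1, (-5), 4, (-5), (-20), (-3), (-13), (-18), (-13), 11, 16, (-25), 16, 2, 3, 0, (-3), 0, (-7), (-3), (-1), (-1), 2, (-2), 0, 3, (-2), 0, 0, 0, 0, 0, 0, 0, 4, 3, 1, (-2), (-1), (-1), 0, 1, 1]))))

/-- data -/
def val2_100 : Trie (Vec) := .node (.node (.node (.node (.leaf ([])) (.leaf ([(-3), 6, 176, (-87), 76, 7, 3, (-72), (-77), 40, (-10), 36, (-36), 23, (-19), (-12), 14, (-122), (-163), (-19), 26, 64, (-159), 93, 26, 43, 26, 17, (-6), (-15), (-19), 5, (-8), 4, (-2), (-7), 13, (-9), 0, 0, 0, 0, 0, 0, 0, 15, 14, 1, (-6), (-9), (-2), 1, 1, (-2), (-2)]))) (.node (.leaf ([0, 0, 0, 0, 0, 0, 0, 0, 0, 0, 0, 0, 0, 0, 0, 0, 0, 0, 0, 0, 0, 0, 0, 0, 0, 0, 0, 0, 0, 0, 0, 0, 0, 0, 0, 0, 0, 0, 0, 0, 0, 0, 0, 0, 0, 1])) (.leaf ([(-20), (-22), (-80), 20, (-16), 0, 5,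 4, 40, (-9), 6, (-12), 31, (-13), 8, 16, 13, 45, 53, 3, (-1), (-6), 23, (-36), (-8), (-19), (-8), (-9), (-2), 18, 20, (-2), (-3), (-4), (-1), 5, (-9), 5, 0, 0, 0, 0, 0, 0, 0, 0, (-1), 1, 1, (-2), 0, 0, 0, (-2)])))) (.node (.node (.leaf ([])) (.leaf ([0, 0, 0, 0, 0, 0, 0, 0, 0, 0, 0, 0, 0, 0, 0, 0, 0, 0, 0, 0, 0, 0, 0, 0, 0, 0, 0, 0, 0, 0, 0, 0, 0, 0, 0, 0, 0, 0, 0, 0, 0, 0, 0, 0, 0, 1]))) (.node (.leaf ([0, 1, 29, (-47), 59, (-1), 24, (-53), (-14), 15, (-3), 0, 7, 3, (-15), (-2), 17, (-35), (-58), (-21), 19, 33, (-81), 33, 12, 12, 14, 4, (-10), (-3), 5, (-3), (-4), (-2), (-5), (-1), 1, (-1), 0, 0, 0, 0, 0, 0, 0, 7, 8, 2, (-3), (-4), (-1), 1, 0, (-2), (-1)])) (.leaf ([4, 26, 124, (-55), 55, (-2), 8, (-36), (-63), 21, (-12), 28, (-34), 15, (-11), 9, (-2), (-95), (-111), (-12), 12, 23, (-90), 69, 29, 44, 31, 21, (-2), (-11), (-13), 0, (-1), 1, (-1), (-3), 9,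 (-5), 0, 0, 0, 0, 0, 0, 0, 4, 5, 1, (-2), (-1), (-1), 1, 1, 1, (-1)]))))) (.node (.node (.node (.leaf ([])) (.leaf ([(-32), (-23), (-388), 100, (-63), (-37), 33, 113, 189, (-56), (-11), (-82), 64, (-4), 20, (-4), (-32), 270, 340, 18, (-28), (-76), 271, (-201), (-54), (-89), (-79), (-63), 11, 11, 66, (-20), 10, (-7), 7, 9, (-33), 21, 0, 0, 0, 0, 0, 0, 0, (-14), (-7), (-6), 5, 8, 2, (-3), (-4), (-3), 2]))) (.node (.leaf ([])) (.leaf ([(-37), (-41), (-248), 106, (-57), (-31), 8, 64, 85, (-46), 22, (-19), 86, (-19), 9, 33, 36, 143, 143, 27, (-43), (-90), 140, (-89), (-37), (-55), (-10), (-14), 17, 54, 15, 0, 2, (-13), (-4), (-13), (-5), 13, 0, 0, 0, 0, 0, 0, 0, (-7), (-18), 4, 6, 5, 3, (-4), 2, 2, 3])))) (.node (.node (.leaf ([])) (.leaf ([25, 48, 65, 40, (-49), (-2), (-27), 67, (-25), (-26), (-10), 18, (-67), 12, 12, 0, (-57), (-16), 22, 5, (-21), (-45), 75,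 13, 8, 25, (-4), 9, 17, (-16), (-24), 0, 12, 6, 4, (-1), 6, (-4), 0, 0, 0, 0, 0, 0, 0, (-11), (-12), (-3), 5, 8, 1, (-1), 1, 5, 1]))) (.leaf ([]))))

/-- data -/
def val2_101 : Trie (Vec) := .node (.node (.node (.node (.leaf ([])) (.leaf ([(-4), (-2), (-5), (-4), 8, (-4), 3, (-3), 4, 2, (-1), (-3), 1, 4, 0, (-11), (-5), 5, 2, 2, 1, 6, 4, (-6), (-2), (-3), (-4), (-6), 2, 0, 0, 0, 0, 0, 0, 0, 0, 0, 0, 0, 0, 0, 0, 0, 0, 0, 0, (-1)]))) (.node (.leaf ([12, 0, (-56), 43, (-45), 1, (-6), 38, 25, (-18), 4, (-10), 2, (-14), 10, (-7), (-13), 48, 73, 1, (-8), (-29), 70, (-30), (-14), (-21), (-17), (-6), 4, 1, 3, (-3), 5, 2, 2, 2, (-4), 2, 0, 0, 0, 0, 0, 0, 0, (-8), (-7), (-2), 3, 5, 1, (-1), 0, 2, 1])) (.leaf ([(-25), (-31), (-89), 69, (-54), (-13), (-10), 32, 47, (-19), 16, (-15), 19, (-10), 26, (-41), (-14), 84, 80, 30, (-23), (-11), 101, (-67), (-27), (-39), (-37),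 (-26), 3, (-7), 4, 2, 2, 8, 3, (-4), (-3), 4, 0, 0, 0, 0, 0, 0, 0, (-5), (-4), (-3), 2, 4, 1, (-1), (-1), (-2), 1])))) (.node (.node (.leaf ([24, 24, 88, (-25), 11, 6, (-5), (-7), (-44), 9, (-6), 14, (-33), 10, (-8), (-10), (-8), (-51), (-57), (-15), 4, 2, (-41), 52, 8, 22, 10, 13, 2, (-13), (-21), 1, 3, 4, (-1), (-6), 10, (-6), 0, 0, 0, 0, 0, 0, 0, (-1), 0, (-1), 0, 1, 0, 0, 0, 2])) (.leaf ([(-3), (-15), (-121), 41, (-23), (-8), 3, 24, 60, (-15), 5, (-34), 34, (-11), 8, (-18), (-4), 87, 98, 12, (-8), (-15), 86, (-69), (-22), (-41), (-27), (-23), 1, 5, 14, (-2), 1, (-1), 0, 2, (-8), 5, 0, 0, 0, 0, 0, 0, 0, (-3), (-4), (-1), 2, 2, 1, (-1), (-1), (-1), 1]))) (.node (.leaf ([52, 77, 660, (-162), 39, 56, (-47), (-98), (-328), 67, (-1), 169, (-191), 36, (-21), 20, (-6), (-431), (-494), (-46), 32, 68, (-364), 340, 97, 183, 120, 116, (-7), (-59), (-110), 18, 0,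 22, 0, (-21), 54, (-34), 0, 0, 0, 0, 0, 0, 0, 13, 12, 2, (-7), (-1), (-2), 2, 6, 8, (-3)])) (.leaf ([(-2), 12, 61, (-32), 40, (-5), 9, (-28), (-28), 7, (-5), 13, (-16), 12, (-7), (-11), (-1), (-45), (-54), (-12), 12, 17, (-49), 35, 12, 19, 13, 5, 2, (-8), (-8), 0, (-1), 1, (-2), (-2), 5, (-3), 0, 0, 0, 0, 0, 0, 0, 3, 0, 1, (-1), (-3), (-1), 1, 1, 1]))))) (.node (.node (.node (.leaf ([(-3), 3, 8, (-8), 8, (-2), 1, (-1), (-5), 4, (-3), 2, (-2), 4, (-2), 8, 0, (-7), (-6), 2, (-1), (-2), (-4), 2, 4, 5, 4, 2, 0, 0, 0, 0, 0, (-2), 0, 0, 0, 0, 0, 0, 0, 0, 0, 0, 0, 0, 1])) (.leaf ([(-32), (-42), (-235), 84, (-38), (-26), 6, 48, 109, (-30), 12, (-47), 73, (-13), 16, (-3), 8, 161, 165, 34, (-33), (-40), 147, (-123), (-43), (-68), (-43), (-41), 13, 35, 25, 0, 1, (-7), (-2), 0, (-14), 11, 0, 0, 0, 0, 0, 0, 0, (-4), (-9), 2, 4, 2, 1, (-2), (-2), (-3), 2]))) (.node (.leaf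 ([0, 0, 0, 0, 0, 0, 0, 0, 0, 0, 0, 0, 0, 0, 0, 0, 0, 0, 0, 0, 0, 0, 0, 0, 0, 0, 0, 0, 0, 0, 0, 0, 0, 0, 0, 0, 0, 0, 0, 0, 0, 0, 0, 0, 0, 0, 0, 0, 0, 1])) (.leaf ([2, 6, 15, (-8), (-24), 12, (-1), 13, (-18), (-6), 3, 17, (-7), 0, (-4), 44, 10, (-23), (-18), (-6), (-7), (-22), (-20), 26, 10, 21, 20, 18, (-2), 12, 0, 0, 0, (-4), 0, 0, 0, 0, 0, 0, 0, 0, 0, 0, 0, (-3), (-3), 1, 2])))) (.node (.node (.leaf ([0, 0, 0, 0, 0, 0, 0, 0, 0, 0, 0, 0, 0, 0, 0, (-1), (-1), 0, 0, 0, 0, 0, 1, 0, 0, 0, 0, 0, 0, 0, 0, 0, 0, 0, 0, 0, 0, 0, 0, 0, 0, 0, 0, 0, 0, 0, (-1), 0, 0, 1, 0, 0, 0, 1])) (.leaf ([(-25), (-25), (-58), 5, 35, (-17), 3, (-15), 30, 13, (-4), (-15), 37, 0, (-2), (-4), 22, 29, 24, 17, 4, 9, 10, (-40), (-8), (-24), (-9), (-13), (-3), 5, 13, 1, (-5), (-4), (-1), (-2), (-4), 4, 0, 0, 0, 0, 0, 0, 0, 4, 4, 0, (-2), (-3), 0, 0, 0, (-2)]))) (.leaf ([3, (-4), 36, (-9),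 (-13), 6, (-3), (-1), (-16), 1, 5, 12, (-16), 4, 2, (-8), (-2), (-22), (-24), (-4), 2, 2, (-16), 20, 2, 8, 4, 4, 2, (-2), (-6), 2, 0, 2, 0, (-2), 2, (-2), 0, 0, 0, 0, 0, 0, 0, 3, 5, 0, (-2), 1, 0, (-1)]))))

/-- data -/
def val2_110 : Trie (Vec) := .node (.node (.node (.node (.leaf ([0, 0, 0, 0, 0, 0, 0, 0, 0, 0, 0, 0, 0, 0, 0, 0, 0, 0, 0, 0, 0, 0, 0, 0, 0, 0, 0, 0, 0, 0, 0, 0, 0, 0, 0, 0, 0, 0, 0, 0, 0, 0, 0, 0, 0, 1])) (.leaf ([(-9), 9, 34, 44, (-57), (-3), (-27), 48, (-20), (-16), 1, 26, (-32), 4, 21, 17, (-17), 6, 2, 23, (-37), (-39), 61, 2, 2, 14, 2, 12, 7, (-6), (-19), 2, 5, 10, 3, (-8), 8, (-3), 0, 0, 0, 0, 0, 0, 0, (-10), (-7), (-1), 3, 5, 1, 0, 1, 2, 1]))) (.node (.leaf ([])) (.leaf ([(-9), (-10), 3, 6, (-3), (-4), 1, (-6), 2, (-1), 5, 2, (-2), 0, 7, (-28), (-6), 2, (-9), 4, 1, 15, 0, (-2), (-5), (-6), (-9), (-8), 0, (-6), (-3), 2, (-1), 5, 0, (-2),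 2, (-1), 0, 0, 0, 0, 0, 0, 0, 0, 0, (-2), 0, 1, 0, 0, 0, (-1)])))) (.node (.node (.leaf ([])) (.leaf ([(-25), (-39), (-213), 85, (-10), (-31), (-10), 41, 109, (-10), (-5), (-56), 71, (-14), 17, (-32), 6, 167, 188, 43, (-20), (-33), 176, (-143), (-47), (-88), (-54), (-39), 7, 2, 23, (-1), (-1), (-1), 4, (-1), (-11), 10, 0, 0, 0, 0, 0, 0, 0, (-5), (-10), (-3), 3, 3, 2, (-3), 1, 0, 2]))) (.node (.leaf ([0, 0, 0, 0, 0, 0, 0, 0, 0, 0, 0, 0, 0, 0, 0, 0, 0, 0, 0, 0, 0, 0, 0, 0, 0, 0, 0, 0, 0, 0, 0, 0, 0, 0, 0, 0, 0, 0, 0, 0, 0, 0, 0, 0, 0, 1])) (.leaf ([(-1), 0, (-29), 2, 36, (-11), 7, (-19), 25, 3, (-6), (-22), 14, 0, 0, (-29), (-11), 38, 31, (-2), 3, 16, 21, (-26), (-11), (-20), (-19), (-17), (-2), (-7), 4, (-2), 0, 1, (-2), 1, (-2), 0, 0, 0, 0, 0, 0, 0, 0, 2, 3, 0, (-1), 0, 0, 0, (-1)]))))) (.node (.node (.node (.leaf ([])) (.leaf ([(-4), (-5), 45, (-14), 19,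 (-1), 4, (-15), (-25), 3, 1, 26, (-10), 0, (-6), 23, 15, (-31), (-34), (-9), 5, (-3), (-41), 28, 8, 16, 16, 13, 3, 14, (-4), 0, (-1), (-3), (-3), (-2), 3, (-1), 0, 0, 0, 0, 0, 0, 0, 1, (-2), 2, 0, 1, 0, 0, 2, 2]))) (.node (.leaf ([])) (.leaf ([5, 2, 32, (-14), 0, 6, 1, (-10), (-12), 4, 0, 5, (-11), 1, 2, 3, (-2), (-14), (-23), (-4), (-1), 6, (-20), 17, 2, 7, 3, 4, 1, (-1), (-2), 0, (-1), 1, (-1), (-1), 2, (-2), 0, 0, 0, 0, 0, 0, 0, 0, 1, 0, 0, (-1), 0, 0, (-1), (-1)])))) (.node (.node (.leaf ([0, 0, 0, 0, 0, 0, 0, 0, 0, 0, 0, 0, 0, 0, 0, 0, 0, 0, 0, 0, 0, 0, 0, 0, 0, 0, 0, 0, 0, 0, 0, 0, 0, 0, 0, 0, 0, 0, 0, 0, 0, 0, 0, 0, 0, 1])) (.leaf ([(-1), (-25), (-76), 17, (-57), 15, (-8), 31, 37, (-3), 5, (-13), 19, (-11), 8, 13, 0, 53, 71, 3, (-4), (-21), 56, (-42), (-13), (-24), (-9), (-4), (-2), 9, 14, (-4), 3, (-2), 0, 6, (-8), 4, 0, 0, 0, 0, 0, 0, 0, (-7), (-6),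 (-2), 3, (-1), 1, 1, 0, (-1)]))) (.leaf ([0, 0, 0, 0, 0, 0, 0, 0, 0, 0, 0, 0, 0, 0, 0, 0, 0, 0, 0, 0, 0, 0, 0, 0, 0, 0, 0, 0, 0, 0, 0, 0, 0, 0, 0, 0, 0, 0, 0, 0, 0, 0, 0, 0, 0, 2, 0, 2, 0, 0, 1]))))

/-- data -/
def val2_111 : Trie (Vec) := .node (.node (.node (.node (.leaf ([])) (.leaf ([(-60), (-109), (-359), 175, (-212), (-1), (-34), 132, 156, (-53), 46, (-44), 110, (-42), 56, 15, 27, 230, 240, 89, (-76), (-90), 257, (-187), (-74), (-106), (-61), (-46), 13, 58, 27, 13, (-2), (-3), 6, (-5), (-19), 15, 0, 0, 0, 0, 0, 0, 0, (-16), (-20), (-2), 11, 5, 4, (-4), (-6), (-8), 3]))) (.node (.leaf ([])) (.leaf ([(-3), 3, 8, (-8), 8, (-2), 1, (-1), (-5), 4, (-3), 2, (-2), 4, (-2), 8, 0, (-7), (-6), 2, (-1), (-2), (-4), 2, 4, 5, 4, 2, 0, 0, 0, 0, 0, (-2), 0, 0, 0, 0, 0, 0, 0, 0, 0, 0, 0, 2, 2, 1, (-1), 0, 2])))) (.node (.node (.leaf ([])) (.leaf ([(-17), (-52), (-70),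 (-4), (-7), 11, 3, (-26), 21, 29, 9, (-14), 61, (-26), (-3), 5, 57, 21, 7, 14, 13, 23, (-33), (-28), (-14), (-33), (-6), (-3), (-21), (-4), 19, 2, (-10), (-1), 2, 1, (-5), 3, 0, 0, 0, 0, 0, 0, 0, 5, 6, 1, (-1), (-7), 0, 2, (-4), (-6), (-1)]))) (.node (.leaf ([(-46), (-67), (-338), 104, (-62), (-21), 13, 55, 162, (-42), 19, (-67), 110, (-29), 23, 11, 23, 220, 242, 33, (-29), (-48), 179, (-168), (-57), (-94), (-57), (-53), 11, 56, 51, (-3), (-3), (-12), (-2), 7, (-25), 17, 0, 0, 0, 0, 0, 0, 0, (-6), (-10), 1, 5, 0, 1, (-2), (-2), (-5), 2])) (.leaf ([17, 8, (-8), (-39), 23, 4, 27, (-23), (-4), 4, (-1), (-9), 1, 2, (-14), (-23), 6, (-11), (-23), (-31), 17, 18, (-49), 30, 1, 2, 2, (-5), (-4), 3, 3, (-5), 0, 0, (-6), (-1), 1, (-1), 0, 0, 0, 0, 0, 0, 0, 1, 0, 1, 0, 1, (-1), 0, 1]))))) (.node (.node (.node (.leaf ([])) (.leaf ([0, 0, 0, 0, 0, 0, 0, 0, 0, 0, 0, 0,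 0, 0, 0, 0, 0, 0, 0, 0, 0, 0, 0, 0, 0, 0, 0, 0, 0, 0, 0, 0, 0, 0, 0, 0, 0, 0, 0, 0, 0, 0, 0, 0, 0, 0, 0, 0, 0, 0, 0, 0, 0, 1]))) (.node (.leaf ([0, 0, 0, 0, 0, 0, 0, 0, 0, 0, 0, 0, 0, 0, 0, 0, 0, 0, 0, 0, 0, 0, 0, 0, 0, 0, 0, 0, 0, 0, 0, 0, 0, 0, 0, 0, 0, 0, 0, 0, 0, 0, 0, 0, 0, (-1), (-2), 0, 1])) (.leaf ([0, 0, 0, 0, 0, 0, 0, 0, 0, 0, 0, 0, 0, 0, 0, 0, 0, 0, 0, 0, 0, 0, 0, 0, 0, 0, 0, 0, 0, 0, 0, 0, 0, 0, 0, 0, 0, 0, 0, 0, 0, 0, 0, 0, 0, 1])))) (.node (.node (.leaf ([])) (.leaf ([(-8), (-22), (-129), 38, (-11), (-14), 8, 18, 60, (-11), 4, (-31), 40, (-10), 6, (-25), 5, 89, 105, 7, (-2), (-20), 86, (-67), (-24), (-47), (-25), (-21), 1, 3, 15, (-3), 0, 0, 1, 0, (-6), 6, 0, 0, 0, 0, 0, 0, 0, (-3), (-5), (-1), 2, 2, 1, (-2), 0, 0, 1]))) (.leaf ([0, 0, 0, 0, 0, 0, 0, 0, 0, 0, 0, 0, 0, 0, 0, 0, 0, 0, 0, 0, 0, 0, 0, 0, 0, 0, 0, 0, 0, 0, 0, 0, 0, 0, 0, 0, 0, 0,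 0, 0, 0, 0, 0, 0, 0, 1]))))

/-- data -/
def val2 : Trie (Vec) := .node (.node (val2_00) (.node (val2_010) (val2_011))) (.node (.node (val2_100) (val2_101)) (.node (val2_110) (val2_111)))

/-- data -/
def rank2 : Trie (ℕ) := .node (.node (.node (.node (.node (.node (.node (.leaf 0) (.leaf 78)) (.node (.leaf 0) (.leaf 13))) (.node (.node (.leaf 0) (.leaf 62)) (.node (.leaf 80) (.leaf 48)))) (.node (.node (.node (.leaf 0) (.leaf 0)) (.node (.leaf 25) (.leaf 70))) (.node (.node (.leaf 0) (.leaf 20)) (.leaf 0)))) (.node (.node (.node (.node (.leaf 0) (.leaf 0)) (.node (.leaf 0) (.leaf 22))) (.node (.node (.leaf 0) (.leaf 44)) (.node (.leaf 69) (.leaf 79)))) (.node (.node (.node (.leaf 3) (.leaf 0)) (.node (.leaf 0) (.leaf 32))) (.node (.node (.leaf 0) (.leaf 0)) (.leaf 52))))) (.node (.node (.node (.node (.node (.leaf 0) (.leaf 45)) (.node (.leaf 0) (.leaf 61)))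 (.node (.node (.leaf 6) (.leaf 30)) (.node (.leaf 0) (.leaf 46)))) (.node (.node (.node (.leaf 2) (.leaf 49)) (.node (.leaf 24) (.leaf 59))) (.node (.node (.leaf 0) (.leaf 73)) (.leaf 35)))) (.node (.node (.node (.node (.leaf 0) (.leaf 0)) (.node (.leaf 4) (.leaf 14))) (.node (.node (.leaf 19) (.leaf 27)) (.node (.leaf 0) (.leaf 71)))) (.node (.node (.node (.leaf 0) (.leaf 11)) (.node (.leaf 31) (.leaf 72))) (.node (.node (.leaf 0) (.leaf 17)) (.leaf 39)))))) (.node (.node (.node (.node (.node (.node (.leaf 0) (.leaf 65)) (.node (.leaf 8) (.leaf 50))) (.node (.node (.leaf 0) (.leaf 12)) (.node (.leaf 54) (.leaf 42)))) (.node (.node (.node (.leaf 0) (.leaf 77)) (.node (.leaf 0) (.leaf 75))) (.node (.node (.leaf 0) (.leaf 76)) (.leaf 0)))) (.node (.node (.node (.node (.leaf 0) (.leaf 18)) (.node (.leaf 53) (.leaf 43))) (.node (.node (.leaf 51) (.leaf 40))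 (.node (.leaf 63) (.leaf 41)))) (.node (.node (.node (.leaf 16) (.leaf 58)) (.node (.leaf 21) (.leaf 36))) (.node (.node (.leaf 28) (.leaf 56)) (.leaf 33))))) (.node (.node (.node (.node (.node (.leaf 5) (.leaf 74)) (.node (.leaf 0) (.leaf 29))) (.node (.node (.leaf 0) (.leaf 66)) (.node (.leaf 9) (.leaf 37)))) (.node (.node (.node (.leaf 1) (.leaf 55)) (.node (.leaf 0) (.leaf 47))) (.node (.node (.leaf 7) (.leaf 67)) (.leaf 34)))) (.node (.node (.node (.node (.leaf 0) (.leaf 64)) (.node (.leaf 0) (.leaf 38))) (.node (.node (.leaf 0) (.leaf 81)) (.node (.leaf 57) (.leaf 68)))) (.node (.node (.node (.leaf 0) (.leaf 23)) (.node (.leaf 26) (.leaf 15))) (.node (.node (.leaf 0) (.leaf 60)) (.leaf 10))))))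

/-- data -/
def tree2 : Trie (ℕ × ℕ) := .node (.node (.node (.node (.node (.node (.leaf (0, 0)) (.leaf (18, 0))) (.leaf (7, 2))) (.node (.leaf (2, 2)) (.leaf (11, 1)))) (.node (.node (.node (.leaf (1, 1)) (.leaf (23, 1))) (.leaf (9, 1))) (.node (.leaf (5, 1)) (.leaf (13, 2))))) (.node (.node (.node (.node (.leaf (0, 1)) (.leaf (19, 0))) (.leaf (8, 1))) (.node (.leaf (4, 2)) (.leaf (12, 0)))) (.node (.node (.node (.leaf (2, 0)) (.leaf (25, 1))) (.leaf (10, 1))) (.node (.leaf (6, 1)) (.leaf (14, 2)))))) (.node (.node (.node (.node (.node (.leaf (0, 0)) (.leaf (18, 2))) (.leaf (8, 0))) (.node (.leaf (3, 0)) (.leaf (11, 2)))) (.node (.node (.node (.leaf (1, 2)) (.leaf (24, 0))) (.leaf (10, 0))) (.node (.leaf (5, 2)) (.leaf (14, 1))))) (.node (.node (.node (.node (.leaf (0, 2)) (.leaf (22, 2))) (.leaf (8, 2))) (.node (.leaf (5, 0)) (.leaf (13, 0)))) (.node (.node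 (.node (.leaf (2, 1)) (.leaf (30, 2))) (.leaf (10, 2))) (.node (.leaf (6, 2)) (.leaf (16, 2))))))

/-- data -/
def cert2 : Trie (ℕ × ℕ × ℕ) := .node (.node (.node (.node (.node (.node (.node (.leaf (0, 0, 1)) (.leaf (11, 3, 8))) (.leaf (5, 3, 2))) (.node (.node (.leaf (5, 1, 5)) (.leaf (11, 37, 6))) (.leaf (6, 37, 8)))) (.node (.node (.node (.leaf (4, 8, 1)) (.leaf (11, 15, 6))) (.leaf (5, 14, 6))) (.node (.leaf (5, 4, 5)) (.leaf (9, 5, 3))))) (.node (.node (.node (.node (.leaf (4, 0, 1)) (.leaf (11, 9, 9))) (.leaf (7, 33, 7))) (.node (.leaf (8, 0, 3)) (.leaf (8, 10, 8)))) (.node (.node (.node (.leaf (4, 18, 1)) (.leaf (11, 24, 0))) (.leaf (4, 22, 0))) (.node (.leaf (8, 26, 3)) (.leaf (10, 5, 2)))))) (.node (.node (.node (.node (.node (.leaf (2, 0, 2)) (.leaf (11, 6, 2))) (.leaf (6, 2, 3))) (.node (.leaf (7, 0, 7)) (.leaf (8, 7, 9)))) (.node (.node (.node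 (.leaf (4, 12, 1)) (.leaf (11, 18, 6))) (.leaf (8, 23, 2))) (.node (.leaf (6, 1, 5)) (.leaf (10, 1, 7))))) (.node (.node (.node (.node (.leaf (4, 3, 1)) (.leaf (11, 11, 9))) (.leaf (9, 3, 7))) (.node (.leaf (12, 0, 4)) (.leaf (8, 28, 3)))) (.node (.node (.node (.leaf (4, 24, 1)) (.leaf (11, 30, 8))) (.leaf (5, 22, 7))) (.node (.leaf (10, 0, 9)) (.leaf (10, 11, 5))))))) (.node (.node (.node (.node (.node (.node (.leaf (1, 0, 1)) (.leaf (11, 5, 8))) (.leaf (6, 27, 1))) (.node (.leaf (6, 4, 6)) (.leaf (7, 12, 2)))) (.node (.node (.node (.leaf (4, 10, 1)) (.leaf (11, 16, 7))) (.leaf (8, 11, 2))) (.node (.leaf (5, 6, 7)) (.leaf (9, 18, 6))))) (.node (.node (.node (.node (.leaf (4, 2, 1)) (.leaf (11, 10, 3))) (.leaf (9, 2, 5))) (.node (.leaf (11, 0, 4)) (.leaf (8, 12, 8)))) (.node (.node (.node (.leaf (4, 19, 1)) (.leaf (11, 29, 9))) (.leaf (4, 38, 0))) (.node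 (.leaf (9, 0, 3)) (.leaf (10, 10, 5)))))) (.node (.node (.node (.node (.node (.leaf (3, 0, 3)) (.leaf (11, 7, 8))) (.leaf (7, 13, 7))) (.node (.leaf (7, 2, 3)) (.leaf (8, 9, 1)))) (.node (.node (.node (.leaf (4, 13, 1)) (.leaf (11, 19, 8))) (.leaf (11, 4, 10))) (.node (.leaf (8, 4, 2)) (.leaf (10, 4, 5))))) (.node (.node (.node (.node (.leaf (4, 5, 1)) (.leaf (11, 13, 5))) (.leaf (13, 0, 2))) (.node (.leaf (4, 14, 0)) (.leaf (8, 31, 9)))) (.node (.node (.node (.leaf (5, 0, 2)) (.leaf (11, 32, 6))) (.leaf (6, 28, 3))) (.node (.leaf (4, 33, 1)) (.leaf (10, 20, 5)))))))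

/-- data -/
def pot2 : Trie (Vec) := .node (.node (.node (.node (.node (.node (.leaf ([])) (.leaf ([7, 7]))) (.leaf ([7, 7]))) (.node (.leaf ([5, 5])) (.leaf ([5, 5])))) (.node (.node (.node (.leaf ([2, 2])) (.leaf ([10, 10]))) (.leaf ([5, 5]))) (.node (.leaf ([5, 5])) (.leaf ([9, 9]))))) (.node (.node (.node (.node (.leaf ([2, 2])) (.leaf ([8, 8]))) (.leaf ([7, 7]))) (.node (.leaf ([5, 5])) (.leaf ([5, 5])))) (.node (.node (.node (.leaf ([2, 2])) (.leaf ([8, 8]))) (.leaf ([7, 7]))) (.node (.leaf ([4, 4])) (.leaf ([7, 7])))))) (.node (.node (.node (.node (.node (.leaf ([])) (.leaf ([10, 10]))) (.leaf ([5, 5]))) (.node (.leaf ([3, 3])) (.leaf ([6, 6])))) (.node (.node (.node (.leaf ([3, 3])) (.leaf ([5, 5]))) (.leaf ([5, 5]))) (.node (.leaf ([6, 6])) (.leaf ([6, 6]))))) (.node (.node (.node (.node (.leaf ([3, 3])) (.leaf ([10, 10]))) (.leaf ([8, 8]))) (.node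 (.leaf ([3, 3])) (.leaf ([6, 6])))) (.node (.node (.node (.leaf ([4, 4])) (.leaf ([10, 10]))) (.leaf ([8, 8]))) (.node (.leaf ([5, 5])) (.leaf ([10, 10]))))))

/-- the table -/
def table2 : Table where
  size := 40
  ngen := 3
  next g x := next2.getK (3 * g + x)
  prev g x := prev2.getK (3 * g + x)
  lab g x := lab2.getK (3 * g + x)
  val g x := val2.getK (3 * g + x)
  rank g x := rank2.getK (3 * g + x)
  tree g := tree2.getK g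
  cert j := cert2.getK j
  nded := 81
  rels := [⟨[(2, true), (2, true)], [(0, true)], []⟩,
    ⟨[(2, true), (1, true), (0, false)], [(1, true)], []⟩,
    ⟨[(0, true), (1, true), (0, true), (1, false), (0, false)], [(2, true)], []⟩,
    ⟨[(0, true), (2, true), (1, true), (2, true), (1, false)], [(3, true)], []⟩,
    ⟨[(0, true), (0, true)], [], [0, 0, 0, 0, 0, 0, 0, 0, 0, 0, 0, 0, 0, 0, 0, 0, 0, 0, 0, 0, 0, 0, 0, 0, 0, 0, 0, 0, 0, 0, 0, 0, 0, 0, 0, 0, 0, 0, 0, 0, 0, 0, 0, 0, 0, 1]⟩,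
    ⟨[(0, true), (1, true), (1, true), (2, true), (2, true), (1, true), (0, false), (2, false), (2, false)], [], [0, 0, 0, 0, 0, 0, 0, 0, 0, 0, 0, 0, 0, 0, 0, 0, 0, 0, 0, 0, 0, 0, 0, 0, 0, 0, 0, 0, 0, 0, 0, 0, 0, 0, 0, 0, 0, 0, 0, 0, 0, 0, 0, 0, 0, 0, 1]⟩,
    ⟨[(1, true), (2, true), (2, true), (1, false), (2, true), (2, true), (0, false), (2, false), (2, false), (0, false)], [], [0, 0, 0, 0, 0, 0, 0, 0, 0, 0, 0, 0, 0, 0, 0, 0, 0, 0, 0, 0, 0, 0, 0, 0, 0, 0, 0, 0, 0, 0, 0, 0, 0, 0, 0, 0, 0, 0, 0, 0, 0, 0, 0, 0, 0, 0, 0, 1]⟩,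
    ⟨[(0, true), (1, true), (1, true), (1, true), (0, true), (1, true), (1, true), (1, true)], [], [0, 0, 0, 0, 0, 0, 0, 0, 0, 0, 0, 0, 0, 0, 0, 0, 0, 0, 0, 0, 0, 0, 0, 0, 0, 0, 0, 0, 0, 0, 0, 0, 0, 0, 0, 0, 0, 0, 0, 0, 0, 0, 0, 0, 0, 0, 0, 0, 1]⟩,
    ⟨[(1, true), (0, true), (2, true), (0, true), (1, false), (0, false), (1, false), (2, false), (1, true), (0, false)], [], [0, 0, 0, 0, 0, 0, 0, 0, 0, 0, 0, 0, 0, 0, 0, 0, 0, 0, 0, 0, 0, 0, 0, 0, 0, 0, 0, 0, 0, 0, 0, 0, 0, 0, 0, 0, 0, 0, 0, 0, 0, 0, 0, 0, 0, 0, 0, 0, 0, 1]⟩,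
    ⟨[(1, true), (2, true), (2, true), (1, false), (0, true), (1, true), (2, false), (2, false), (1, false), (0, false)], [], [0, 0, 0, 0, 0, 0, 0, 0, 0, 0, 0, 0, 0, 0, 0, 0, 0, 0, 0, 0, 0, 0, 0, 0, 0, 0, 0, 0, 0, 0, 0, 0, 0, 0, 0, 0, 0, 0, 0, 0, 0, 0, 0, 0, 0, 0, 0, 0, 0, 0, 1]⟩,
    ⟨[(0, true), (1, false), (2, true), (1, true), (0, true), (2, false), (0, true), (1, false), (2, true), (1, true), (0, true), (2, false)], [], [0, 0, 0, 0, 0, 0, 0, 0, 0, 0, 0, 0, 0, 0, 0, 0, 0, 0, 0, 0, 0, 0, 0, 0, 0, 0, 0, 0, 0, 0, 0, 0, 0, 0, 0, 0, 0, 0, 0, 0, 0, 0, 0, 0, 0, 0, 0, 0, 0, 0, 0, 1]⟩,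
    ⟨[(1, true), (2, true), (1, true), (2, true), (1, true), (2, false), (0, false), (1, true), (2, true), (1, false), (0, true), (1, false), (2, false)], [], [0, 0, 0, 0, 0, 0, 0, 0, 0, 0, 0, 0, 0, 0, 0, 0, 0, 0, 0, 0, 0, 0, 0, 0, 0, 0, 0, 0, 0, 0, 0, 0, 0, 0, 0, 0, 0, 0, 0, 0, 0, 0, 0, 0, 0, 0, 0, 0, 0, 0, 0, 0, 1]⟩,
    ⟨[(0, true), (2, true), (1, true), (0, true), (1, true), (0, false), (1, false), (2, false), (1, false), (0, true), (1, false), (2, false), (0, true), (1, true), (0, false), (1, false), (2, true), (1, true), (2, true), (1, false), (2, false), (2, false)], [], [0, 0, 0, 0, 0, 0, 0, 0, 0, 0, 0, 0, 0, 0, 0, 0, 0, 0, 0, 0, 0, 0, 0, 0, 0, 0, 0, 0, 0, 0, 0, 0, 0, 0, 0, 0, 0, 0, 0, 0, 0, 0, 0, 0, 0, 0, 0, 0, 0, 0, 0, 0, 0, 1]⟩,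
    ⟨[(0, true), (2, false), (1, true), (1, true), (2, true), (0, true), (2, false), (1, true), (1, true), (2, true), (0, true), (2, false), (1, true), (1, true), (2, true)], [], [0, 0, 0, 0, 0, 0, 0, 0, 0, 0, 0, 0, 0, 0, 0, 0, 0, 0, 0, 0, 0, 0, 0, 0, 0, 0, 0, 0, 0, 0, 0, 0, 0, 0, 0, 0, 0, 0, 0, 0, 0, 0, 0, 0, 0, 0, 0, 0, 0, 0, 0, 0, 0, 0, 1]⟩]
  pot g := pot2.getK g
  innerSize := 6144
  innerGen := 4

/-- data -/
def level2eqsPart0 : List (ℕ × ℕ × Vec) := [(4, 4, [0, 0, 0, 0, 0, 0, 0, 0, 0, 0, 0, 0, 0, 0, 0, 0, 1, 0, 0, 0, 0, 0, 0, 0, 0, 0, 0, 0, 0, 0, 0, 0, 0, 0, 0, 0, 0, 0, 0, 0, 0, 0, 0, 0, 0, (-1)]), (9, 1, [0, 0, 0, 0, 0, 0, 0, 0, 0, 0, 0, 0, 0, 0, 0, 0, 0, 0, 0, 0, 0, 0, 0, 0, 0, 0, 0, 0, 0, 0, 0, 0, 0, 0, 0, 0, 0, 0, 0, 0, 0, 0, 0, 0, 0, 0, 0, 0, 0, 0, (-2)]), (8, 6, [0, 0, 0, 0, 0, 0, 0, 0, 0, 0, 0, 0, 0, 0, 0, 0, 0, 0, 0, 0, 0, 0, 0, 0, 0, 0,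 0, 0, 0, 0, 0, 0, 0, 0, 0, 0, 0, 0, 0, 0, 0, 0, 0, 0, 0, (-1), (-2), 0, 1, (-2)]), (8, 3, [0, 1, (-1), 1, (-5), 2, (-1), 1, 0, (-1), 1, (-1), 1, (-1), 1, 0, 0, 0, 0, 0, 0, 0, 0, 0, 0, 0, 0, 0, 0, 0, 0, 0, 0, 0, 0, 0, 0, 0, 0, 0, 0, 0, 0, 0, 0, 1, 2, 0, (-1)]), (9, 31, [0, (-4), 6, (-4), 6, 0, (-2), (-4), 0, 6, (-2), 0, 0, 0, 0, 0, (-1), 1, (-4), 0, (-1), 4, (-3), 0, 0, 0, 0, 0, 1, 2, 0, 0, 0, 0, 0, 0, 0, 0, 0, 0, 0, 0, 0, 0, 0, 0, 0, 0, 0, 0, (-1)]), (9, 23, [2, (-1), (-3), 3, (-7), 3, (-1), 2, 1, (-4), 2, 2, 1, (-2), 0, 4, 3, 2, 2, (-2), 1, (-2), (-3), 2, (-3), (-3), 0, 2, 0, 4, 0, 0, 0, 0, 0, 0, 0, 0, 0, 0, 0, 0, 0, 0, 0, 0, 0, 0, 0, 0, (-1)]), (10, 3, [3, (-4), (-7), 7, (-3), 0, 0, 0, 5, (-3), 2, (-1), 1, (-3), 1, (-9), 0, 7, 6, (-2), 1, 2, 4, (-2), (-4), (-5), (-4), (-2), 0, 0, 0, 0, 0, 2, 0, 0, 0, 0, 0, 0, 0, 0, 0, 0, 0, 4, 0, 0, 0, 0, 0, (-2)]), (10,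 26, [0, 7, (-4), 2, 10, 0, (-2), (-4), 2, (-1), (-2), (-5), 9, 0, (-2), 12, 2, 0, (-6), 0, (-2), 2, (-6), 0, 2, 6, 4, 4, 0, (-2)]), (5, 15, [(-7), 1, 2, (-14), 14, (-4), 5, (-4), (-1), 6, (-4), (-1), (-1), 8, (-2), (-1), (-4), (-1), (-2), 4, (-1), 2, 2, (-4), 2, 1, 0, (-4), 2, 0, 0, 0, 0, (-2)]), (9, 25, [8, 1, 12, (-15), 16, (-1), 3, (-8), (-2), 9, (-3), (-5), (-5), 6, (-4), (-6), (-1), 4, (-3), 2, 2, 9, (-5), (-3), (-5), 0, (-5), (-3), 4, 1, 0, 0, 0, 0, 0, 0, 0, 0, 0, 0, 0, 0, 0, 0, 0, 0, 0, 0, 0, 0, (-1)]), (7, 4, [(-8), 4, 10, (-14), 9, (-3), 3, (-1), (-6), 4, (-3), 3, (-4), 9, (-2), 9, (-1), (-10), (-10), 2, (-1), 0, (-8), 4, 5, 9, 4, 0, 2, 2, 0, 0, 0, (-2), 0, 0, 0, 0, 0, 0, 0, 0, 0, 0, 0, 0, 2, 0, (-1)]), (4, 39, [7, (-1), (-9), (-5), 0, 5, (-6), 6, 6, 5, (-4), (-6), 3, 2, (-6), 15, 7, 10, 25, 2, (-1), (-10), 10, (-8), (-3), (-11), (-2), 0, (-5),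 (-1), 4, 0, 0, 0, 0, 6, (-4)]), (9, 35, [4, (-15), (-25), 7, (-10), 5, 4, 0, 13, (-1), 3, (-1), 9, (-14), 2, (-10), 3, (-1), 3, 2, 10, 9, (-3), (-9), (-4), (-9), (-5), (-3), 3, 7, 0, 0, 0, 0, 0, 0, 0, 0, 0, 0, 0, 0, 0, 0, 0, 0, 0, 0, 0, 0, (-1)]), (9, 36, [(-3), (-2), 1, 19, (-24), 6, (-5), 1, 3, (-11), 10, 0, (-2), (-9), 8, (-14), (-5), 6, 14, (-9), 5, 2, 7, 2, 0, (-4), (-6), 2, (-10), (-10), 2, (-2), 0, 6, 2, 0, 0, 0, 0, 0, 0, 0, 0, 0, 0, (-1), 0, (-2), 0, 0, (-1)]), (9, 33, [1, 1, 3, (-12), 1, 0, 4, 7, (-11), 6, (-6), 9, (-2), 4, (-5), 20, 6, (-13), (-13), 2, (-8), (-12), (-7), 11, 4, 12, 10, 6, 8, 9, (-2), 0, 2, (-2), 0, 0, 0, 0, 0, 0, 0, 0, 0, 0, 0, 1, 0, 2, 0, 0, (-1)]), (9, 9, [3, 1, 16, (-9), 6, 4, 9, (-15), (-7), (-6), 3, 8, (-6), (-2), (-2), (-5), 3, (-11), (-15), (-16), 6, 7, (-29), 24, 0, 6, 2, 2, (-2), 2, (-2), 0, (-2), 2, (-2), 0, 2, (-2),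 0, 0, 0, 0, 0, 0, 0, 0, 0, 0, 0, 0, (-2)]), (8, 22, [(-3), 24, 39, 7, 20, (-5), (-14), (-4), (-15), 2, (-10), 1, (-7), (-1), 1, (-10), (-3), (-8), (-7), 1, 3, 13, (-4), 2, 6, 4, (-6), (-4), 4, (-7), (-15), 3, (-3), 6, 2, (-1), 8, (-5), 0, 0, 0, 0, 0, 0, 0, 1, (-2), (-1), (-1), (-4), (-1), 1, 4, 3]), (6, 7, [8, 7, 0, 5, (-45), 21, 5, 12, (-2), (-22), 9, 12, (-13), (-13), 6, 33, (-6), 2, 4, (-19), (-7), (-10), (-12), 21, 6, 15, 9, 11, (-1), 14, 6, (-4), 2, 0, 0, 6, (-4), 0, 0, 0, 0, 0, 0, 0, 0, (-3), (-4), 0, 2, 2]), (11, 27, [(-10), (-12), 40, 11, (-43), 2, (-9), 23, (-11), (-9), 12, 20, (-34), 9, 12, (-27), (-22), (-13), 0, 3, (-5), 3, 3, 12, (-10), 10, (-24), (-17), 19, 15, (-15), 7, 2, 5, 2, (-2), 3, (-3), 0, 0, 0, 0, 0, 0, 0, 6, 5, 1, (-1), (-1), 0, (-1), (-3), (-1)]), (11, 31, [16, 44, 33, (-20), 48, (-5), (-6), 10, (-13), 8, (-32), (-2), (-22), 15,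 (-17), 15, (-23), (-8), 14, (-8), 7, (-10), 23, (-1), 17, 12, 10, 16, (-10), (-37), 1, (-9), 4, (-1), 4, 2, 1, (-1), 0, 0, 0, 0, 0, 0, 0, (-3), (-1), (-3), 0, 3, 1, 0, 1, 3])]

/-- data -/
def level2eqsPart1 : List (ℕ × ℕ × Vec) := [(11, 26, [7, 24, 9, (-22), (-47), 19, 3, 33, (-20), (-9), (-2), 13, (-18), 8, (-3), 44, (-27), (-2), 1, (-26), (-10), (-26), 10, 28, 12, 32, 20, 32, (-4), (-11), 2, (-8), 5, 0, 1, (-1), 1, 0, 0, 0, 0, 0, 0, 0, 0, (-7), (-2), (-1), 1, 5, 1, 1, 0, 1]), (8, 13, [(-22), (-19), (-35), 42, (-89), 10, (-25), 58, 10, (-14), 9, 14, (-2), 0, 18, 14, (-12), 7, (-2), 33, (-30), (-17), 42, (-15), (-4), 6, (-3), 0, 0, (-1), (-6), 6, 2, 4, 6, (-4), 0, 0, 0, 0, 0, 0, 0, 0, 0, (-8), (-4), (-4), 4, 2, 2, 0, (-4), (-4)]), (7, 38, [(-1), (-4), 9, (-70), 49, 12, 40, (-57), 7, 16, (-7), (-4), 2, (-9), (-3), 1, (-10), (-13), 10, (-45), 41, 26, (-47),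 12, 16, 8, 14, 0, (-7), (-5), 29, (-14), 1, (-5), (-2), 16, (-12), 3, 0, 0, 0, 0, 0, 0, 0, 6, 9, 1, (-4), (-1), 0, 1, (-1), 0, (-1)]), (6, 24, [34, 24, 82, (-38), (-36), 30, 4, 6, (-36), 5, (-4), 13, (-48), (-1), (-1), 0, (-23), (-49), (-1), (-42), 30, (-2), (-37), 50, 8, 26, 2, 18, (-1), (-31), 0, (-7), 6, 3, 6, 7, (-2), (-3), 0, 0, 0, 0, 0, 0, 0, 5, 9, (-5), (-3), 1, 0, (-2), (-1), 0, (-1)]), (12, 22, [19, (-9), 54, (-27), 71, (-6), 9, (-49), (-31), 38, (-11), 5, 8, (-9), (-19), (-3), 36, (-44), (-58), 5, 13, 26, (-71), 30, 0, 1, 6, 7, (-15), (-24), 2, 1, (-5), 3, 1, 2, 1, (-2), 0, 0, 0, 0, 0, 0, 0, 5, 9, 3, (-3), (-2), (-1), 2, (-3), (-2), (-1)]), (9, 37, [(-22), (-28), (-87), 68, (-3), (-19), (-11), 9, 39, (-14), 8, (-8), 43, (-20), 9, (-4), 20, 54, 33, 24, (-21), (-10), 52, (-45), (-10), (-31), (-8), (-8), (-5), 17, 2, 3, (-4), 3, (-2), (-7), 2, 3,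 0, 0, 0, 0, 0, 0, 0, (-6), (-9), 3, 3, (-1), (-1), 2, 1, 0, 1]), (13, 28, [(-37), (-50), 8, (-94), 120, 1, 31, (-110), 4, 57, (-7), (-4), 60, (-5), (-21), 7, 38, (-10), (-48), (-12), 39, 67, (-98), (-15), 9, (-13), 21, (-5), (-13), 23, 29, (-4), (-12), (-17), (-9), 7, (-7), 5, 0, 0, 0, 0, 0, 0, 0, 14, 15, 6, (-7), (-10), (-2), 4, 3, (-1), (-3)])]

/-- the table with its checks -/
def level2 : CfsgLib.Sporadic.ChainLevel where
  table := table2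
  gexp := [[0, 0], [2, 2], [3, 3]]
  perm := [0x15c561144c0c8340c0500c447134541243b12c3913840154440f442104460fc2e10c35128381203a0bc360f0520cc5313c510dc3e0b42c0ac2a0642001808010240141b084280740f07c0d088140a418044160541a04c0205c090780c0700e00c0a0402601c2708c2502c1200400, 0x15c56110340d4370f03e134490bc410e03214c3b0e45510c460cc520c4500f4400b84a120301444b108540e836114471304e13c3f0b42c0ac2a060080240b040120841d00c150300609c0f0342905c1a01c2601424044140081e070040941f058280380a0641b0802208c1300400, 0x15c5610c3c108380c43a0dc440ec34118540d8330f85112830154351382e14c390c8451404d0bc3d13c480fc4c1245212c4111c400b42c0ac2a05c100580c0140e02c1803c08068280280704825078040a4090880209c0d018190902100c1108c1c04c200742607c1506c1400400]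
  pinv := [0x15c561144c0c8340c0500c447134541243b12c3913840154440f442104460fc2e10c35128381203a0bc360f0520cc5313c510dc3e0b42c0ac2a0642001808010240141b084280740f07c0d088140a418044160541a04c0205c090780c0700e00c0a0402601c2708c2502c1200400, 0x15c5611836124420e4400bc3013c310e03c1383b0c8440cc55114371303e0b8500fc511203511c4b1483414c5410c4a1043a1343d0b42c0ac2a0680a074160341400c0408c05030100880f0181801c290640b080120082404c250700906c1f0980809c2805c1e0540e0841100400, 0x15c5610c4a0fc321183b0dc410e8340c4450cc360bc4b0f04e154530c02e0d4470e054134500f85213c491084c1203d144440e4400b42c0ac2a05c1e04c060680f02c15038080141901c0a00c1f040220a427010020241b03028084240482608c1d0582007011094180341400400]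
  defs := [[(2, true), (2, true)], [(2, true), (1, true), (0, false)], [(0, true), (1, true), (0, true), (1, false), (0, false)], [(0, true), (2, true), (1, true), (2, true), (1, false)]]
  eqs := level2eqsPart0 ++ level2eqsPart1
  pts := [2]

end CfsgLib.Sporadic.MultTwoMono
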