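import Mathlib
import Cfsg.Agent.Lib.Sporadic.ChainCertificate
import Cfsg.Agent.Lib.Schur.TrieFast

/-!
# Coset table 3 of a chain
-/

set_option autoImplicit false
set_option maxRecDepth 100000
set_option maxHeartbeats 0
set_option Elab.async false

noncomputable section

namespace CfsgLib.Sporadic.MultTwoMono

open CfsgLib.Schur.Cert

/-- data -/
def next3 : Trie (ℕ) := .node (.node (.node (.node (.node (.leaf 0) (.leaf 4)) (.leaf 2)) (.node (.node (.leaf 1) (.leaf 5)) (.leaf 3))) (.node (.node (.node (.leaf 0) (.leaf 4)) (.leaf 2)) (.node (.node (.leaf 1) (.leaf 5)) (.leaf 3)))) (.node (.node (.node (.node (.leaf 1) (.leaf 4)) (.leaf 3)) (.node (.node (.leaf 0) (.leaf 5)) (.leaf 2))) (.node (.node (.node (.leaf 2) (.leaf 0)) (.leaf 4)) (.node (.node (.leaf 3) (.leaf 1)) (.leaf 5))))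

/-- data -/
def prev3 : Trie (ℕ) := .node (.node (.node (.node (.node (.leaf 0) (.leaf 4)) (.leaf 2)) (.node (.node (.leaf 1) (.leaf 5)) (.leaf 3))) (.node (.node (.node (.leaf 0) (.leaf 4)) (.leaf 2)) (.node (.node (.leaf 1) (.leaf 5)) (.leaf 3)))) (.node (.node (.node (.node (.leaf 1) (.leaf 4)) (.leaf 3)) (.node (.node (.leaf 0) (.leaf 5)) (.leaf 2))) (.node (.node (.node (.leaf 4) (.leaf 2)) (.leaf 0)) (.node (.node (.leaf 5) (.leaf 3)) (.leaf 1))))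

/-- data -/
def lab3 : Trie (Word) := .node (.node (.node (.node (.node (.leaf ([(0, true)])) (.leaf ([(2, true), (0, true)]))) (.leaf ([(2, true)]))) (.node (.node (.leaf ([(4, true), (1, true), (0, true), (4, true), (1, true)])) (.leaf ([(4, true), (0, true), (4, false), (2, true)]))) (.leaf ([(4, false), (2, true), (0, true), (4, true), (0, true)])))) (.node (.node (.node (.leaf ([(1, true)])) (.leaf ([(0, true), (3, true), (1, true), (0, true)]))) (.leaf ([(3, true)]))) (.node (.node (.leaf ([(4, false), (3, true), (4, true), (3, true), (1, true)])) (.leaf ([(4, true), (1, true), (4, false), (3, true)]))) (.leaf ([(4, false), (3, true), (1, true), (4, true), (1, true)]))))) (.node (.node (.node (.node (.leaf ([])) (.leaf ([(0, true), (3, true), (4, true), (3, true), (0, true)]))) (.leaf ([(4, true)]))) (.node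 (.node (.leaf ([(4, true), (3, true), (0, true), (4, true), (3, true), (0, true)])) (.leaf ([(3, true), (0, true), (4, true), (3, true), (0, true)]))) (.leaf ([(0, true), (3, true), (4, false), (3, true), (0, true)])))) (.node (.node (.node (.leaf ([])) (.leaf ([]))) (.leaf ([]))) (.node (.node (.leaf ([])) (.leaf ([]))) (.leaf ([])))))

/-- data -/
def val3 : Trie (Vec) := .node (.node (.node (.node (.node (.leaf ([])) (.leaf ([0, 0, 0, 0, 0, 0, 0, 0, 0, 0, 0, 0, 0, 0, 0, (-1), 0, (-1), 0, 0, 0, 0, 0, 0, 0, 0, 0, 0, 0, 0, (-1), 1]))) (.leaf ([]))) (.node (.node (.leaf ([0, 0, 0, 0, 0, 0, 0, 0, 0, 0, 0, 0, 0, 0, 0, 0, 0, 0, 0, 0, 0, 0, 0, 0, 0, 0, 0, 0, 0, 0, 0, 0, 0, 1])) (.leaf ([(-1), 3, (-18), (-6), 16, (-5), 8, (-4), 8, 0, (-4), (-6), 5, 3, (-4), (-2), (-1), 9, 7, (-4), 1, 2, 1, (-4), 0, (-2), (-1), (-3),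 (-1), 1, 4, (-2), 0, (-1), (-1), 0, (-1), 1]))) (.leaf ([(-1), (-3), (-11), 9, (-3), (-3), (-4), 6, 6, 1, 0, (-4), 4, (-1), 2, (-3), (-1), 8, 12, 7, (-2), (-3), 17, (-13), (-2), (-6), (-3), (-2), 0, (-1), 1, 1, 0, 0, 1, 0, (-1), 1])))) (.node (.node (.node (.leaf ([])) (.leaf ([0, 0, 0, 0, 0, 0, 0, 0, 0, 0, 0, 0, 0, 0, 0, (-1), (-1), 1, 0, (-1), 0, 0, 0, 0, 0, 0, 0, 0, 0, 0, 0, (-1), 1]))) (.leaf ([]))) (.node (.node (.leaf ([0, 0, 0, 0, 0, 0, 0, 0, 0, 0, 0, 0, 0, 0, 0, 0, 0, 0, 0, 0, 0, 0, 0, 0, 0, 0, 0, 0, 0, 0, 0, 0, 0, 0, 1])) (.leaf ([1, 0, 48, 2, (-14), 5, (-15), 2, (-23), 5, 4, 11, (-11), 2, 4, (-2), 1, (-28), (-34), 11, (-5), 1, (-11), 15, 2, 8, 4, 5, 3, (-2), (-13), 6, (-1), 2, 1, (-3), 5, (-3)]))) (.leaf ([4, 1, (-15), (-5), 2, 2, 1, 1, 9, 2, (-2), (-9), 5, 0, (-2), 2, 1, 8, 15, (-1), 4, 0, 5, (-10),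 (-1), (-5), (-2), (-4), 1, 4, 5, (-1), 0, (-2), 0, 3, (-3), 1]))))) (.node (.node (.node (.node (.leaf ([])) (.leaf ([0, 0, 0, 2, 2, (-2), 0, 0, 0, 0, 0, 0, 0, 0, 0, (-2), 0, 0, (-2), 0, 0, 0, 0, 0, 0, 0, 0, 0, 0, 0, (-1), 0, 0, 0, 0, (-1), 1]))) (.leaf ([]))) (.node (.node (.leaf ([(-2), 1, (-15), (-1), 8, (-4), 4, 1, 6, (-1), (-2), (-3), 4, 2, (-3), 1, 2, 5, 7, (-1), 2, (-1), 2, (-5), 0, (-1), 0, (-2), 0, 1, 3, (-1), 0, (-1), 0, 1, (-1), 1])) (.leaf ([1, 0, 18, (-4), (-5), 3, (-2), (-1), (-10), 1, 2, 6, (-5), 1, 0, (-1), 0, (-13), (-17), (-1), 0, 1, (-10), 11, 2, 5, 4, 4, 0, (-1), (-4), 1, 0, 1, 0, (-1), 2, (-1)]))) (.leaf ([0, 0, 0, 0, 0, 0, 0, 0, 0, 0, 0, 0, 0, 0, 0, 0, 0, 0, 0, 0, 0, 0, 0, 0, 0, 0, 0, 0, 0, 0, 0, 0, 0, 0, 0, 1])))) (.node (.node (.node (.leaf ([])) (.leaf ([0, 0, 0, 0, 0, 0, 0, 0, 0, 0, 0,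 0, 0, 0, 0, 0, 0, 0, 0, 0, 0, 0, 0, 0, 0, 0, 0, 0, 0, 0, 1]))) (.leaf ([]))) (.node (.node (.leaf ([])) (.leaf ([0, 0, 0, 0, 0, 0, 0, 0, 0, 0, 0, 0, 0, 0, 0, 0, 0, 0, 0, 0, 0, 0, 0, 0, 0, 0, 0, 0, 0, 0, 1]))) (.leaf ([])))))

/-- data -/
def rank3 : Trie (ℕ) := .node (.node (.node (.node (.node (.leaf 1) (.leaf 8)) (.leaf 3)) (.node (.node (.leaf 10) (.leaf 15)) (.leaf 17))) (.node (.node (.node (.leaf 2) (.leaf 9)) (.leaf 4)) (.node (.node (.leaf 11) (.leaf 19)) (.leaf 18)))) (.node (.node (.node (.node (.leaf 0) (.leaf 13)) (.leaf 5)) (.node (.node (.leaf 14) (.leaf 16)) (.leaf 12))) (.node (.node (.node (.leaf 0) (.leaf 6)) (.leaf 0)) (.node (.node (.leaf 0) (.leaf 7)) (.leaf 0))))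

/-- data -/
def tree3 : Trie (ℕ × ℕ) := .node (.node (.node (.leaf (0, 0)) (.leaf (2, 3))) (.leaf (0, 3))) (.node (.node (.leaf (0, 1)) (.leaf (3, 3))) (.leaf (1, 3)))

/-- data -/
def cert3 : Trie (ℕ × ℕ × ℕ) := .node (.node (.node (.node (.node (.leaf (0, 0, 0)) (.leaf (12, 0, 6))) (.leaf (7, 0, 7))) (.node (.leaf (4, 0, 1)) (.leaf (11, 0, 4)))) (.node (.node (.node (.leaf (2, 0, 1)) (.leaf (8, 4, 9))) (.leaf (9, 0, 1))) (.node (.leaf (5, 1, 2)) (.leaf (10, 4, 4))))) (.node (.node (.node (.node (.leaf (1, 0, 0)) (.leaf (8, 2, 9))) (.leaf (8, 0, 1))) (.node (.leaf (5, 0, 2)) (.leaf (12, 1, 1)))) (.node (.node (.leaf (3, 0, 1)) (.leaf (10, 0, 2))) (.node (.leaf (6, 0, 4)) (.leaf (11, 1, 4)))))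

/-- data -/
def pot3 : Trie (Vec) := .node (.node (.node (.leaf ([])) (.leaf ([12, 12]))) (.leaf ([6, 6]))) (.node (.node (.leaf ([5, 5])) (.leaf ([17, 17]))) (.leaf ([11, 11])))

/-- the table -/
def table3 : Table where
  size := 6
  ngen := 4
  next g x := next3.getK (4 * g + x)
  prev g x := prev3.getK (4 * g + x)
  lab g x := lab3.getK (4 * g + x)
  val g x := val3.getK (4 * g + x)
  rank g x := rank3.getK (4 * g + x)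
  tree g := tree3.getK g
  cert j := cert3.getK j
  nded := 19
  rels := [⟨[(0, true)], [(0, true)], []⟩,
    ⟨[(2, true)], [(1, true)], []⟩,
    ⟨[(3, true), (0, true), (3, false)], [(2, true)], []⟩,
    ⟨[(3, true), (2, true), (3, false)], [(3, true)], []⟩,
    ⟨[(3, true), (1, true), (3, false), (1, false)], [(4, true)], []⟩,
    ⟨[(3, true), (3, true), (3, true)], [], [0, 0, 0, 0, 0, 0, 0, 0, 0, 0, 0, 0, 0, 0, 0, 0, 0, 0, 0, 0, 0, 0, 0, 0, 0, 0, 0, 0, 0, 0, 1]⟩,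
    ⟨[(0, true), (3, true), (0, true), (3, true), (0, true), (3, true)], [], [0, 0, 0, 0, 0, 0, 0, 0, 0, 0, 0, 0, 0, 0, 0, 0, 0, 0, 0, 0, 0, 0, 0, 0, 0, 0, 0, 0, 0, 0, 0, 1]⟩,
    ⟨[(0, true), (2, true), (3, true), (0, true), (2, true), (3, true), (0, true), (2, true), (3, true)], [], [0, 0, 0, 0, 0, 0, 0, 0, 0, 0, 0, 0, 0, 0, 0, 0, 0, 0, 0, 0, 0, 0, 0, 0, 0, 0, 0, 0, 0, 0, 0, 0, 1]⟩,
    ⟨[(1, true), (0, true), (1, false), (2, false), (1, true), (3, true), (1, false), (3, false), (0, false), (2, false), (1, true), (3, true), (1, false), (3, false)], [], [0, 0, 0, 0, 0, 0, 0, 0, 0, 0, 0, 0, 0, 0, 0, 0, 0, 0, 0, 0, 0, 0, 0, 0, 0, 0, 0, 0, 0, 0, 0, 0, 0, 1]⟩,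
    ⟨[(1, true), (2, true), (1, false), (2, false), (3, true), (2, false), (3, false), (1, true), (3, true), (1, false), (2, false), (1, true), (3, false), (1, false)], [], [0, 0, 0, 0, 0, 0, 0, 0, 0, 0, 0, 0, 0, 0, 0, 0, 0, 0, 0, 0, 0, 0, 0, 0, 0, 0, 0, 0, 0, 0, 0, 0, 0, 0, 1]⟩,
    ⟨[(1, true), (3, true), (1, true), (3, false), (0, false), (3, true), (2, false), (1, true), (3, false), (1, false), (3, true), (2, false), (3, false), (0, false)], [], [0, 0, 0, 0, 0, 0, 0, 0, 0, 0, 0, 0, 0, 0, 0, 0, 0, 0, 0, 0, 0, 0, 0, 0, 0, 0, 0, 0, 0, 0, 0, 0, 0, 0, 0, 1]⟩,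
    ⟨[(1, true), (3, true), (1, true), (3, true), (1, true), (3, true)], [], [0, 0, 0, 0, 0, 0, 0, 0, 0, 0, 0, 0, 0, 0, 0, 0, 0, 0, 0, 0, 0, 0, 0, 0, 0, 0, 0, 0, 0, 0, 0, 0, 0, 0, 0, 0, 1]⟩,
    ⟨[(0, true), (1, true), (3, false), (0, true), (1, true), (3, false), (0, true), (1, true), (3, false)], [], [0, 0, 0, 0, 0, 0, 0, 0, 0, 0, 0, 0, 0, 0, 0, 0, 0, 0, 0, 0, 0, 0, 0, 0, 0, 0, 0, 0, 0, 0, 0, 0, 0, 0, 0, 0, 0, 1]⟩,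
    ⟨[(0, true), (0, true)], [], [0, 0, 0, 0, 0, 0, 0, 0, 0, 0, 0, 0, 0, 0, 0, 0, 0, 0, 0, 0, 0, 0, 0, 0, 0, 0, 0, 0, 0, 0, 0, 0, 0, 0, 0, 0, 0, 0, 1]⟩,
    ⟨[(2, true), (2, true)], [], [0, 0, 0, 0, 0, 0, 0, 0, 0, 0, 0, 0, 0, 0, 0, 0, 0, 0, 0, 0, 0, 0, 0, 0, 0, 0, 0, 0, 0, 0, 0, 0, 0, 0, 0, 0, 0, 0, 0, 1]⟩,
    ⟨[(1, true), (1, true), (1, true), (1, true)], [], [0, 0, 0, 0, 0, 0, 0, 0, 0, 0, 0, 0, 0, 0, 0, 0, 0, 0, 0, 0, 0, 0, 0, 0, 0, 0, 0, 0, 0, 0, 0, 0, 0, 0, 0, 0, 0, 0, 0, 0, 1]⟩,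
    ⟨[(0, true), (2, true), (0, true), (2, true)], [], [0, 0, 0, 0, 0, 0, 0, 0, 0, 0, 0, 0, 0, 0, 0, 0, 0, 0, 0, 0, 0, 0, 0, 0, 0, 0, 0, 0, 0, 0, 0, 0, 0, 0, 0, 0, 0, 0, 0, 0, 0, 1]⟩,
    ⟨[(0, true), (2, false), (0, true), (2, false)], [], [0, 0, 0, 0, 0, 0, 0, 0, 0, 0, 0, 0, 0, 0, 0, 0, 0, 0, 0, 0, 0, 0, 0, 0, 0, 0, 0, 0, 0, 0, 0, 0, 0, 0, 0, 0, 0, 0, 0, 0, 0, 0, 1]⟩,
    ⟨[(0, true), (2, true), (2, true), (0, false)], [], [0, 0, 0, 0, 0, 0, 0, 0, 0, 0, 0, 0, 0, 0, 0, 0, 0, 0, 0, 0, 0, 0, 0, 0, 0, 0, 0, 0, 0, 0, 0, 0, 0, 0, 0, 0, 0, 0, 0, 0, 0, 0, 0, 1]⟩,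
    ⟨[(1, true), (0, true), (0, true), (1, false)], [], [0, 0, 0, 0, 0, 0, 0, 0, 0, 0, 0, 0, 0, 0, 0, 0, 0, 0, 0, 0, 0, 0, 0, 0, 0, 0, 0, 0, 0, 0, 0, 0, 0, 0, 0, 0, 0, 0, 0, 0, 0, 0, 0, 0, 1]⟩]
  pot g := pot3.getK g
  innerSize := 1024
  innerGen := 5

/-- the table with its checks -/
def level3 : CfsgLib.Sporadic.ChainLevel where
  table := table3
  gexp := [[6, 6], [5, 5], [0, 0], [6, 6]]
  perm := [0x15c56154450d43d12c4d13c301404c1443c120490e4311504110c3f110401082f1484a0e83b11c320dc3314c340d8381184e0f82e0b42c0ac2a0a4190241107c2108c0409020094100701d034050a01505c1306014058030981e0380f06c0602c0709c080280c068220480200400, 0x15c561544e0f848110390d02f11c4c108330f4310d83a0c0511003812c430c8531244d14846140410dc3c1504f1283f0ec450d42e0b42c0ac2a0a4220481c0600d0200306c2005807044050280e010250500c07c1701827074210981a0901502c100a0230781303c190240200400,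 0x15c561544d0e4411244513c3c1504c120301444b0d43f1403d10c3114840118331104e0e03214c3b0dc2f11c340f83a1084a0d82e0b42c0ac2a0a421034150741908c100a020070040941f024130901105c050981406807060220300609c0f02c0306c080480e0581e0280200400, 0x15c56154500d44d0bc320dc490f043118450c0480c4441084b0d04a0e44f0e0410fc520ec530f83d100470e84c144540d84e0cc2e0b42c0ac2a0a4240242100c0602c1d04017068190101c014180581f0201e034230301504c2603c27048110501b03820094280282201c0200400]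
  pinv := [0x15c56154450d43d12c4d13c301404c1443c120490e4311504110c3f110401082f1484a0e83b11c320dc3314c340d8381184e0f82e0b42c0ac2a0a4190241107c2108c0409020094100701d034050a01505c1306014058030981e0380f06c0602c0709c080280c068220480200400, 0x15c56154350f83b110390d0540f04c104330f4521343a0c0511004b0e0430c853124360c446140420dc470bc4f1283f120451382e0b42c0ac2a0a4090480f0600d020280402005407044260840e010250501f03017018270740a0141a0901602c1b00c2307813070190880200400, 0x15c561544d0e4411244513c3c1504c120301444b0d43f1403d10c3114840118331104e0e03214c3b0dc2f11c340f83a1084a0d82e0b42c0ac2a0a421034150741908c100a020070040941f024130901105c050981406807060220300609c0f02c0306c080480e0581e0280200400, 0x15c56154320e83c0cc54100301483411042138480d84b12846130450f8370f4390e04d0ec351043f13c3114c430bc5011c491442e0b42c0ac2a0a4060381001c280500409808060160881c0281f0781a080190480b0440d0302103c090541308c0509c1700c2406c1d0940200400]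
  defs := [[(0, true)], [(2, true)], [(3, true), (0, true), (3, false)], [(3, true), (2, true), (3, false)], [(3, true), (1, true), (3, false), (1, false)]]
  eqs := [(13, 0, [0, 0, 0, 0, 0, 0, 0, 0, 0, 0, 0, 0, 0, 0, 0, 1, 0, 0, 0, 0, 0, 0, 0, 0, 0, 0, 0, 0, 0, 0, 0, 0, 0, 0, 0, 0, 0, 0, (-1)]), (13, 2, [0, 0, 0, 0, 0, 0, 0, 0, 0, 0, 0, 0, 0, 0, 0, 0, 0, 1, 0, 0, 0, 0, 0, 0, 0, 0, 0, 0, 0, 0, 0, 0, 0, 0, 0, 0, 0, 0, (-1)]), (14, 0, [0, 0, 0, 0, 0, 0, 0, 0, 0, 0, 0, 0, 0, 0, 0, 0, 1, 0, 0, 0, 0, 0, 0, 0, 0, 0, 0, 0, 0, 0, 0, 0, 0, 0, 0, 0, 0, 0, 0, (-1)]), (14, 2, [0, 0, 0, 0, 0, 0, 0, 0, 0, 0, 0, 0, 0, 0, 0, 0, 0, 0, 1, 0, 0, 0, 0, 0, 0, 0, 0, 0, 0, 0, 0, 0, 0, 0, 0, 0, 0, 0, 0, (-1)]), (16, 0, [0, 0, 0, 0, 0, 0, 0, 0, 0, 0, 0, 0, 0, 0, 0, 0, 0, 0, 0, 0, 0, 0, 1, 0, 0, 0, 0, 0, 0, 0, 0, 0, 0, 0, 0, 0, 0, 0, 0,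 0, 0, (-1)]), (16, 2, [0, 0, 0, 0, 0, 0, 0, 0, 0, 0, 0, 0, 0, 0, 0, 0, 0, 0, 0, 1, 0, 0, 0, 0, 0, 0, 0, 0, 0, 0, 0, 0, 0, 0, 0, 0, 0, 0, 0, 0, 0, (-1)]), (18, 0, [0, 0, 0, 0, 0, 0, 0, 0, 0, 0, 0, 0, 0, 0, 0, 0, 1, 0, 0, 0, 0, 0, 0, 0, 0, 0, 0, 0, 0, 0, 0, 0, 0, 0, 0, 0, 0, 0, 0, 0, 0, 0, 0, (-1)]), (17, 0, [0, 0, 0, 0, 0, 0, 0, 0, 0, 0, 0, 0, 0, 0, 0, 0, (-2), 0, 0, 0, 0, 0, 1, 0, 0, 0, 0, 0, 0, 0, 0, 0, 0, 0, 0, 0, 0, 0, 0, 0, 0, 0, (-1)]), (6, 4, [0, 0, 0, 0, 0, 0, 0, 0, 0, 0, 0, 0, 0, 0, 0, (-2), 0, (-2), 0, 0, 2]), (7, 2, [0, 0, 0, 0, 0, 0, 0, 0, 0, 0, 0, 0, 0, 0, 0, (-2), (-2), 0, 0, 0, 0, 0, 2]), (18, 1, [0, 0, 0, 0, 0, 0, 0, 0, 0, 0, 0, 0, 0, 0, 0, (-2), (-1), 0, 0, 0, 0, 2, 0, 0, 0, 0, 0, 0, 0, (-1), 0, 0, 0, 0, 2, 0, 0, 0, 0, 0, 0, 0, 0, (-1)]), (13, 4, [0, 0, 0, 0, 0, 0, 0, 0, 0, 0, 0, 0, 0, 0, 0, (-2),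 0, (-2), 0, 0, 1, 0, 0, 0, 0, 0, 0, 0, 0, 0, (-2), 2, 0, 0, 0, 0, 0, 0, (-1)]), (15, 2, [0, 0, 0, 0, 0, 1, 0, 0, 0, 0, 0, 0, 0, 0, 0, 2, 0, 0, 2, 0, 0, 0, 0, 0, 0, 0, 0, 0, 2, 0, 0, 0, 0, 0, 0, 2, 0, 0, 0, 0, (-1)]), (14, 4, [0, 0, 0, 0, 0, 0, 0, 0, 0, 0, 0, 0, 0, 0, 0, 0, (-1), 2, 2, (-2), 0, (-1), 1, 0, 0, 0, 0, 0, 0, 0, 0, (-2), 2, 0, 0, 0, 0, 0, 0, (-1)]), (15, 3, [2, 0, 0, (-2), (-2), 1, 0, 0, 0, 0, 0, 0, 0, 0, 0, 4, 0, 0, 0, 0, 0, 0, 0, 0, 0, 0, 2, 2, (-2), 0, 0, 0, 0, 0, 0, 2, 0, 0, 0, 0, (-1)]), (17, 4, [0, 0, 0, 0, 0, 0, 0, 0, 0, 0, 0, 0, 0, 0, 0, 0, 2, (-4), (-2), 2, 0, 0, (-2), 1, 0, 0, 0, 0, 0, 0, (-2), 4, (-2), 0, 0, 0, 0, 0, 0, 0, 0, 0, (-1)]), (19, 3, [0, 0, 2, 8, (-6), 0, (-4), 2, 0, (-2), 2, 0, 0, (-2), 2, 0, 0, (-1), (-2), 2, 0, 0, 0, 0, 0, 0, 0, 0, 0, 0, 0, 0, 0, 0, 0, 0, 0, 0, 0, 0, 0, 0, 0,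 0, (-1)]), (15, 4, [(-1), 0, 0, 4, 4, (-4), 0, 0, 0, 0, 0, 0, 0, 0, 0, (-6), 0, 0, (-2), 0, 0, 0, 0, 0, 0, 0, (-2), (-2), 0, 0, (-4), 0, 0, 0, 0, (-4), 4, 0, 0, 0, (-1)]), (17, 1, [(-1), (-1), 2, 0, 4, (-1), 2, (-4), 2, (-2), 0, 1, (-2), 1, 1, (-2), 0, 1, (-2), 0, 0, 2, (-1), 0, (-1), 0, (-2), (-2), 1, (-1), 0, 0, 0, 2, (-2), 0, 0, 0, 0, 0, 0, 0, (-1)]), (13, 1, [1, (-4), 3, 2, 2, 0, 1, (-2), (-1), 0, 0, 4, (-2), (-2), 0, (-4), 0, (-1), (-8), 2, (-1), 6, (-2), 0, 0, (-1), 0, 0, 0, 0, 0, 0, 0, 2, 0, 0, 0, 0, (-1)]), (12, 5, [0, 3, (-11), (-4), 6, (-2), 2, 1, 4, 2, (-3), (-6), 4, 4, (-2), 0, (-2), 6, 4, 2, (-2), 0, 8, (-6), 0, 0, 0, 0, 0, (-2)]), (12, 2, [(-1), 3, (-15), (-4), 5, (-3), 4, 2, 6, 0, (-2), (-6), 4, 3, (-2), 2, 2, 6, 12, (-2), 2, (-2), 4, (-6), 0, 0, (-2), (-2), 2]), (9, 4, [3, 0, 10, (-12), 8, 1, 3,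 (-2), (-4), 2, (-2), 4, (-7), 6, (-5), 5, 1, (-2), (-3), (-2), (-1), (-2), (-6), 6, (-1), 5, 0, 2, (-1), 0, 0, 0, 0, 0, (-2)]), (9, 5, [(-2), 0, 19, (-6), 3, 1, (-2), (-3), (-7), 2, 1, 5, (-6), 4, (-1), 5, (-3), (-3), (-10), 0, (-2), 4, (-8), 4, 1, 4, 1, 1, 1, 0, 0, 0, 0, 0, (-2)]), (10, 5, [(-1), (-2), 7, 8, (-10), 0, (-4), 4, (-4), (-1), 1, 6, (-3), (-4), 4, 3, 4, (-11), (-8), 2, 3, (-2), (-6), 4, 2, 5, 4, 2, 2, (-1)]), (7, 3, [3, 0, (-5), 0, (-6), (-1), (-7), 9, 2, 5, (-1), (-7), 2, 5, 0, (-7), 1, (-3), (-2), 11, (-1), 2, 10, (-9), (-1), (-3), (-1), (-3), 3, 0, (-2), 4, (-2), 0, 2]), (7, 5, [3, (-3), (-4), 8, 0, (-2), (-11), 8, 4, 7, (-3), (-7), 5, 0, 1, (-5), 3, 3, 4, 17, (-3), 4, 16, (-19), (-3), (-9), (-5), (-5), 3, 2, (-2), 4, (-2), 0, 2]), (8, 3, [(-8), (-5), (-24), 19, 2, (-4), 1, (-1), 14, (-9), 1, 0,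 9, (-6), 3, (-2), (-4), 15, 17, 0, (-3), (-6), 16, (-6), (-4), (-7), (-5), (-1), (-2), (-1)]), (6, 3, [(-3), 1, (-26), 7, 12, (-7), 3, 1, 13, (-2), (-3), (-8), 8, 2, (-2), (-4), (-4), 16, 9, 6, (-5), 2, 16, (-14), (-1), (-5), (-3), (-5), (-1), 0, 6, (-2), 0, 0, 0, 0, (-2), 2])]
  pts := [8]

end CfsgLib.Sporadic.MultTwoMono
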