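import Mathlib
import Cfsg.Agent.Lib.Sporadic.ChainCertificate
import Cfsg.Agent.Lib.Schur.TrieFast

/-!
# Coset table 4 of a chain
-/

set_option autoImplicit false
set_option maxRecDepth 100000
set_option maxHeartbeats 0
set_option Elab.async false

noncomputable section

namespace CfsgLib.Sporadic.MultTwoMono

open CfsgLib.Schur.Cert

/-- data -/
def next4 : Trie (ℕ) := .node (.node (.node (.node (.node (.node (.node (.node (.leaf 1) (.leaf 13)) (.leaf 17)) (.node (.leaf 16) (.leaf 15))) (.node (.node (.node (.leaf 9) (.leaf 4)) (.leaf 10)) (.node (.leaf 22) (.leaf 30)))) (.node (.node (.node (.node (.leaf 8) (.leaf 16)) (.leaf 26)) (.node (.leaf 21) (.leaf 27))) (.node (.node (.node (.leaf 15) (.leaf 22)) (.leaf 6)) (.node (.leaf 4) (.leaf 15))))) (.node (.node (.node (.node (.node (.leaf 5) (.leaf 14)) (.leaf 25)) (.node (.leaf 5) (.leaf 13)))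 (.node (.node (.node (.leaf 14) (.leaf 21)) (.leaf 29)) (.node (.leaf 2) (.leaf 13)))) (.node (.node (.node (.node (.leaf 10) (.leaf 22)) (.leaf 19)) (.node (.leaf 22) (.leaf 29))) (.node (.node (.node (.leaf 15) (.leaf 24)) (.leaf 29)) (.node (.leaf 26) (.leaf 14)))))) (.node (.node (.node (.node (.node (.node (.leaf 3) (.leaf 12)) (.leaf 23)) (.node (.leaf 18) (.leaf 7))) (.node (.node (.node (.leaf 12) (.leaf 20)) (.leaf 6)) (.node (.leaf 16) (.leaf 8)))) (.node (.node (.node (.node (.leaf 6) (.leaf 26)) (.leaf 24)) (.node (.leaf 19) (.leaf 30))) (.node (.node (.node (.leaf 7) (.leaf 26)) (.leaf 27)) (.node (.leaf 2) (.leaf 11))))) (.node (.node (.node (.node (.node (.leaf 6) (.leaf 30)) (.leaf 4)) (.node (.leaf 19) (.leaf 9))) (.node (.node (.node (.leaf 12) (.leaf 17)) (.leaf 8)) (.node (.leaf 1) (.leaf 14)))) (.node (.node (.node (.node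 (.leaf 7) (.leaf 17)) (.leaf 5)) (.node (.leaf 3) (.leaf 28))) (.node (.node (.node (.leaf 2) (.leaf 18)) (.leaf 6)) (.node (.leaf 4) (.leaf 14))))))) (.node (.node (.node (.node (.node (.node (.node (.leaf 2) (.leaf 12)) (.leaf 20)) (.node (.leaf 17) (.leaf 8))) (.node (.node (.node (.leaf 0) (.leaf 23)) (.leaf 27)) (.node (.leaf 23) (.leaf 9)))) (.node (.node (.node (.node (.leaf 9) (.leaf 23)) (.leaf 23)) (.node (.leaf 17) (.leaf 8))) (.node (.node (.node (.leaf 9) (.leaf 20)) (.leaf 31)) (.node (.leaf 24) (.leaf 31))))) (.node (.node (.node (.node (.node (.leaf 0) (.leaf 27)) (.leaf 3)) (.node (.leaf 1) (.leaf 29))) (.node (.node (.node (.leaf 11) (.leaf 16)) (.leaf 30)) (.node (.leaf 24) (.leaf 27)))) (.node (.node (.node (.node (.leaf 11) (.leaf 26)) (.leaf 25)) (.node (.leaf 5) (.leaf 28))) (.node (.node (.node (.leaf 0) (.leaf 21)) (.leaf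 31)) (.node (.leaf 22) (.leaf 11)))))) (.node (.node (.node (.node (.node (.node (.leaf 4) (.leaf 28)) (.leaf 5)) (.node (.leaf 3) (.leaf 11))) (.node (.node (.node (.leaf 13) (.leaf 18)) (.leaf 28)) (.node (.leaf 18) (.leaf 29)))) (.node (.node (.node (.node (.leaf 0) (.leaf 2)) (.leaf 24)) (.node (.leaf 1) (.leaf 31))) (.node (.node (.node (.leaf 13) (.leaf 19)) (.leaf 10)) (.node (.leaf 19) (.leaf 10))))) (.node (.node (.node (.node (.node (.leaf 7) (.leaf 18)) (.leaf 25)) (.node (.leaf 20) (.leaf 30))) (.node (.node (.node (.leaf 0) (.leaf 21)) (.leaf 28)) (.node (.leaf 25) (.leaf 10)))) (.node (.node (.node (.node (.leaf 7) (.leaf 16)) (.leaf 21)) (.node (.leaf 20) (.leaf 12))) (.node (.node (.node (.leaf 1) (.leaf 25)) (.leaf 31)) (.node (.leaf 3) (.leaf 15)))))))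

/-- data -/
def prev4 : Trie (ℕ) := .node (.node (.node (.node (.node (.node (.node (.node (.leaf 1) (.leaf 13)) (.leaf 25)) (.node (.leaf 16) (.leaf 15))) (.node (.node (.node (.leaf 9) (.leaf 21)) (.leaf 10)) (.node (.leaf 22) (.leaf 30)))) (.node (.node (.node (.node (.leaf 8) (.leaf 16)) (.leaf 26)) (.node (.leaf 21) (.leaf 7))) (.node (.node (.node (.leaf 28) (.leaf 22)) (.leaf 6)) (.node (.leaf 4) (.leaf 15))))) (.node (.node (.node (.node (.node (.leaf 5) (.leaf 14)) (.leaf 25)) (.node (.leaf 5) (.leaf 13))) (.node (.node (.node (.leaf 14) (.leaf 21)) (.leaf 29)) (.node (.leaf 2) (.leaf 13)))) (.node (.node (.node (.node (.leaf 10) (.leaf 22)) (.leaf 19)) (.node (.leaf 22) (.leaf 29))) (.node (.node (.node (.leaf 15) (.leaf 24)) (.leaf 29)) (.node (.leaf 26) (.leaf 14)))))) (.node (.node (.node (.node (.node (.node (.leaf 3) (.leaf 12))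 (.leaf 23)) (.node (.leaf 18) (.leaf 7))) (.node (.node (.node (.leaf 12) (.leaf 20)) (.leaf 6)) (.node (.leaf 16) (.leaf 8)))) (.node (.node (.node (.node (.leaf 6) (.leaf 26)) (.leaf 24)) (.node (.leaf 19) (.leaf 30))) (.node (.node (.node (.leaf 7) (.leaf 26)) (.leaf 27)) (.node (.leaf 2) (.leaf 11))))) (.node (.node (.node (.node (.node (.leaf 6) (.leaf 30)) (.leaf 4)) (.node (.leaf 19) (.leaf 9))) (.node (.node (.node (.leaf 12) (.leaf 17)) (.leaf 8)) (.node (.leaf 23) (.leaf 14)))) (.node (.node (.node (.node (.leaf 27) (.leaf 17)) (.leaf 5)) (.node (.leaf 3) (.leaf 28))) (.node (.node (.node (.leaf 2) (.leaf 18)) (.leaf 6)) (.node (.leaf 4) (.leaf 14))))))) (.node (.node (.node (.node (.node (.node (.node (.leaf 2) (.leaf 31)) (.leaf 20)) (.node (.leaf 17) (.leaf 8))) (.node (.node (.node (.leaf 0) (.leaf 23)) (.leaf 27)) (.node (.leaf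 1) (.leaf 9)))) (.node (.node (.node (.node (.leaf 10) (.leaf 23)) (.leaf 23)) (.node (.leaf 17) (.leaf 8))) (.node (.node (.node (.leaf 9) (.leaf 20)) (.leaf 12)) (.node (.leaf 24) (.leaf 31))))) (.node (.node (.node (.node (.node (.leaf 0) (.leaf 27)) (.leaf 3)) (.node (.leaf 1) (.leaf 29))) (.node (.node (.node (.leaf 11) (.leaf 16)) (.leaf 30)) (.node (.leaf 24) (.leaf 27)))) (.node (.node (.node (.node (.leaf 11) (.leaf 26)) (.leaf 25)) (.node (.leaf 5) (.leaf 15))) (.node (.node (.node (.leaf 0) (.leaf 21)) (.leaf 31)) (.node (.leaf 22) (.leaf 11)))))) (.node (.node (.node (.node (.node (.node (.leaf 4) (.leaf 28)) (.leaf 5)) (.node (.leaf 3) (.leaf 11))) (.node (.node (.node (.leaf 13) (.leaf 18)) (.leaf 28)) (.node (.leaf 18) (.leaf 29)))) (.node (.node (.node (.node (.leaf 0) (.leaf 20)) (.leaf 24)) (.node (.leaf 1) (.leaf 31))) (.node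 (.node (.node (.leaf 13) (.leaf 19)) (.leaf 10)) (.node (.leaf 19) (.leaf 10))))) (.node (.node (.node (.node (.node (.leaf 7) (.leaf 18)) (.leaf 25)) (.node (.leaf 2) (.leaf 30))) (.node (.node (.node (.leaf 0) (.leaf 21)) (.leaf 28)) (.node (.leaf 25) (.leaf 9)))) (.node (.node (.node (.node (.leaf 7) (.leaf 16)) (.leaf 4)) (.node (.leaf 20) (.leaf 12))) (.node (.node (.node (.leaf 1) (.leaf 17)) (.leaf 31)) (.node (.leaf 3) (.leaf 15)))))))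

/-- data -/
def lab4 : Trie (Word) := .node (.node (.node (.node (.node (.node (.node (.node (.leaf ([])) (.leaf ([(3, true), (1, true), (0, true)]))) (.leaf ([(4, true), (3, true), (1, true), (0, true)]))) (.node (.leaf ([])) (.leaf ([(4, true), (3, true), (2, true)])))) (.node (.node (.node (.leaf ([(2, true)])) (.leaf ([(4, true), (3, true), (2, true), (0, true)]))) (.leaf ([]))) (.node (.leaf ([(4, true)])) (.leaf ([(4, true), (2, true)]))))) (.node (.node (.node (.node (.leaf ([])) (.leaf ([]))) (.leaf ([]))) (.node (.leaf ([])) (.leaf ([(0, true)])))) (.node (.node (.node (.leaf ([])) (.leaf ([(4, true), (2, true)]))) (.leaf ([]))) (.node (.leaf ([])) (.leaf ([(4, true), (3, true), (2, true)])))))) (.node (.node (.node (.node (.node (.leaf ([])) (.leaf ([]))) (.leaf ([(3, true), (1, true), (0, true)]))) (.node (.leaf ([(3, true), (2, true)]))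 (.leaf ([(3, true)])))) (.node (.node (.node (.leaf ([])) (.leaf ([(3, true), (2, true), (0, true)]))) (.leaf ([]))) (.node (.leaf ([])) (.leaf ([(3, true), (1, true)]))))) (.node (.node (.node (.node (.leaf ([])) (.leaf ([(4, true), (2, true)]))) (.leaf ([(4, true), (3, true), (2, true)]))) (.node (.leaf ([])) (.leaf ([(3, true), (2, true), (0, true)])))) (.node (.node (.node (.leaf ([(4, true)])) (.leaf ([(4, true), (3, true), (1, true)]))) (.leaf ([(2, true), (1, true), (0, true)]))) (.node (.leaf ([])) (.leaf ([(4, true), (2, true), (0, true)]))))))) (.node (.node (.node (.node (.node (.node (.leaf ([])) (.leaf ([]))) (.leaf ([(3, true), (1, true)]))) (.node (.leaf ([])) (.leaf ([])))) (.node (.node (.node (.leaf ([])) (.leaf ([(3, true), (2, true), (1, true)]))) (.leaf ([]))) (.node (.leaf ([])) (.leaf ([(0, true)]))))) (.node (.node (.node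 (.node (.leaf ([])) (.leaf ([]))) (.leaf ([(4, true), (2, true)]))) (.node (.leaf ([])) (.leaf ([])))) (.node (.node (.node (.leaf ([(3, true), (2, true)])) (.leaf ([(4, true), (1, true)]))) (.leaf ([(3, true), (1, true)]))) (.node (.leaf ([])) (.leaf ([])))))) (.node (.node (.node (.node (.node (.leaf ([])) (.leaf ([(4, true), (1, true), (0, true)]))) (.leaf ([]))) (.node (.leaf ([])) (.leaf ([(2, true), (1, true), (0, true)])))) (.node (.node (.node (.leaf ([])) (.leaf ([]))) (.leaf ([]))) (.node (.leaf ([(2, true), (0, true)])) (.leaf ([(0, true)]))))) (.node (.node (.node (.node (.leaf ([(1, true)])) (.leaf ([]))) (.leaf ([(4, true)]))) (.node (.leaf ([(2, true)])) (.leaf ([(4, true), (2, true)])))) (.node (.node (.node (.leaf ([])) (.leaf ([(4, true)]))) (.leaf ([(0, true)]))) (.node (.leaf ([])) (.leaf ([])))))))) (.node (.node (.node (.node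 (.node (.node (.node (.leaf ([])) (.leaf ([(4, true), (3, true), (1, true)]))) (.leaf ([(3, true)]))) (.node (.leaf ([])) (.leaf ([])))) (.node (.node (.node (.leaf ([])) (.leaf ([(3, true), (2, true)]))) (.leaf ([]))) (.node (.leaf ([])) (.leaf ([(4, true)]))))) (.node (.node (.node (.node (.leaf ([])) (.leaf ([(0, true)]))) (.leaf ([(0, true)]))) (.node (.leaf ([])) (.leaf ([])))) (.node (.node (.node (.leaf ([(3, true)])) (.leaf ([(1, true), (0, true)]))) (.leaf ([]))) (.node (.leaf ([])) (.leaf ([(4, true), (3, true), (1, true)])))))) (.node (.node (.node (.node (.node (.leaf ([])) (.leaf ([]))) (.leaf ([(0, true)]))) (.node (.leaf ([])) (.leaf ([(3, true), (2, true), (1, true)])))) (.node (.node (.node (.leaf ([])) (.leaf ([(0, true)]))) (.leaf ([]))) (.node (.leaf ([])) (.leaf ([(0, true)]))))) (.node (.node (.node (.node (.leaf ([])) (.leaf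 ([]))) (.leaf ([(4, true), (3, true), (2, true)]))) (.node (.leaf ([(3, true)])) (.leaf ([(4, true), (3, true), (2, true)])))) (.node (.node (.node (.leaf ([(0, true)])) (.leaf ([(4, true), (3, true), (1, true)]))) (.leaf ([(4, true)]))) (.node (.leaf ([(4, true), (2, true)])) (.leaf ([]))))))) (.node (.node (.node (.node (.node (.node (.leaf ([])) (.leaf ([]))) (.leaf ([(2, true), (1, true), (0, true)]))) (.node (.leaf ([])) (.leaf ([(4, true), (1, true), (0, true)])))) (.node (.node (.node (.leaf ([])) (.leaf ([(2, true), (1, true), (0, true)]))) (.leaf ([]))) (.node (.leaf ([(3, true), (1, true)])) (.leaf ([(3, true), (2, true)]))))) (.node (.node (.node (.node (.leaf ([])) (.leaf ([(1, true), (0, true)]))) (.leaf ([(4, true), (3, true), (2, true)]))) (.node (.leaf ([])) (.leaf ([(4, true), (3, true), (1, true)])))) (.node (.node (.node (.leaf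 ([(2, true), (1, true), (0, true)])) (.leaf ([(4, true), (3, true), (1, true)]))) (.leaf ([(3, true), (1, true)]))) (.node (.leaf ([(4, true), (1, true)])) (.leaf ([])))))) (.node (.node (.node (.node (.node (.leaf ([])) (.leaf ([(3, true), (1, true)]))) (.leaf ([]))) (.node (.leaf ([])) (.leaf ([(1, true), (0, true)])))) (.node (.node (.node (.leaf ([])) (.leaf ([]))) (.leaf ([]))) (.node (.leaf ([])) (.leaf ([(2, true), (0, true)]))))) (.node (.node (.node (.node (.leaf ([])) (.leaf ([]))) (.leaf ([(0, true)]))) (.node (.leaf ([(2, true), (1, true), (0, true)])) (.leaf ([(4, true), (2, true)])))) (.node (.node (.node (.leaf ([])) (.leaf ([(0, true)]))) (.leaf ([(4, true), (3, true), (1, true)]))) (.node (.leaf ([])) (.leaf ([(4, true), (3, true), (2, true)]))))))))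

/-- data -/
def val4 : Trie (Vec) := .node (.node (.node (.node (.node (.node (.node (.node (.leaf ([])) (.leaf ([(-1), 1, 0, 0, 0, 0, 0, 0, 0, (-1), 0, 0, 0, 0, 0, 1, 0, (-1), 0, 0, 0, 0, 0, 0, 1, 1, 1]))) (.leaf ([0, (-3), (-2), (-1), (-2), 0, 2, 0, 0, 0, 1, 1, 0, (-1), 0, (-3), 1, (-1), 1, (-2), 2, 0, (-3), 2, (-1), (-1), (-1), (-1), 1, 3]))) (.node (.leaf ([])) (.leaf ([0, 0, 2, 1, 2, (-1), (-1), (-1), 0, 0, 0, 0, 0, 0, 0, 1, (-1), 1, (-1), 0, (-1), 1])))) (.node (.node (.node (.leaf ([])) (.leaf ([1, 0, 0, 0, (-2), 1, (-1), 1, 0, 0, 0, 0, 0, (-1), 0, 3, 1, 0, 1, 1, 0, (-1), 1, (-1), 0, 0, 0, 1]))) (.leaf ([0, 0, 0, 0, 0, 0, 0, 0, 0, 0, 0, 0, 0, 0, 0, 1, 1, (-1), 0, 0, 1, 0, (-1)]))) (.node (.leaf ([0, 0, 0, 0, 0, 0, 0, 0, 0, 0, 0, 0, 0, 0, 0, 0, 0, 0, 0, 0, 0, 0, 0, 0, 0, 0, 0, 0, 1])) (.leaf ([0, 0, (-1), 0, (-1), 0, 0, 0, 0, 0, 0, 0, 0,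 0, 0, (-1), (-1), 1, (-2), 0, (-1), 1, (-1), 1, 0, 0, 0, 0, (-1)]))))) (.node (.node (.node (.node (.leaf ([])) (.leaf ([0, 0, 0, 0, 0, 0, 0, 0, 0, 0, 0, 0, 0, 0, 0, 0, 1]))) (.leaf ([0, 0, 0, 0, 0, 0, 0, 0, 0, 0, 0, 0, 0, 0, 0, (-1), 0, 0, 1, (-1), 1]))) (.node (.leaf ([])) (.leaf ([0, 0, 0, 0, 0, 0, 0, 0, 0, 0, 0, 0, 0, 0, 0, 1, (-1), 2, 2, (-1), (-1), (-1), 0, 1, (-1), 0, (-1)])))) (.node (.node (.node (.leaf ([])) (.leaf ([0, 0, 1, 0, 1, 0, 0, (-1), 0, 0, 0, 0, 0, 0, 0, 1, 1, 0, 2, 0, 1, (-1), 1, (-1), 0, 0, 0, 0, 1]))) (.leaf ([0, 0, 0, 0, 0, 0, 0, 0, 0, 0, 0, 0, 0, 0, 0, 0, 0, 0, 1]))) (.node (.leaf ([0, 0, 0, 0, 0, 0, 0, 0, 0, 0, 0, 0, 0, 0, 0, 0, 1, 0, 1, 0, 0, (-1), 1])) (.leaf ([0, 0, 0, (-1), 2, (-1), 1, (-1), 0, 0, 0, 0, 0, 0, 0, 0, 0, (-1), 1, (-1), 1, (-1), 0, 1])))))) (.node (.node (.node (.node (.node (.leaf ([])) (.leaf ([0, 0,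 0, 0, 0, 0, 0, 0, 0, 0, 0, 0, 0, 0, 0, (-1), 0, 1, 1, (-1), 1]))) (.leaf ([0, (-2), 0, 1, 0, 0, 0, 0, 0, 0, 0, 1, 0, (-1), 0, (-1), 0, 1, 1, 0, 0, 0, 0, 0, (-1), (-1), (-1)]))) (.node (.leaf ([0, 0, 1, 0, 0, 0, (-1), 0, 0, 0, 0, 0, 0, 0, 0, 1, (-1), 1, 0, 0, (-1), 0, 1])) (.leaf ([0, 0, 0, (-1), 0, 0, 0, 0, 0, 0, 0, 0, 0, 0, 0, 1, 0, 0, 0, 0, 0, 0, 0, 0, 0, 1])))) (.node (.node (.node (.leaf ([])) (.leaf ([1, 0, 1, 0, (-1), 1, (-1), 0, 0, 0, 0, 0, 0, (-1), 0, 1, (-1), 0, 1, (-1), 0, (-1), 1, 1, 0, 0, 0, 2]))) (.leaf ([]))) (.node (.leaf ([0, 0, 0, 0, 0, 0, 0, 0, 0, 0, 0, 0, 0, 0, 0, 0, 0, 1])) (.leaf ([(-1), 2, 0, (-1), 0, 0, 0, 0, 0, (-1), 0, (-1), 0, 1, 0, 0, (-1), (-1), (-2), 0, 0, 2, (-1), 0, 1, 1]))))) (.node (.node (.node (.node (.leaf ([])) (.leaf ([0, 0, 1, 0, 1, 0, 0, (-1), 0, 0, 0, 0, 0, 0, 0, 0, (-1), 0, (-1), 1, 0, 1, 1, (-1), 0, 0,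 0, 0, 1]))) (.leaf ([0, 0, (-1), 0, (-1), 0, 0, 0, 0, 0, 0, 0, 0, 0, 0, (-1), 0, 1, (-1), 0, (-1), 1]))) (.node (.leaf ([])) (.leaf ([0, 1, 1, (-2), 0, 0, 0, 2, (-2), 0, 0, 1, (-2), 2, (-2), 3, 3, (-4), (-2), 1, 0, (-1), (-3), 1, 2, 2, 2])))) (.node (.node (.node (.leaf ([])) (.leaf ([(-2), 2, 5, (-4), 3, (-1), 0, (-1), (-2), 1, (-1), 0, (-2), 3, 0, 3, 1, (-3), (-5), 1, (-1), 2, (-4), 1, 2, 3, 1, 0, 1, 1]))) (.leaf ([0, 5, 13, (-6), 5, (-1), 2, (-1), (-7), 0, (-1), 3, (-8), 5, (-2), 4, 4, (-11), (-10), 1, 0, (-1), (-10), 7, 4, 7, 3]))) (.node (.leaf ([])) (.leaf ([0, 0, 1, 2, (-2), 1, (-2), 1, 0, 0, 0, 0, 0, (-1), 0, 2, 0, 1, 2, 1, (-1), (-1), 2, (-1), 0, 0, (-1), 1, (-1)]))))))) (.node (.node (.node (.node (.node (.node (.leaf ([])) (.leaf ([0, 0, 0, 0, 0, 0, 0, 0, 0, 0, 0, 0, 0, 0, 0, 1]))) (.leaf ([1, (-2), 0, 1, 0, 0, 0, 0, 0, 0, 0, 1, 0,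 (-1), 0, (-2), 0, 1, (-2), 0, 0, 2, (-1), 0, (-1), (-1)]))) (.node (.leaf ([])) (.leaf ([0, 0, 0, 0, 0, 0, 0, 0, 0, 0, 0, 0, 0, 0, 0, 0, 0, 0, 1])))) (.node (.node (.node (.leaf ([])) (.leaf ([1, 1, 5, (-1), (-1), 1, (-1), 0, (-2), 0, 0, 1, (-2), 0, 0, 2, (-1), (-3), (-4), (-1), 0, 1, (-3), 3, 1, 2, 1, 2]))) (.leaf ([0, 0, 0, 0, 0, 0, 0, 0, 0, 0, 0, 0, 0, 0, 0, 0, 0, 1]))) (.node (.leaf ([0, 0, 0, 0, 0, 0, 0, 0, 0, 0, 0, 0, 0, 0, 0, 0, 1, (-1), 0, 0, 1, 0, (-1)])) (.leaf ([(-1), 0, 0, 0, 0, 0, 0, 0, 0, 0, 0, 0, 0, 0, 0, (-1), 0, 0, 1, 0, 0, 0, 0, 0, 0, 0, (-1), (-1)]))))) (.node (.node (.node (.node (.leaf ([0, 0, 0, 0, 0, 0, 0, 0, 0, 0, 0, 0, 0, 0, 0, (-1), (-1), 0, 0, 0, 0, 0, 1])) (.leaf ([0, 0, (-2), 0, (-2), 0, 0, 2, 0, 0, 0, 0, 0, 0, 0, 0, 1, 0, 1, 1, 0, (-1), 2, (-1)]))) (.leaf ([(-1), 1, 4, (-1), (-3), 0, 0, 0, (-2), 0, 0, 1, (-3), 1,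 2, 1, 0, (-3), (-5), 1, (-1), 1, (-2), 1, 2, 2, 2, 0, 1]))) (.node (.leaf ([0, 0, 0, 0, 0, 0, 0, 0, 0, 0, 0, 0, 0, 0, 0, 0, 0, (-1), (-1), 1])) (.leaf ([0, 0, 0, 0, 0, 0, 0, 0, 0, 0, 0, 0, 0, 0, 0, (-1), (-1), 0, (-1), 0, 0, 1])))) (.node (.node (.node (.leaf ([0, 0, (-1), 0, 0, 0, 0, 0, 0, 0, 0, 0, 0, 0, 0, (-1), 0, 1, 0, 0, (-1), 0, 1])) (.leaf ([(-3), 0, (-6), 3, (-4), 0, 0, 2, 2, (-2), 0, 0, 2, (-1), 2, 1, (-1), 3, 4, 0, (-1), (-2), 5, (-2), 0, 0, 0, 0, 0, 1]))) (.leaf ([(-2), 2, 7, (-4), 5, (-1), 0, (-3), (-2), 1, (-1), 0, (-2), 3, 0, 2, (-2), (-2), (-6), 1, (-2), 3, (-3), 1, 2, 3, 1, 0, 0, (-2)]))) (.node (.leaf ([0, 0, 0, 0, 0, 0, 0, 0, 0, 0, 0, 0, 0, 0, 0, 0, 0, 0, 1])) (.leaf ([0, 0, 0, 0, 0, 0, 0, 0, 0, 0, 0, 0, 0, 0, 0, 0, 0, 0, (-1), 1])))))) (.node (.node (.node (.node (.node (.leaf ([])) (.leaf ([1, (-2), 7, 2, (-2), 2, (-2), (-1),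 (-2), 0, 0, 3, (-2), (-2), 0, 0, 1, (-2), (-1), (-2), 1, 0, (-5), 4, (-1), 0, (-1), 1, 0, 1]))) (.leaf ([0, 0, 0, 0, 0, 0, 0, 0, 0, 0, 0, 0, 0, 0, 0, 1]))) (.node (.leaf ([])) (.leaf ([1, (-1), (-2), 1, 0, 0, 0, 0, 1, 0, 0, (-1), 1, (-1), 0, (-1), 0, 2, 4, (-1), 1, (-1), 2, (-1), (-1), (-2), (-1)])))) (.node (.node (.node (.leaf ([0, 0, 0, 0, 0, 0, 0, 0, 0, 0, 0, 0, 0, 0, 0, 0, 0, (-1), (-1), 1])) (.leaf ([0, 0, 0, 0, 0, 0, 0, 0, 0, 0, 0, 0, 0, 0, 0, 1]))) (.leaf ([0, 0, 0, 0, 0, 0, 0, 0, 0, 0, 0, 0, 0, 0, 0, 0, 1, 0, 1, 0, 0, (-1), 1]))) (.node (.leaf ([0, 0, 0, 1, 0, 0, 0, 0, 0, 0, 0, 0, 0, (-1), 0, (-1), 0, (-1), 2, (-1), 1, (-1), 0, 1, 0, 0, (-1)])) (.leaf ([(-1), 0, 0, 0, 0, 0, 0, 0, 0, 0, 0, 0, 0, 0, 0, 0, 0, 0, 1, 0, 0, 0, 0, 0, 0, 0, (-1)]))))) (.node (.node (.node (.node (.leaf ([])) (.leaf ([0, 0, 0, 0, 0, 0, 0, 0, 0, 0, 0, 0, 0, 0,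 0, 0, 0, 0, (-1), 1]))) (.leaf ([0, 0, 0, 0, (-1), 0, 0, 0, 0, 0, 0, 0, 0, 0, 0, 0, 0, 0, 1]))) (.node (.leaf ([0, 0, (-1), 0, 0, 0, 0, 0, 0, 0, 0, 0, 0, 0, 0, 0, 1])) (.leaf ([0, 0, 1, 0, 1, 0, 0, (-2), 0, 0, 0, 0, 0, 0, 0, (-1), (-1), 0, (-1), (-1), 0, 1, (-1), 1, 0, 0, 0, 0, (-1)])))) (.node (.node (.node (.leaf ([0, 0, 0, 0, 0, 0, 0, 0, 0, 0, 0, 0, 0, 0, 0, 0, (-1), 0, 0, 0, 0, 0, 1])) (.leaf ([0, 0, 0, 0, 0, 0, 0, 0, 0, 0, 0, 0, 0, 0, 0, 0, 0, 0, 1, 0, 0, 0, 0, 0, 0, 0, 0, 0, 1, 1]))) (.leaf ([(-1), 1, 4, (-1), 0, 0, 0, 0, (-2), 0, 0, 1, (-2), 1, 0, 2, 2, (-3), (-2), 0, 0, 0, (-4), 2, 1, 2]))) (.node (.leaf ([0, 0, 0, 0, 0, 0, 0, 0, 0, 0, 0, 0, 0, 0, 0, 0, 0, 0, (-1), 1])) (.leaf ([0, 0, 0, 0, 0, 0, 0, 0, 0, 0, 0, 0, 0, 0, 0, (-1), 0, 0, (-1), 0, 0, 1])))))))) (.node (.node (.node (.node (.node (.node (.node (.leaf ([])) (.leaf ([(-3), (-1),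 0, 2, (-2), 0, 0, 0, 0, (-1), 0, 2, 0, (-2), 2, 1, 0, (-2), (-1), 0, 0, 0, 0, 0, 2, 1, 1, 0, 1, 1]))) (.leaf ([0, 0, 0, 0, 0, 0, 0, 0, 0, 0, 0, 0, 0, 0, 0, 0, 0, 0, 0, 0, 0, 0, 0, 0, 0, 1]))) (.node (.leaf ([])) (.leaf ([0, 0, 0, 0, 0, 0, 0, 0, 0, 0, 0, 0, 0, 0, 0, 0, 0, 0, (-1), 1])))) (.node (.node (.node (.leaf ([0, 0, 0, 0, 0, 0, 0, 0, 0, 0, 0, 0, 0, 0, 0, 0, 0, 1])) (.leaf ([0, (-1), (-6), 3, 0, 0, (-1), (-2), 4, 0, 0, (-3), 5, (-3), 2, (-2), (-3), 6, 6, (-1), 0, (-1), 7, (-3), (-2), (-4), (-1)]))) (.leaf ([]))) (.node (.leaf ([])) (.leaf ([0, 0, 0, 0, (-1), 0, 0, 0, 0, 0, 0, 0, 0, 0, 0, 0, 0, 0, 1, 0, 0, 0, 0, 0, 0, 0, 0, 0, (-1)]))))) (.node (.node (.node (.node (.leaf ([])) (.leaf ([0, 0, 0, 0, 0, 0, 0, 0, 0, 0, 0, 0, 0, 0, 0, 1, 1, 0, (-4), 3, (-1), 1, 0, (-1), 0, 0, 1]))) (.leaf ([0, 0, 0, 0, 0, 0, 0, 0, 0, 0, 0, 0, 0, 0, 0, 0, 0, 0,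 0, 0, 0, 0, 0, 0, 0, 0, 1]))) (.node (.leaf ([0, 0, 0, 0, 0, 0, 0, 0, 0, 0, 0, 0, 0, 0, 0, 0, 0, 0, 1, 0, 0, (-1), 1])) (.leaf ([0, 0, 0, 0, 0, 0, 0, 0, 0, 0, 0, 0, 0, 0, 0, 1])))) (.node (.node (.node (.leaf ([])) (.leaf ([0, 2, 4, (-1), 0, 0, 0, 0, (-2), 0, 0, 0, (-2), 1, 0, 2, 1, (-3), (-2), 0, 0, 0, (-3), 2, 1, 2, 1]))) (.leaf ([]))) (.node (.leaf ([0, 0, 0, 0, 0, 0, 0, 0, 0, 0, 0, 0, 0, 0, 0, 0, 0, (-1), (-1), 1])) (.leaf ([2, (-3), (-5), 1, 4, (-2), 0, 1, 2, 2, (-2), 0, 2, (-1), (-2), (-3), 0, 3, 3, (-1), 1, 0, 2, (-1), (-2), (-3), (-1), 0, (-1), (-1)])))))) (.node (.node (.node (.node (.node (.leaf ([0, 0, 0, 0, 0, 0, 0, 0, 0, 0, 0, 0, 0, 0, 0, 1])) (.leaf ([0, 0, 0, 0, 0, 0, 0, 0, 0, 0, 0, 0, 0, 0, 0, 0, (-1), 0, 2, (-1), 0, (-1), 0, 1]))) (.leaf ([(-1), 0, 0, 0, 0, 0, 0, 0, 0, 0, 0, 0, 0, 0, 0, 0, 0, (-1), 0, 0, 0, 0, 0, 0, 1]))) (.node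 (.leaf ([0, 0, 0, 0, 0, 0, 0, 0, 0, 0, 0, 0, 0, 0, 0, 0, 0, 1])) (.leaf ([(-1), (-2), (-6), 2, 1, (-1), 0, 0, 3, (-1), 0, (-1), 2, 0, 0, (-4), 0, 3, 0, 1, 0, 3, 1, (-3), (-1), (-2), (-1), (-2)])))) (.node (.node (.node (.leaf ([0, 0, 0, 0, 0, 0, 0, 0, 0, 0, 0, 0, 0, 0, 0, 0, 0, 0, 1, 0, 0, (-1), 1])) (.leaf ([2, (-1), 0, 1, 2, 0, 0, (-2), 2, 0, 0, (-1), 0, (-1), 0, (-2), (-2), 4, 4, (-2), 0, 0, 2, 0, (-2), (-2), (-2)]))) (.leaf ([]))) (.node (.leaf ([])) (.leaf ([(-1), 0, 2, 0, 2, 0, 0, (-2), 0, 0, 0, 0, 0, 0, 0, 1, (-1), (-1), (-2), 1, (-1), 1, (-2), 1, 0, 0, (-1)]))))) (.node (.node (.node (.node (.leaf ([])) (.leaf ([0, 0, 0, 0, 0, 0, 0, 0, 0, 0, 0, 0, 0, 0, 0, 0, 1, 0, 0, 1, 0, 0, 1, (-1)]))) (.leaf ([0, 0, (-1), 0, (-1), 0, 0, 0, 0, 0, 0, 0, 0, 0, 0, (-1), 0, 0, (-2), 0, 0, 1, (-2), 1]))) (.node (.leaf ([0, 0, 0, (-1), 0, 0, 0, 0, 0, 0, 0,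 0, 0, 0, 0, 1])) (.leaf ([1, 0, (-1), 1, (-1), 0, 0, 0, 0, 0, 0, 0, 0, (-1), 0, 1, 1, 0, 1, (-1), 0, (-1), (-1), 1])))) (.node (.node (.node (.leaf ([])) (.leaf ([(-2), (-1), 4, 0, (-5), 1, 0, 0, (-2), (-1), 2, 2, (-2), (-1), 2, (-1), 1, (-4), (-2), (-1), 2, 0, (-3), 2, 2, 1, 1, 0, (-1), 1]))) (.leaf ([0, 0, 0, 0, (-1), 0, 0, 0, 0, 0, 0, 0, 0, 0, 0, 0, 0, 0, 0, 0, 0, 0, 0, 0, 0, 0, 0, 0, (-1), (-1)]))) (.node (.leaf ([0, 0, 1, 0, 1, 0, 0, (-1), 0, 0, 0, 0, 0, 0, 0, 0, 0, 0, (-1), 0, 0, 1, (-1), 0, 0, 0, 0, 0, 1])) (.leaf ([0, 0, 0, 0, 0, 0, 0, 0, 0, 0, 0, 0, 0, 0, 0, 1]))))))) (.node (.node (.node (.node (.node (.node (.leaf ([])) (.leaf ([0, 0, 0, 0, 0, 0, 0, 0, 0, 0, 0, 0, 0, 0, 0, 0, 0, 0, 0, (-1), 0, 0, (-1), 1]))) (.leaf ([0, (-2), 3, 0, 0, 0, (-1), 0, (-1), 1, 0, 1, (-1), 0, 0, 0, 0, 1, 2, 1, 0, (-1), 2, (-1), (-1), (-1), (-1)]))) (.node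 (.leaf ([0, 0, 0, 0, 0, 0, 0, 0, 0, 0, 0, 0, 0, 0, 0, 0, 0, (-1), 0, 0, 1])) (.leaf ([0, (-1), 0, 1, 0, 0, 0, 0, 0, 0, (-1), 1, 0, (-1), 0, 1, 0, 1, 1, 0, 0, 0, 0, 0, (-1), 0, (-1), 1, 0, (-1)])))) (.node (.node (.node (.leaf ([])) (.leaf ([1, (-4), (-8), 10, (-5), 1, (-2), 1, 4, (-2), 1, 0, 5, (-7), 2, (-4), (-2), 6, 10, (-3), 2, (-3), 6, (-1), (-4), (-5), (-3), 0, 0, 2]))) (.leaf ([]))) (.node (.leaf ([2, (-2), (-5), 4, (-3), 1, 0, 1, 2, (-2), 1, 0, 2, (-3), 0, (-3), 0, 3, 4, (-1), 1, (-1), 3, (-1), (-2), (-3), (-1), 0, 0, 2])) (.leaf ([(-2), 0, (-5), 0, 1, (-1), 0, 0, 2, 0, 0, (-2), 2, 1, 0, (-1), 1, 2, 4, 1, 0, (-1), 3, (-3), 0, (-2), (-1), (-2)]))))) (.node (.node (.node (.node (.leaf ([0, 0, 0, 0, 0, 0, 0, 0, 0, 0, 0, 0, 0, 0, 0, 0, 1])) (.leaf ([1, (-2), 0, 2, 0, 0, 0, 0, 0, 0, 0, 1, 0, (-2), 0, (-1), 1, 0, 0, 1, 1, 1, 0, (-1), (-1), (-2),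 (-1)]))) (.leaf ([0, 0, (-1), 0, (-1), 0, 0, 0, 0, 0, 0, 0, 0, 0, 0, 1, 0, 1, (-1), 1, (-1), 1, 0, (-1)]))) (.node (.leaf ([0, 0, 0, 0, 0, 0, 0, 0, 0, 0, 0, 0, 0, 0, 0, 0, 0, 0, 1])) (.leaf ([0, (-2), (-4), 1, 0, 0, 0, 0, 2, 0, (-1), 0, 2, (-1), 0, (-1), (-1), 5, 4, (-1), 0, 0, 3, (-2), (-2), (-1), (-1), 0, (-1), (-1)])))) (.node (.node (.node (.leaf ([(-1), 1, 0, 2, 0, 0, (-1), 0, 0, (-1), 0, 0, 0, 0, 0, 0, 0, (-2), (-4), 1, 0, 1, (-2), 1, 1, 1, 1])) (.leaf ([0, 1, 4, (-2), 1, (-1), 0, 0, (-2), 1, 0, 0, (-2), 1, 0, 1, 1, (-5), (-3), 0, 1, 0, (-3), 2, 2, 1, 1, 0, 1, 1]))) (.leaf ([(-2), 4, 5, (-2), 3, (-1), 0, (-1), (-2), (-1), (-1), 0, (-2), 3, 0, 3, 1, (-3), (-4), 1, (-1), 1, (-3), 1, 2, 3, 1, 0, 0, (-2)]))) (.node (.leaf ([0, 0, 0, 0, 0, 0, 0, 0, 0, 0, 0, 0, 0, 0, 0, 0, 0, 0, 0, 0, 0, 0, 0, 0, 0, 0, 0, 0, 0, 1])) (.leaf ([0, 0, 0, 0, 0, 0,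 0, 0, 0, 0, 0, 0, 0, 0, 0, 0, 0, 0, 1])))))) (.node (.node (.node (.node (.node (.leaf ([])) (.leaf ([2, (-2), (-5), 4, (-3), 1, 0, 1, 2, (-2), 1, 0, 2, (-3), 0, (-3), (-2), 4, 4, (-1), 0, (-1), 5, (-1), (-2), (-3), (-1)]))) (.leaf ([0, 0, 0, 0, 0, 0, 0, 0, 0, 0, 0, 0, 0, 0, 0, (-1), (-1), 0, (-1), 0, 0, 1]))) (.node (.leaf ([])) (.leaf ([0, (-2), 4, 1, 0, 0, 0, 0, (-2), 0, 0, 3, (-2), (-1), 0, 0, 1, (-1), (-1), 0, 0, 0, (-3), 2, (-1), 0, (-1)])))) (.node (.node (.node (.leaf ([0, 0, 0, 0, 0, 0, 0, 0, 0, 0, 0, 0, 0, 0, 0, 0, 0, 0, 1])) (.leaf ([0, 0, 0, 0, 0, 0, 0, 0, 0, 0, 0, 0, 0, 0, 0, (-1), 0, 0, (-1), 0, 0, 1]))) (.leaf ([0, 0, 0, 0, 0, 0, 0, 0, 0, 0, 0, 0, 0, 0, 0, 0, 0, (-1), (-1), 1]))) (.node (.leaf ([])) (.leaf ([(-1), 1, 3, (-1), 0, 0, 0, 0, (-2), 0, 0, 1, (-2), 1, 0, 1, 0, (-3), (-4), 1, (-1), 1, (-2), 1, 2, 2, 1]))))) (.node (.node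 (.node (.node (.leaf ([0, 0, 0, 0, 0, 0, 0, 0, 0, 0, 0, 0, 0, 0, 0, (-1), 0, (-1), 0, 0, 1])) (.leaf ([0, 0, 0, 0, 0, 0, 0, 0, 0, 0, 0, 0, 0, 0, 0, 0, 0, 0, 1]))) (.leaf ([0, 0, 0, 0, 0, 0, 0, 0, 0, 0, 0, 0, 0, 0, 0, 0, 0, 0, 0, 0, 0, 0, 0, 0, 0, 0, 0, 1]))) (.node (.leaf ([0, 2, (-5), 3, 0, 0, 0, 0, 2, (-2), 0, (-2), 2, (-1), 0, (-1), 0, (-1), (-2), (-1), 1, 1, (-2), 1, 1, 0, 1])) (.leaf ([0, 0, (-1), 0, (-1), 0, 0, 0, 0, 0, 0, 0, 0, 0, 0, 0, 1, 0, (-1), 0, 0, 1, (-1), 0, 0, 0, 0, 0, (-1)])))) (.node (.node (.node (.leaf ([0, 0, 0, 0, 0, 0, 0, 0, 0, 0, 0, 0, 0, 0, 0, 0, 1])) (.leaf ([(-1), 1, 4, (-1), 0, 0, 0, 0, (-2), 0, 0, 1, (-2), 1, 0, 2, 1, (-3), (-2), 0, 0, 0, (-3), 2, 1, 2, 0, 1]))) (.leaf ([2, 0, (-4), (-1), 6, (-2), 0, 0, 2, 2, (-3), (-2), 2, 1, (-2), 0, (-1), 5, 3, 0, (-1), 0, 3, (-2), (-2), (-1), (-1), 0, 1, (-1)]))) (.node (.leaf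 ([0, 0, 0, 0, 0, 0, 0, 0, 0, 0, 0, 0, 0, 0, 0, 0, 0, 0, 1])) (.leaf ([0, 0, 0, (-1), 2, (-1), 1, (-1), 0, 0, 0, 0, 0, 0, 0, 1, 0, 1, 2, 0, 0, (-1), 2, (-1)]))))))))

/-- data -/
def rank4 : Trie (ℕ) := .node (.node (.node (.node (.node (.node (.node (.node (.leaf 0) (.leaf 63)) (.leaf 114)) (.node (.leaf 0) (.leaf 43))) (.node (.node (.node (.leaf 3) (.leaf 100)) (.leaf 78)) (.node (.leaf 66) (.leaf 90)))) (.node (.node (.node (.node (.leaf 0) (.leaf 16)) (.leaf 40)) (.node (.leaf 0) (.leaf 93))) (.node (.node (.node (.leaf 0) (.leaf 117)) (.leaf 26)) (.node (.leaf 51) (.leaf 56))))) (.node (.node (.node (.node (.node (.leaf 0) (.leaf 41)) (.leaf 73)) (.node (.leaf 50) (.leaf 61))) (.node (.node (.node (.leaf 0) (.leaf 106)) (.leaf 0)) (.node (.leaf 19) (.leaf 87)))) (.node (.node (.node (.node (.leaf 0) (.leaf 84)) (.leaf 44)) (.node (.leaf 0)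 (.leaf 105))) (.node (.node (.node (.leaf 5) (.leaf 116)) (.leaf 128)) (.node (.leaf 0) (.leaf 104)))))) (.node (.node (.node (.node (.node (.node (.leaf 0) (.leaf 11)) (.leaf 85)) (.node (.leaf 0) (.leaf 27))) (.node (.node (.node (.leaf 0) (.leaf 126)) (.leaf 20)) (.node (.leaf 80) (.leaf 94)))) (.node (.node (.node (.node (.leaf 49) (.leaf 88)) (.leaf 103)) (.node (.leaf 35) (.leaf 45))) (.node (.node (.node (.leaf 52) (.leaf 108)) (.leaf 123)) (.node (.leaf 23) (.leaf 32))))) (.node (.node (.node (.node (.node (.leaf 0) (.leaf 112)) (.leaf 7)) (.node (.leaf 0) (.leaf 81))) (.node (.node (.node (.leaf 33) (.leaf 12)) (.leaf 53)) (.node (.leaf 64) (.leaf 74)))) (.node (.node (.node (.node (.leaf 2) (.leaf 34)) (.leaf 25)) (.node (.leaf 15) (.leaf 86))) (.node (.node (.node (.leaf 48) (.leaf 75)) (.leaf 95)) (.node (.leaf 30) (.leaf 46)))))))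 (.node (.node (.node (.node (.node (.node (.node (.leaf 0) (.leaf 107)) (.leaf 60)) (.node (.leaf 0) (.leaf 31))) (.node (.node (.node (.leaf 17) (.leaf 127)) (.leaf 0)) (.node (.leaf 0) (.leaf 72)))) (.node (.node (.node (.node (.leaf 0) (.leaf 118)) (.leaf 62)) (.node (.leaf 55) (.leaf 9))) (.node (.node (.node (.leaf 4) (.leaf 91)) (.leaf 0)) (.node (.leaf 36) (.leaf 115))))) (.node (.node (.node (.node (.node (.leaf 6) (.leaf 89)) (.leaf 59)) (.node (.leaf 18) (.leaf 125))) (.node (.node (.node (.leaf 54) (.leaf 96)) (.leaf 0)) (.node (.leaf 0) (.leaf 119)))) (.node (.node (.node (.node (.leaf 0) (.leaf 70)) (.leaf 57)) (.node (.leaf 8) (.leaf 98))) (.node (.node (.node (.leaf 1) (.leaf 121)) (.leaf 68)) (.node (.leaf 83) (.leaf 10)))))) (.node (.node (.node (.node (.node (.node (.leaf 0) (.leaf 58)) (.leaf 77)) (.node (.leaf 38) (.leaf 101)))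 (.node (.node (.node (.leaf 0) (.leaf 129)) (.leaf 0)) (.node (.leaf 113) (.leaf 124)))) (.node (.node (.node (.node (.leaf 13) (.leaf 97)) (.leaf 69)) (.node (.leaf 22) (.leaf 120))) (.node (.node (.node (.leaf 76) (.leaf 110)) (.leaf 111)) (.node (.leaf 67) (.leaf 28))))) (.node (.node (.node (.node (.node (.leaf 0) (.leaf 122)) (.leaf 42)) (.node (.leaf 0) (.leaf 99))) (.node (.node (.node (.leaf 21) (.leaf 47)) (.leaf 37)) (.node (.leaf 0) (.leaf 92)))) (.node (.node (.node (.node (.leaf 39) (.leaf 29)) (.leaf 65)) (.node (.leaf 79) (.leaf 82))) (.node (.node (.node (.leaf 14) (.leaf 102)) (.leaf 109)) (.node (.leaf 24) (.leaf 71)))))))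

/-- data -/
def tree4 : Trie (ℕ × ℕ) := .node (.node (.node (.node (.node (.leaf (0, 0)) (.leaf (6, 2))) (.node (.leaf (1, 3)) (.leaf (10, 3)))) (.node (.node (.leaf (0, 3)) (.leaf (7, 4))) (.node (.leaf (3, 3)) (.leaf (16, 3))))) (.node (.node (.node (.leaf (0, 1)) (.leaf (6, 4))) (.node (.leaf (2, 2)) (.leaf (12, 0)))) (.node (.node (.leaf (1, 1)) (.leaf (8, 4))) (.node (.leaf (4, 0)) (.leaf (17, 0)))))) (.node (.node (.node (.node (.leaf (0, 0)) (.leaf (6, 3))) (.node (.leaf (1, 4)) (.leaf (11, 0)))) (.node (.node (.leaf (0, 4)) (.leaf (8, 0))) (.node (.leaf (3, 4)) (.leaf (16, 4))))) (.node (.node (.node (.leaf (0, 2)) (.leaf (7, 3))) (.node (.leaf (2, 3)) (.leaf (16, 1)))) (.node (.node (.leaf (1, 2)) (.leaf (9, 4))) (.node (.leaf (4, 4)) (.leaf (17, 4))))))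

/-- data -/
def cert4 : Trie (ℕ × ℕ × ℕ) := .node (.node (.node (.node (.node (.node (.node (.node (.leaf (0, 0, 1)) (.leaf (13, 17, 3))) (.leaf (17, 0, 2))) (.node (.leaf (9, 3, 2)) (.leaf (16, 13, 3)))) (.node (.node (.leaf (7, 0, 1)) (.leaf (10, 9, 3))) (.node (.leaf (12, 1, 2)) (.leaf (19, 10, 0))))) (.node (.node (.node (.leaf (5, 8, 1)) (.leaf (8, 13, 0))) (.node (.leaf (10, 12, 1)) (.leaf (18, 8, 4)))) (.node (.node (.leaf (8, 5, 1)) (.leaf (11, 28, 3))) (.node (.leaf (13, 3, 3)) (.leaf (10, 19, 1)))))) (.node (.node (.node (.node (.leaf (4, 0, 1)) (.leaf (5, 15, 0))) (.node (.leaf (9, 16, 2)) (.leaf (17, 2, 2)))) (.node (.node (.leaf (8, 0, 1)) (.leaf (11, 14, 4))) (.node (.leaf (12, 8, 3)) (.leaf (7, 22, 1))))) (.node (.node (.node (.leaf (6, 0, 1)) (.leaf (9, 13, 0))) (.node (.leaf (11, 8, 1)) (.leaf (18, 19, 0)))) (.node (.node (.leaf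 (8, 16, 1)) (.leaf (16, 3, 3))) (.node (.leaf (15, 1, 2)) (.leaf (11, 21, 4))))))) (.node (.node (.node (.node (.node (.leaf (2, 0, 1)) (.leaf (19, 0, 2))) (.node (.leaf (9, 7, 2)) (.leaf (16, 20, 0)))) (.node (.node (.leaf (7, 2, 1)) (.leaf (11, 9, 4))) (.node (.leaf (12, 4, 3)) (.leaf (19, 22, 5))))) (.node (.node (.node (.leaf (5, 12, 1)) (.leaf (8, 18, 1))) (.node (.leaf (11, 5, 4)) (.leaf (18, 11, 1)))) (.node (.node (.leaf (8, 7, 1)) (.leaf (13, 8, 2))) (.node (.leaf (14, 0, 2)) (.leaf (11, 16, 2)))))) (.node (.node (.node (.node (.leaf (5, 4, 1)) (.leaf (7, 15, 1))) (.node (.leaf (10, 1, 2)) (.leaf (18, 4, 1)))) (.node (.node (.leaf (8, 2, 1)) (.leaf (11, 25, 4))) (.node (.leaf (12, 17, 3)) (.leaf (9, 23, 0))))) (.node (.node (.node (.leaf (6, 3, 1)) (.leaf (10, 5, 1))) (.node (.leaf (11, 17, 1)) (.leaf (19, 3, 5)))) (.node (.node (.leaf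 (9, 1, 2)) (.leaf (16, 6, 6))) (.node (.leaf (16, 2, 2)) (.leaf (11, 29, 0)))))))) (.node (.node (.node (.node (.node (.node (.leaf (1, 0, 1)) (.leaf (18, 0, 2))) (.node (.leaf (9, 6, 2)) (.leaf (16, 15, 6)))) (.node (.node (.leaf (7, 1, 1)) (.leaf (11, 3, 4))) (.node (.leaf (12, 3, 1)) (.leaf (19, 18, 7))))) (.node (.node (.node (.leaf (5, 11, 1)) (.leaf (8, 14, 1))) (.node (.leaf (11, 4, 1)) (.leaf (18, 10, 2)))) (.node (.node (.leaf (8, 6, 1)) (.leaf (13, 7, 3))) (.node (.leaf (13, 6, 5)) (.leaf (11, 10, 2)))))) (.node (.node (.node (.node (.leaf (5, 0, 1)) (.leaf (6, 26, 1))) (.node (.leaf (10, 0, 2)) (.leaf (17, 6, 2)))) (.node (.node (.leaf (8, 1, 1)) (.leaf (11, 22, 0))) (.node (.leaf (12, 11, 3)) (.leaf (9, 14, 2))))) (.node (.node (.node (.leaf (6, 1, 1)) (.leaf (10, 2, 2))) (.node (.leaf (11, 11, 1)) (.leaf (18, 31, 0)))) (.node (.node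 (.leaf (9, 0, 2)) (.leaf (16, 4, 3))) (.node (.leaf (16, 0, 2)) (.leaf (11, 23, 1))))))) (.node (.node (.node (.node (.node (.leaf (3, 0, 1)) (.leaf (19, 1, 3))) (.node (.leaf (9, 10, 2)) (.leaf (16, 22, 4)))) (.node (.node (.leaf (7, 6, 1)) (.leaf (11, 12, 2))) (.node (.leaf (12, 7, 3)) (.leaf (19, 31, 0))))) (.node (.node (.node (.leaf (5, 17, 1)) (.leaf (9, 5, 0))) (.node (.leaf (11, 7, 4)) (.leaf (18, 13, 3)))) (.node (.node (.leaf (8, 10, 1)) (.leaf (14, 10, 5))) (.node (.leaf (15, 0, 2)) (.leaf (11, 20, 2)))))) (.node (.node (.node (.node (.leaf (5, 5, 1)) (.leaf (8, 9, 1))) (.node (.leaf (10, 4, 1)) (.leaf (18, 5, 3)))) (.node (.node (.leaf (8, 3, 1)) (.leaf (11, 26, 5))) (.node (.leaf (13, 1, 4)) (.leaf (10, 8, 1))))) (.node (.node (.node (.leaf (6, 16, 1)) (.leaf (10, 6, 2))) (.node (.leaf (12, 0, 2)) (.leaf (19, 7, 7)))) (.node (.node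 (.leaf (9, 2, 2)) (.leaf (16, 9, 3))) (.node (.leaf (16, 10, 7)) (.leaf (13, 15, 3))))))))

/-- data -/
def pot4 : Trie (Vec) := .node (.node (.node (.node (.node (.leaf ([])) (.leaf ([12, 12]))) (.node (.leaf ([6, 6])) (.leaf ([6, 6])))) (.node (.node (.leaf ([])) (.leaf ([12, 12]))) (.node (.leaf ([6, 6])) (.leaf ([12, 12]))))) (.node (.node (.node (.leaf ([])) (.leaf ([6, 6]))) (.node (.leaf ([6, 6])) (.leaf ([12, 12])))) (.node (.node (.leaf ([6, 6])) (.leaf ([6, 6]))) (.node (.leaf ([6, 6])) (.leaf ([12, 12])))))) (.node (.node (.node (.node (.leaf ([6, 6])) (.leaf ([6, 6]))) (.node (.leaf ([6, 6])) (.leaf ([6, 6])))) (.node (.node (.leaf ([])) (.leaf ([12, 12]))) (.node (.leaf ([6, 6])) (.leaf ([12, 12]))))) (.node (.node (.node (.leaf ([6, 6])) (.leaf ([12, 12]))) (.node (.leaf ([])) (.leaf ([12, 12])))) (.node (.node (.leaf ([12, 12]))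 (.leaf ([6, 6]))) (.node (.leaf ([])) (.leaf ([6, 6]))))))

/-- the table -/
def table4 : Table where
  size := 32
  ngen := 5
  next g x := next4.getK (5 * g + x)
  prev g x := prev4.getK (5 * g + x)
  lab g x := lab4.getK (5 * g + x)
  val g x := val4.getK (5 * g + x)
  rank g x := rank4.getK (5 * g + x)
  tree g := tree4.getK g
  cert j := cert4.getK j
  nded := 129
  rels := [⟨[(4, true), (4, true)], [(0, true)], []⟩,
    ⟨[(1, true), (4, true), (2, false), (0, false)], [(1, true)], []⟩,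
    ⟨[(2, true), (1, true), (4, false), (0, false)], [(2, true)], []⟩,
    ⟨[(4, true), (0, true), (4, false), (0, false)], [(3, true)], []⟩,
    ⟨[(4, true), (3, true), (4, false), (3, false)], [(4, true)], []⟩,
    ⟨[(0, true), (0, true)], [], [0, 0, 0, 0, 0, 0, 0, 0, 0, 0, 0, 0, 0, 0, 0, 1]⟩,
    ⟨[(1, true), (1, true)], [], [0, 0, 0, 0, 0, 0, 0, 0, 0, 0, 0, 0, 0, 0, 0, 0, 1]⟩,
    ⟨[(2, true), (2, true)], [], [0, 0, 0, 0, 0, 0, 0, 0, 0, 0, 0, 0, 0, 0, 0, 0, 0, 1]⟩,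
    ⟨[(3, true), (3, true)], [], [0, 0, 0, 0, 0, 0, 0, 0, 0, 0, 0, 0, 0, 0, 0, 0, 0, 0, 1]⟩,
    ⟨[(2, true), (3, true), (2, true), (3, true)], [], [0, 0, 0, 0, 0, 0, 0, 0, 0, 0, 0, 0, 0, 0, 0, 0, 0, 0, 0, 1]⟩,
    ⟨[(0, true), (2, true), (0, true), (2, true)], [], [0, 0, 0, 0, 0, 0, 0, 0, 0, 0, 0, 0, 0, 0, 0, 0, 0, 0, 0, 0, 1]⟩,
    ⟨[(0, true), (1, true), (0, true), (3, true), (1, true), (3, true)], [], [0, 0, 0, 0, 0, 0, 0, 0, 0, 0, 0, 0, 0, 0, 0, 0, 0, 0, 0, 0, 0, 1]⟩,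
    ⟨[(0, true), (1, true), (0, true), (1, true)], [], [0, 0, 0, 0, 0, 0, 0, 0, 0, 0, 0, 0, 0, 0, 0, 0, 0, 0, 0, 0, 0, 0, 1]⟩,
    ⟨[(0, true), (1, true), (3, true), (2, true), (0, true), (1, true), (3, true), (2, true)], [], [0, 0, 0, 0, 0, 0, 0, 0, 0, 0, 0, 0, 0, 0, 0, 0, 0, 0, 0, 0, 0, 0, 0, 1]⟩,
    ⟨[(2, true), (4, true), (4, true), (2, true), (4, true), (4, true)], [], [0, 0, 0, 0, 0, 0, 0, 0, 0, 0, 0, 0, 0, 0, 0, 0, 0, 0, 0, 0, 0, 0, 0, 0, 1]⟩,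
    ⟨[(2, true), (4, true), (0, true), (4, false), (2, false), (4, true), (0, false), (4, false)], [], [0, 0, 0, 0, 0, 0, 0, 0, 0, 0, 0, 0, 0, 0, 0, 0, 0, 0, 0, 0, 0, 0, 0, 0, 0, 1]⟩,
    ⟨[(3, true), (0, true), (3, true), (4, false), (4, false), (0, false), (4, false), (4, false)], [], [0, 0, 0, 0, 0, 0, 0, 0, 0, 0, 0, 0, 0, 0, 0, 0, 0, 0, 0, 0, 0, 0, 0, 0, 0, 0, 1]⟩,
    ⟨[(3, true), (4, true), (4, true), (0, false), (3, false), (0, false), (4, false), (4, false)], [], [0, 0, 0, 0, 0, 0, 0, 0, 0, 0, 0, 0, 0, 0, 0, 0, 0, 0, 0, 0, 0, 0, 0, 0, 0, 0, 0, 1]⟩,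
    ⟨[(0, true), (4, true), (3, true), (4, false), (3, false), (0, false), (3, true), (4, true), (3, false), (4, false)], [], [0, 0, 0, 0, 0, 0, 0, 0, 0, 0, 0, 0, 0, 0, 0, 0, 0, 0, 0, 0, 0, 0, 0, 0, 0, 0, 0, 0, 1]⟩,
    ⟨[(1, true), (3, true), (4, true), (3, false), (4, false), (1, false), (3, true), (4, true), (3, false), (4, false)], [], [0, 0, 0, 0, 0, 0, 0, 0, 0, 0, 0, 0, 0, 0, 0, 0, 0, 0, 0, 0, 0, 0, 0, 0, 0, 0, 0, 0, 0, 1]⟩]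
  pot g := pot4.getK g
  innerSize := 32
  innerGen := 5

/-- the table with its checks -/
def level4 : CfsgLib.Sporadic.ChainLevel where
  table := table4
  gexp := [[6, 6], [0, 0], [6, 6], [0, 0], [0, 0]]
  perm := [0x15c56154450d43d12c4d13c301404c1443c120490e4311504110c3f110401082f1484a0e83b11c320dc3314c340d8381184e0f82e0b42c0ac2a0a4190241107c2108c0409020094100701d034050a01505c1306014058030981e0380f06c0602c0709c080280c068220480200400, 0x15c561544d0e4411244513c3c1504c120301444b0d43f1403d10c3114840118331104e0e03214c3b0dc2f11c340f83a1084a0d82e0b42c0ac2a0a421034150741908c100a020070040941f024130901105c050981406807060220300609c0f02c0306c080480e0581e0280200400, 0x15c561543d0ec4511c4213c490fc4c0e438138301442f1483610c500cc40134311503214c3512c4a0dc440e8341043c0f8481182e0b42c0ac2a0a41103c1906c1608c1d04c200340c08804094030980a05c2401c14084050a00609c0907c1e02c1803808054100481c0680200400,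 0x15c5615453150491043c13c450e44c0fc36148460cc481383810c321444012c350ec500f431134440dc4a0f83411c420e82f0c02e0b42c0ac2a0a4270a01d0541008c190342004c0a0981a01c1c0880c05c060941407c0903c24044050841802c1e0480806c16038030100200400, 0x15c56154410c84d14c4613c380c4370d43a0e43c120500fc451002f150430f8440cc3b11c4a1244e1305212c340f4300d8511082e0b42c0ac2a0a4150182109c1a08c0c0140b0240e034100702404c19050030a0170481801c0f06c1e074220802607c0804404028250580200400]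
  pinv := [0x15c56154450d43d12c4d13c301404c1443c120490e4311504110c3f110401082f1484a0e83b11c320dc3314c340d8381184e0f82e0b42c0ac2a0a4190241107c2108c0409020094100701d034050a01505c1306014058030981e0380f06c0602c0709c080280c068220480200400, 0x15c561544d0e4411244513c3c1504c120301444b0d43f1403d10c3114840118331104e0e03214c3b0dc2f11c340f83a1084a0d82e0b42c0ac2a0a421034150741908c100a020070040941f024130901105c050981406807060220300609c0f02c0306c080480e0581e0280200400, 0x15c561543d0ec4511c4213c490fc4c0e438138301442f1483610c500cc40134311503214c3512c4a0dc440e8341043c0f8481182e0b42c0ac2a0a41103c1906c1608c1d04c200340c08804094030980a05c2401c14084050a00609c0907c1e02c1803808054100481c0680200400, 0x15c5615453150491043c13c450e44c0fc36148460cc481383810c321444012c350ec500f431134440dc4a0f83411c420e82f0c02e0b42c0ac2a0a4270a01d0541008c190342004c0a0981a01c1c0880c05c060941407c0903c24044050841802c1e0480806c16038030100200400,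 0x15c5615441144360c04613c38148370d43a0e4470ec501103e1002f150431143f0cc480f04a1244e1303112c340f453134321082e0b42c0ac2a0a4150940a0101a08c0c0980b0240e0341b03c2406012050030a0170641301c1c0401e074220800507c0804427084060580200400]
  defs := [[(4, true), (4, true)], [(1, true), (4, true), (2, false), (0, false)], [(2, true), (1, true), (4, false), (0, false)], [(4, true), (0, true), (4, false), (0, false)], [(4, true), (3, true), (4, false), (3, false)]]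
  eqs := [(5, 13, [0, 0, 0, 0, 0, 0, 0, 0, 0, 0, 0, 0, 0, 0, 0, 0, 0, 0, 0, 0, 0, 0, 0, 0, 0, 2]), (18, 1, [0, 0, 0, 0, 0, 0, 0, 0, 0, 0, 0, 0, 0, 0, 0, 0, 0, 0, 0, 0, 0, 0, 0, 0, 0, 0, 0, 0, (-2)]), (19, 4, [0, 0, 0, 0, 0, 0, 0, 0, 0, 0, 0, 0, 0, 0, 0, 0, 0, 0, 0, 0, 0, 0, 0, 0, 0, 0, 0, 0, 0, (-2)]), (17, 4, [0, 0, 0, 0, 0, 0, 0, 0, 0, 0, 0, 0, 0, 0, 0, (-2), 0, 0, 0, 0, 0, 0, 0, 0, 0, 0, 0, (-2)]), (6, 4, [0, 0, 0, 0, 0, 0, 0, 0, 0, 0, 0, 0, 0, 0, 0, 0, 0, 0, 2, 0, 0, (-2), 2]), (6, 10, [0, 2, 0, 2, 0, 0, 0, 0, 0, (-2)]), (10, 17, [0, 0, 2, 0, 2, 0, 0, (-2)]), (13, 5, [0, 0, 0, 0, 0, 0, 0, 0, 0, 0, 0, 0, 0, 0, 0, 0, 0, 0, 0, 2, 0, 0, 2, (-2)]), (13, 9, [2, 2, 0, 0, 0, 0, 0, 0, 0, 0, 0, (-2)]), (14, 8, [0, 0, 0, 1, (-1), 0, 0, 0, 0, 0, 0, 0, 0, (-1), 1, 0, 0, 0, 0, 2, 0, 0, 0, 0, (-2), 0, (-2)]), (17, 15, [(-2), 0, 0, 1, 1, (-2), 0, 0, 0, 0,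 0, 0, 0, 1, 1, (-2), 0, 0, 0, 0, 0, 0, 0, 0, 0, 0, 0, (-2)]), (18, 22, [2, 0, 0, 1, (-1), 1, 0, 0, 0, 0, 0, 0, 0, (-2), 0, 2, 0, 0, 0, 0, 0, 0, 0, 0, 0, 0, 0, 2, (-2)]), (14, 5, [0, 1, 1, 2, 0, 0, (-2), 0, 0, 0, 0, (-1), 1, 0, 0, 0, 0, (-2), (-2), 2]), (15, 2, [(-1), 1, (-1), 1, 0, 0, 1, 0, 0, (-1), 0, 0, 0, (-1), 0, 0, 0, (-2), 0, (-2), 0, 0, (-2), 2, 2]), (11, 15, [2, (-3), (-3), 0, 0, 0, (-2), 3, 2, 2, (-1), 0, 0, 0, (-2), 0, 0, 0, 0, 0, 0, 0, 0, 0, 0, (-2)]), (15, 26, [(-2), 0, (-6), (-6), (-2), (-2), 6, 1, 0, 0, 1, (-1), (-1), 2, 2, (-4), 0, (-2), 0, (-2), 2, 0, 0, 0, 2, 0, 2, (-2), 2, 2])]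
  pts := [3]

end CfsgLib.Sporadic.MultTwoMono
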