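import Mathlib
import Cfsg.Agent.Lib.Sporadic.ChainCertificate
import Cfsg.Agent.Lib.Schur.TrieFast

/-!
# Coset table 5 of a chain
-/

set_option autoImplicit false
set_option maxRecDepth 100000
set_option maxHeartbeats 0
set_option Elab.async false

noncomputable section

namespace CfsgLib.Sporadic.MultTwoMono

open CfsgLib.Schur.Cert

/-- data -/
def next5 : Trie (ℕ) := .node (.node (.node (.node (.node (.node (.node (.node (.leaf 1) (.leaf 14)) (.leaf 2)) (.node (.leaf 16) (.leaf 26))) (.node (.node (.node (.leaf 10) (.leaf 17)) (.leaf 10)) (.node (.leaf 21) (.leaf 11)))) (.node (.node (.node (.node (.leaf 8) (.leaf 20)) (.leaf 5)) (.node (.leaf 4) (.leaf 7))) (.node (.node (.node (.leaf 15) (.leaf 24)) (.leaf 6)) (.node (.leaf 4) (.leaf 28))))) (.node (.node (.node (.node (.node (.leaf 5) (.leaf 17)) (.leaf 3)) (.node (.leaf 16) (.leaf 14))) (.node (.node (.node (.leaf 8) (.leaf 20)) (.leaf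 27)) (.node (.leaf 2) (.leaf 14)))) (.node (.node (.node (.node (.leaf 10) (.leaf 24)) (.leaf 24)) (.node (.leaf 21) (.leaf 9))) (.node (.node (.node (.leaf 15) (.leaf 29)) (.leaf 27)) (.node (.leaf 18) (.leaf 11)))))) (.node (.node (.node (.node (.node (.node (.leaf 3) (.leaf 22)) (.leaf 22)) (.node (.leaf 18) (.leaf 7))) (.node (.node (.node (.leaf 13) (.leaf 31)) (.leaf 6)) (.node (.leaf 16) (.leaf 30)))) (.node (.node (.node (.node (.leaf 6) (.leaf 31)) (.leaf 3)) (.node (.leaf 19) (.leaf 28))) (.node (.node (.node (.leaf 12) (.leaf 22)) (.leaf 12)) (.node (.leaf 2) (.leaf 30))))) (.node (.node (.node (.node (.node (.leaf 6) (.leaf 31)) (.leaf 20)) (.node (.leaf 19) (.leaf 9))) (.node (.node (.node (.leaf 13) (.leaf 31)) (.leaf 8)) (.node (.leaf 23) (.leaf 30)))) (.node (.node (.node (.node (.leaf 12) (.leaf 31)) (.leaf 5)) (.node (.leaf 18) (.leaf 26))) (.node (.node (.node (.leaf 2) (.leaf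 27)) (.leaf 6)) (.node (.leaf 23) (.leaf 30))))))) (.node (.node (.node (.node (.node (.node (.node (.leaf 2) (.leaf 13)) (.leaf 19)) (.node (.leaf 17) (.leaf 8))) (.node (.node (.node (.leaf 0) (.leaf 25)) (.leaf 7)) (.node (.leaf 1) (.leaf 10)))) (.node (.node (.node (.node (.leaf 9) (.leaf 18)) (.leaf 25)) (.node (.leaf 17) (.leaf 15))) (.node (.node (.node (.leaf 9) (.leaf 23)) (.leaf 28)) (.node (.leaf 22) (.leaf 15))))) (.node (.node (.node (.node (.node (.leaf 0) (.leaf 16)) (.leaf 25)) (.node (.leaf 1) (.leaf 27))) (.node (.node (.node (.leaf 11) (.leaf 19)) (.leaf 11)) (.node (.leaf 22) (.leaf 12)))) (.node (.node (.node (.node (.leaf 11) (.leaf 21)) (.leaf 25)) (.node (.leaf 5) (.leaf 8))) (.node (.node (.node (.leaf 0) (.leaf 28)) (.leaf 28)) (.node (.leaf 5) (.leaf 29)))))) (.node (.node (.node (.node (.node (.node (.leaf 4) (.leaf 19)) (.leaf 4)) (.node (.leaf 3) (.leaf 29))) (.node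 (.node (.node (.leaf 14) (.leaf 21)) (.leaf 26)) (.node (.leaf 3) (.leaf 27)))) (.node (.node (.node (.node (.leaf 0) (.leaf 16)) (.leaf 21)) (.node (.leaf 1) (.leaf 29))) (.node (.node (.node (.leaf 14) (.leaf 30)) (.leaf 9)) (.node (.leaf 24) (.leaf 12))))) (.node (.node (.node (.node (.node (.leaf 7) (.leaf 23)) (.leaf 23)) (.node (.leaf 20) (.leaf 29))) (.node (.node (.node (.leaf 0) (.leaf 25)) (.leaf 26)) (.node (.leaf 17) (.leaf 10)))) (.node (.node (.node (.node (.leaf 7) (.leaf 18)) (.leaf 4)) (.node (.leaf 20) (.leaf 13))) (.node (.node (.node (.leaf 1) (.leaf 26)) (.leaf 13)) (.node (.leaf 24) (.leaf 15)))))))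

/-- data -/
def prev5 : Trie (ℕ) := .node (.node (.node (.node (.node (.node (.node (.node (.leaf 1) (.leaf 14)) (.leaf 2)) (.node (.leaf 16) (.leaf 26))) (.node (.node (.node (.leaf 10) (.leaf 17)) (.leaf 10)) (.node (.leaf 21) (.leaf 11)))) (.node (.node (.node (.node (.leaf 8) (.leaf 20)) (.leaf 5)) (.node (.leaf 4) (.leaf 7))) (.node (.node (.node (.leaf 15) (.leaf 24)) (.leaf 6)) (.node (.leaf 4) (.leaf 28))))) (.node (.node (.node (.node (.node (.leaf 5) (.leaf 17)) (.leaf 3)) (.node (.leaf 16) (.leaf 14))) (.node (.node (.node (.leaf 8) (.leaf 20)) (.leaf 27)) (.node (.leaf 2) (.leaf 14)))) (.node (.node (.node (.node (.leaf 10) (.leaf 24)) (.leaf 24)) (.node (.leaf 21) (.leaf 9))) (.node (.node (.node (.leaf 15) (.leaf 29)) (.leaf 27)) (.node (.leaf 18) (.leaf 11)))))) (.node (.node (.node (.node (.node (.node (.leaf 3) (.leaf 22)) (.leaf 22)) (.node (.leaf 18) (.leaf 7))) (.node (.node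 (.node (.leaf 13) (.leaf 31)) (.leaf 6)) (.node (.leaf 16) (.leaf 30)))) (.node (.node (.node (.node (.leaf 6) (.leaf 31)) (.leaf 3)) (.node (.leaf 19) (.leaf 28))) (.node (.node (.node (.leaf 12) (.leaf 22)) (.leaf 12)) (.node (.leaf 2) (.leaf 30))))) (.node (.node (.node (.node (.node (.leaf 6) (.leaf 31)) (.leaf 20)) (.node (.leaf 19) (.leaf 9))) (.node (.node (.node (.leaf 13) (.leaf 31)) (.leaf 8)) (.node (.leaf 23) (.leaf 30)))) (.node (.node (.node (.node (.leaf 12) (.leaf 31)) (.leaf 5)) (.node (.leaf 18) (.leaf 26))) (.node (.node (.node (.leaf 2) (.leaf 27)) (.leaf 6)) (.node (.leaf 23) (.leaf 30))))))) (.node (.node (.node (.node (.node (.node (.node (.leaf 2) (.leaf 13)) (.leaf 19)) (.node (.leaf 17) (.leaf 8))) (.node (.node (.node (.leaf 0) (.leaf 25)) (.leaf 7)) (.node (.leaf 1) (.leaf 10)))) (.node (.node (.node (.node (.leaf 9) (.leaf 18)) (.leaf 25)) (.node (.leaf 17) (.leaf 15)))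 (.node (.node (.node (.leaf 9) (.leaf 23)) (.leaf 28)) (.node (.leaf 22) (.leaf 15))))) (.node (.node (.node (.node (.node (.leaf 0) (.leaf 16)) (.leaf 25)) (.node (.leaf 1) (.leaf 27))) (.node (.node (.node (.leaf 11) (.leaf 19)) (.leaf 11)) (.node (.leaf 22) (.leaf 12)))) (.node (.node (.node (.node (.leaf 11) (.leaf 21)) (.leaf 25)) (.node (.leaf 5) (.leaf 8))) (.node (.node (.node (.leaf 0) (.leaf 28)) (.leaf 28)) (.node (.leaf 5) (.leaf 29)))))) (.node (.node (.node (.node (.node (.node (.leaf 4) (.leaf 19)) (.leaf 4)) (.node (.leaf 3) (.leaf 29))) (.node (.node (.node (.leaf 14) (.leaf 21)) (.leaf 26)) (.node (.leaf 3) (.leaf 27)))) (.node (.node (.node (.node (.leaf 0) (.leaf 16)) (.leaf 21)) (.node (.leaf 1) (.leaf 29))) (.node (.node (.node (.leaf 14) (.leaf 30)) (.leaf 9)) (.node (.leaf 24) (.leaf 12))))) (.node (.node (.node (.node (.node (.leaf 7) (.leaf 23)) (.leaf 23)) (.node (.leaf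 20) (.leaf 29))) (.node (.node (.node (.leaf 0) (.leaf 25)) (.leaf 26)) (.node (.leaf 17) (.leaf 10)))) (.node (.node (.node (.node (.leaf 7) (.leaf 18)) (.leaf 4)) (.node (.leaf 20) (.leaf 13))) (.node (.node (.node (.leaf 1) (.leaf 26)) (.leaf 13)) (.node (.leaf 24) (.leaf 15)))))))

/-- data -/
def lab5 : Trie (Word) := .node (.node (.node (.node (.node (.node (.node (.node (.leaf ([])) (.leaf ([]))) (.leaf ([]))) (.node (.leaf ([])) (.leaf ([])))) (.node (.node (.node (.leaf ([])) (.leaf ([]))) (.leaf ([]))) (.node (.leaf ([])) (.leaf ([]))))) (.node (.node (.node (.node (.leaf ([])) (.leaf ([]))) (.leaf ([]))) (.node (.leaf ([])) (.leaf ([])))) (.node (.node (.node (.leaf ([])) (.leaf ([]))) (.leaf ([]))) (.node (.leaf ([])) (.leaf ([])))))) (.node (.node (.node (.node (.node (.leaf ([])) (.leaf ([]))) (.leaf ([]))) (.node (.leaf ([])) (.leaf ([])))) (.node (.node (.node (.leaf ([])) (.leaf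 ([]))) (.leaf ([]))) (.node (.leaf ([])) (.leaf ([]))))) (.node (.node (.node (.node (.leaf ([])) (.leaf ([]))) (.leaf ([]))) (.node (.leaf ([])) (.leaf ([])))) (.node (.node (.node (.leaf ([])) (.leaf ([]))) (.leaf ([]))) (.node (.leaf ([])) (.leaf ([]))))))) (.node (.node (.node (.node (.node (.node (.leaf ([])) (.leaf ([]))) (.leaf ([]))) (.node (.leaf ([])) (.leaf ([])))) (.node (.node (.node (.leaf ([])) (.leaf ([]))) (.leaf ([]))) (.node (.leaf ([])) (.leaf ([]))))) (.node (.node (.node (.node (.leaf ([])) (.leaf ([]))) (.leaf ([]))) (.node (.leaf ([])) (.leaf ([])))) (.node (.node (.node (.leaf ([])) (.leaf ([]))) (.leaf ([]))) (.node (.leaf ([])) (.leaf ([])))))) (.node (.node (.node (.node (.node (.leaf ([])) (.leaf ([]))) (.leaf ([]))) (.node (.leaf ([])) (.leaf ([])))) (.node (.node (.node (.leaf ([])) (.leaf ([]))) (.leaf ([]))) (.node (.leaf ([])) (.leaf ([]))))) (.node (.node (.node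 (.node (.leaf ([])) (.leaf ([]))) (.leaf ([]))) (.node (.leaf ([])) (.leaf ([])))) (.node (.node (.node (.leaf ([])) (.leaf ([]))) (.leaf ([]))) (.node (.leaf ([])) (.leaf ([])))))))) (.node (.node (.node (.node (.node (.node (.node (.leaf ([])) (.leaf ([]))) (.leaf ([]))) (.node (.leaf ([])) (.leaf ([])))) (.node (.node (.node (.leaf ([])) (.leaf ([]))) (.leaf ([]))) (.node (.leaf ([])) (.leaf ([]))))) (.node (.node (.node (.node (.leaf ([])) (.leaf ([]))) (.leaf ([]))) (.node (.leaf ([])) (.leaf ([])))) (.node (.node (.node (.leaf ([])) (.leaf ([]))) (.leaf ([]))) (.node (.leaf ([])) (.leaf ([])))))) (.node (.node (.node (.node (.node (.leaf ([])) (.leaf ([]))) (.leaf ([]))) (.node (.leaf ([])) (.leaf ([])))) (.node (.node (.node (.leaf ([])) (.leaf ([]))) (.leaf ([]))) (.node (.leaf ([])) (.leaf ([]))))) (.node (.node (.node (.node (.leaf ([])) (.leaf ([]))) (.leaf ([]))) (.node (.leaf ([]))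 (.leaf ([])))) (.node (.node (.node (.leaf ([])) (.leaf ([]))) (.leaf ([]))) (.node (.leaf ([])) (.leaf ([]))))))) (.node (.node (.node (.node (.node (.node (.leaf ([])) (.leaf ([]))) (.leaf ([]))) (.node (.leaf ([])) (.leaf ([])))) (.node (.node (.node (.leaf ([])) (.leaf ([]))) (.leaf ([]))) (.node (.leaf ([])) (.leaf ([]))))) (.node (.node (.node (.node (.leaf ([])) (.leaf ([]))) (.leaf ([]))) (.node (.leaf ([])) (.leaf ([])))) (.node (.node (.node (.leaf ([])) (.leaf ([]))) (.leaf ([]))) (.node (.leaf ([])) (.leaf ([])))))) (.node (.node (.node (.node (.node (.leaf ([])) (.leaf ([]))) (.leaf ([]))) (.node (.leaf ([])) (.leaf ([])))) (.node (.node (.node (.leaf ([])) (.leaf ([]))) (.leaf ([]))) (.node (.leaf ([])) (.leaf ([]))))) (.node (.node (.node (.node (.leaf ([])) (.leaf ([]))) (.leaf ([]))) (.node (.leaf ([])) (.leaf ([])))) (.node (.node (.node (.leaf ([])) (.leaf ([]))) (.leaf ([])))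 (.node (.leaf ([])) (.leaf ([]))))))))

/-- data -/
def val5 : Trie (Vec) := .node (.node (.node (.node (.node (.node (.node (.node (.leaf ([])) (.leaf ([0, 0, 0, 0, (-1), 1]))) (.leaf ([0, 0, 0, 0, 1]))) (.node (.leaf ([])) (.leaf ([0, 0, 1, (-1), 0, 0, 0, 0, (-1), 1])))) (.node (.node (.node (.leaf ([0, (-1), (-1), 0, 0, 0, 0, 0, 1])) (.leaf ([0, 0, 0, 0, 1]))) (.leaf ([1, 1, (-1), 0, 0, 0, 0, 0, 0, 0, 0, (-1), 1]))) (.node (.leaf ([0, 0, 0, (-1), (-1), 1])) (.leaf ([0, 0, 0, (-1), 0, 0, 1]))))) (.node (.node (.node (.node (.leaf ([])) (.leaf ([0, 1, 1, 0, (-1), 0, 0, 0, (-1), 0, 1]))) (.leaf ([0, 0, 0, 0, (-1), 0, 0, 1]))) (.node (.leaf ([0, 0, 0, (-1), 0, 0, 0, 0, 0, 0, 0, 0, 0, 1])) (.leaf ([0, 0, 0, 0, 1])))) (.node (.node (.node (.leaf ([])) (.leaf ([0, 0, 1, 1, (-1), 0, (-1), 1]))) (.leaf ([0, 0, 0, 1]))) (.node (.leaf ([0, 0, 0, (-1), 0, 0, 0, 0, 0, 1])) (.leaf ([(-1), (-1), 0, 1, (-1),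 0, 0, 0, 0, 0, 0, 1, 0, (-1), 1])))))) (.node (.node (.node (.node (.node (.leaf ([])) (.leaf ([0, 0, 0, (-1), 0, 0, 1]))) (.leaf ([0, 0, 0, 1]))) (.node (.leaf ([0, (-1), (-1), 0, 0, 0, 0, 0, 1])) (.leaf ([1, 0, 1, 0, (-1), 0, 0, 0, 0, 0, 0, 0, (-1), 0, 1])))) (.node (.node (.node (.leaf ([(-1), 0, 0, (-1), 0, 0, 0, 0, 0, 0, 0, 0, 0, 1])) (.leaf ([0, 0, 0, 0, (-1), 1]))) (.leaf ([]))) (.node (.leaf ([0, 0, 1])) (.leaf ([0, 1, 1, 0, (-1), 0, 0, 0, (-1), 0, 1]))))) (.node (.node (.node (.node (.leaf ([])) (.leaf ([0, (-1), 0, 1, (-1), 0, 0, 0, 0, 0, 0, 1, 0, (-1), 1]))) (.leaf ([0, 0, 0, 1, (-1), 0, 0, 0, 0, (-1), 1]))) (.node (.leaf ([])) (.leaf ([0, 0, 0, 0, (-1), 1])))) (.node (.node (.node (.leaf ([0, 0, 0, (-1), (-1), 1])) (.leaf ([0, 0, (-1), 1, (-1), 0, 0, 0, 1, (-1), 1]))) (.leaf ([0, 0, (-1), 0, (-1), 0, 0, 1]))) (.node (.leaf ([0, 1, 0, 0, (-1), 0, 0, 0, 0, 0, 0, (-1), 0, 0, 1])) (.leaf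 ([0, 0, 0, 0, 1]))))))) (.node (.node (.node (.node (.node (.node (.leaf ([])) (.leaf ([0, (-1), 1, (-1), 0, 0, 0, 0, 0, 0, 0, 1, (-1), 1]))) (.leaf ([0, 0, 1, (-1), 0, 0, 0, 0, (-1), 1]))) (.node (.leaf ([])) (.leaf ([0, 0, 0, 1])))) (.node (.node (.node (.leaf ([])) (.leaf ([0, (-1), (-1), 1, (-1), 0, 0, 0, 1, (-1), 1]))) (.leaf ([0, 0, 1]))) (.node (.leaf ([0, 1, (-1), 0, 0, 0, 0, 0, 0, 0, 0, (-1), 1])) (.leaf ([]))))) (.node (.node (.node (.node (.leaf ([(-1), (-1), 0, 0, 0, 0, 0, 0, 0, 0, 0, 1])) (.leaf ([0, 0, 0, (-1), (-1), 1]))) (.leaf ([0, 0, 0, 0, 1]))) (.node (.leaf ([0, 0, (-1), (-1), 0, 0, 1])) (.leaf ([0, 0, 0, 1, (-1), 0, 0, 0, 0, (-1), 1])))) (.node (.node (.node (.leaf ([0, (-1), 0, 0, (-1), 0, 0, 0, 0, 0, 1])) (.leaf ([0, 0, 0, 0, 1]))) (.leaf ([1, 1, 0, 0, (-1), 0, 0, 0, 0, 0, 0, (-1), 0, 0, 1]))) (.node (.leaf ([0, 0, 0, 1])) (.leaf ([0, 0, 0, 1, (-1), 0, (-1), 1])))))) (.node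 (.node (.node (.node (.node (.leaf ([])) (.leaf ([]))) (.leaf ([0, 0, 1, 0, (-1), 0, 0, 0, 0, 0, 0, 0, (-1), 0, 1]))) (.node (.leaf ([])) (.leaf ([0, 0, 0, 0, (-1), 0, 0, 1])))) (.node (.node (.node (.leaf ([0, 0, (-1), (-1), 0, 0, 1])) (.leaf ([0, 1, (-1), 1, (-1), 0, 0, 0, 0, 0, 0, (-1), 1, (-1), 1]))) (.leaf ([0, 0, 0, (-1), 0, 0, 0, 0, 0, 1]))) (.node (.leaf ([])) (.leaf ([0, 0, 0, (-1), (-1), 1]))))) (.node (.node (.node (.node (.leaf ([])) (.leaf ([0, 0, 0, 1, (-1), 0, (-1), 1]))) (.leaf ([0, 0, 0, 0, (-1), 1]))) (.node (.leaf ([0, (-1), 0, 0, (-1), 0, 0, 0, 0, 0, 1])) (.leaf ([(-1), (-1), 1, (-1), 0, 0, 0, 0, 0, 0, 0, 1, (-1), 1])))) (.node (.node (.node (.leaf ([0, (-1), 0, 0, 0, 0, 0, 0, 0, 0, 0, 1])) (.leaf ([0, 0, 0, 0, (-1), 1]))) (.leaf ([0, 0, 0, 0, 1]))) (.node (.leaf ([0, 0, (-1), 0, (-1), 0, 0, 1])) (.leaf ([0, (-1), (-1), 1, (-1), 0, 0, 0, 1, (-1), 1])))))))) (.node (.node (.node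 (.node (.node (.node (.node (.leaf ([])) (.leaf ([0, 0, 0, 0, 1]))) (.leaf ([0, 0, 1, (-1), 0, 0, 0, 0, 0, 0, 0, 0, (-1), 1]))) (.node (.leaf ([])) (.leaf ([0, 0, 0, (-1), 0, 0, 1])))) (.node (.node (.node (.leaf ([0, 0, 1])) (.leaf ([0, 0, (-1), 1, (-1), 0, 0, 0, 0, 0, 0, 0, 1, (-1), 1]))) (.leaf ([0, 0, (-1), 0, 0, 0, 0, 0, 1]))) (.node (.leaf ([0, 0, 0, 0, 1])) (.leaf ([0, 0, 0, 1]))))) (.node (.node (.node (.node (.leaf ([])) (.leaf ([0, 0, 0, 0, (-1), 0, 0, 1]))) (.leaf ([0, 0, 0, (-1), (-1), 1]))) (.node (.leaf ([0, (-1), 0, (-1), 0, 0, 0, 0, 0, 1])) (.leaf ([1, 0, 0, 1, (-1), 0, 0, 0, 0, 0, 0, 0, 0, (-1), 1])))) (.node (.node (.node (.leaf ([(-1), 0, 0, 0, (-1), 0, 0, 0, 0, 0, 0, 0, 0, 0, 1])) (.leaf ([0, 0, 0, 0, (-1), 1]))) (.leaf ([]))) (.node (.leaf ([0, 0, (-1), (-1), 0, 0, 1])) (.leaf ([0, 1, 0, 1, (-1), 0, 0, 0, 0, (-1), 1])))))) (.node (.node (.node (.node (.node (.leaf ([1])) (.leaf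 ([0, 0, 0, 1]))) (.leaf ([]))) (.node (.leaf ([0, 0, 1])) (.leaf ([0, 0, 1, 0, (-1), 0, 0, 0, (-1), 0, 1])))) (.node (.node (.node (.leaf ([0, (-1), 0, (-1), 0, 0, 0, 0, 0, 1])) (.leaf ([0, 0, 0, 0, 1]))) (.leaf ([1, 1, 0, (-1), 0, 0, 0, 0, 0, 0, 0, (-1), 0, 1]))) (.node (.leaf ([])) (.leaf ([0, 0, 0, 0, (-1), 0, 0, 1]))))) (.node (.node (.node (.node (.leaf ([])) (.leaf ([0, 1, 0, 1, (-1), 0, 0, 0, 0, (-1), 1]))) (.leaf ([0, 0, 0, 1, (-1), 0, (-1), 1]))) (.node (.leaf ([0, 0, 0, 0, (-1), 0, 0, 0, 0, 0, 0, 0, 0, 0, 1])) (.leaf ([0, 0, 0, 0, 1])))) (.node (.node (.node (.leaf ([0, 0, 0, 0, 1])) (.leaf ([0, 0, 1, 1, (-1), 0, (-1), 1]))) (.leaf ([0, 0, 0, (-1), (-1), 1]))) (.node (.leaf ([0, 0, 0, 0, (-1), 0, 0, 0, 0, 0, 1])) (.leaf ([(-1), 0, (-1), 1, (-1), 0, 0, 0, 0, 0, 0, 0, 1, (-1), 1]))))))) (.node (.node (.node (.node (.node (.node (.leaf ([])) (.leaf ([0, 1, 1, (-1), 0, 0, 0, 0, (-1), 1])))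 (.leaf ([0, 0, 0, (-1), 0, 0, 1]))) (.node (.leaf ([0, 0, (-1), 0, 0, 0, 0, 0, 0, 0, 0, 0, 1])) (.leaf ([])))) (.node (.node (.node (.leaf ([])) (.leaf ([0, 0, 1, 1, (-1), 0, (-1), 1]))) (.leaf ([]))) (.node (.leaf ([0, 0, (-1), 0, 0, 0, 0, 0, 1])) (.leaf ([(-1), (-1), 1, 0, (-1), 0, 0, 0, 0, 0, 0, 1, (-1), 0, 1]))))) (.node (.node (.node (.node (.leaf ([0, 1])) (.leaf ([0, 0, 0, 0, 1]))) (.leaf ([0, 0, 0, 1, (-1), 0, 0, 0, 0, 0, 0, 0, 0, (-1), 1]))) (.node (.leaf ([0, 0, 0, 1])) (.leaf ([0, 0, 0, 1, (-1), 0, (-1), 1])))) (.node (.node (.node (.leaf ([0, 0, (-1), 0, (-1), 0, 0, 1])) (.leaf ([1, 1, (-1), 1, (-1), 0, 0, 0, 0, 0, 0, (-1), 1, (-1), 1]))) (.leaf ([0, 0, 0, 0, (-1), 0, 0, 0, 0, 0, 1]))) (.node (.leaf ([])) (.leaf ([0, 0, 0, 0, (-1), 1])))))) (.node (.node (.node (.node (.node (.leaf ([])) (.leaf ([0, (-1), 1, 0, (-1), 0, 0, 0, 0, 0, 0, 1, (-1), 0, 1]))) (.leaf ([0, 0, 1, 0, (-1), 0, 0,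 0, (-1), 0, 1]))) (.node (.leaf ([])) (.leaf ([0, 0, 0, (-1), (-1), 1])))) (.node (.node (.node (.leaf ([0, 0, 0, 1])) (.leaf ([0, 0, (-1), 1, (-1), 0, 0, 0, 1, (-1), 1]))) (.leaf ([0, 0, (-1), (-1), 0, 0, 1]))) (.node (.leaf ([0, 1, 0, (-1), 0, 0, 0, 0, 0, 0, 0, (-1), 0, 1])) (.leaf ([0, 0, 0, 0, 1]))))) (.node (.node (.node (.node (.leaf ([(-1), 0, (-1), 0, 0, 0, 0, 0, 0, 0, 0, 0, 1])) (.leaf ([0, 0, 0, 0, (-1), 1]))) (.leaf ([0, 0, 0, 0, 1]))) (.node (.leaf ([0, 0, (-1), 0, (-1), 0, 0, 1])) (.leaf ([0, 1, 1, (-1), 0, 0, 0, 0, (-1), 1])))) (.node (.node (.node (.leaf ([0, 1])) (.leaf ([0, 0, 0, 0, 1]))) (.leaf ([1, 0, 1, (-1), 0, 0, 0, 0, 0, 0, 0, 0, (-1), 1]))) (.node (.leaf ([0, 0, 0, (-1), (-1), 1])) (.leaf ([0, 0, 1, 1, (-1), 0, (-1), 1]))))))))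

/-- data -/
def rank5 : Trie (ℕ) := .node (.node (.node (.node (.node (.node (.node (.node (.leaf 0) (.leaf 35)) (.leaf 18)) (.node (.leaf 0) (.leaf 83))) (.node (.node (.node (.leaf 74) (.leaf 28)) (.leaf 104)) (.node (.leaf 39) (.leaf 50)))) (.node (.node (.node (.node (.leaf 0) (.leaf 90)) (.leaf 56)) (.node (.leaf 106) (.leaf 22))) (.node (.node (.node (.leaf 0) (.leaf 65)) (.leaf 12)) (.node (.leaf 76) (.leaf 126))))) (.node (.node (.node (.node (.node (.leaf 0) (.leaf 52)) (.leaf 11)) (.node (.leaf 75) (.leaf 117))) (.node (.node (.node (.leaf 107) (.leaf 38)) (.leaf 0)) (.node (.leaf 6) (.leaf 87)))) (.node (.node (.node (.node (.leaf 0) (.leaf 123)) (.leaf 93)) (.node (.leaf 0) (.leaf 33))) (.node (.node (.node (.leaf 36) (.leaf 97)) (.leaf 67)) (.node (.leaf 119) (.leaf 25)))))) (.node (.node (.node (.node (.node (.node (.leaf 0) (.leaf 112)) (.leaf 82)) (.node (.leaf 0) (.leaf 13))) (.node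 (.node (.node (.leaf 0) (.leaf 99)) (.leaf 7)) (.node (.leaf 105) (.leaf 0)))) (.node (.node (.node (.node (.leaf 101) (.leaf 47)) (.leaf 19)) (.node (.leaf 53) (.leaf 96))) (.node (.node (.node (.leaf 86) (.leaf 30)) (.leaf 116)) (.node (.leaf 10) (.leaf 70))))) (.node (.node (.node (.node (.node (.leaf 0) (.leaf 0)) (.leaf 120)) (.node (.leaf 0) (.leaf 57))) (.node (.node (.node (.leaf 51) (.leaf 129)) (.leaf 77)) (.node (.leaf 0) (.leaf 46)))) (.node (.node (.node (.node (.leaf 0) (.leaf 71)) (.leaf 32)) (.node (.leaf 89) (.leaf 113))) (.node (.node (.node (.leaf 100) (.leaf 43)) (.leaf 21)) (.node (.leaf 64) (.leaf 98))))))) (.node (.node (.node (.node (.node (.node (.node (.leaf 0) (.leaf 26)) (.leaf 111)) (.node (.leaf 0) (.leaf 49))) (.node (.node (.node (.leaf 4) (.leaf 124)) (.leaf 73)) (.node (.leaf 17) (.leaf 14)))) (.node (.node (.node (.node (.leaf 0) (.leaf 61)) (.leaf 42)) (.node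 (.leaf 80) (.leaf 118))) (.node (.node (.node (.leaf 115) (.leaf 40)) (.leaf 0)) (.node (.leaf 54) (.leaf 88))))) (.node (.node (.node (.node (.node (.leaf 1) (.leaf 15)) (.leaf 0)) (.node (.leaf 5) (.leaf 95))) (.node (.node (.node (.leaf 78) (.leaf 29)) (.leaf 108)) (.node (.leaf 0) (.leaf 58)))) (.node (.node (.node (.node (.leaf 0) (.leaf 91)) (.leaf 66)) (.node (.leaf 114) (.leaf 23))) (.node (.node (.node (.leaf 16) (.leaf 68)) (.leaf 44)) (.node (.leaf 84) (.leaf 127)))))) (.node (.node (.node (.node (.node (.node (.leaf 0) (.leaf 81)) (.leaf 48)) (.node (.leaf 102) (.leaf 0))) (.node (.node (.node (.leaf 0) (.leaf 63)) (.leaf 0)) (.node (.leaf 72) (.leaf 125)))) (.node (.node (.node (.node (.leaf 2) (.leaf 27)) (.leaf 121)) (.node (.leaf 9) (.leaf 69))) (.node (.node (.node (.leaf 59) (.leaf 128)) (.leaf 85)) (.node (.leaf 0) (.leaf 34))))) (.node (.node (.node (.node (.node (.leaf 0) (.leaf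 122)) (.leaf 92)) (.node (.leaf 0) (.leaf 45))) (.node (.node (.node (.leaf 8) (.leaf 94)) (.leaf 55)) (.node (.leaf 110) (.leaf 24)))) (.node (.node (.node (.node (.leaf 103) (.leaf 37)) (.leaf 20)) (.node (.leaf 62) (.leaf 79))) (.node (.node (.node (.leaf 3) (.leaf 31)) (.leaf 109)) (.node (.leaf 41) (.leaf 60)))))))

/-- data -/
def tree5 : Trie (ℕ × ℕ) := .node (.node (.node (.node (.node (.leaf (0, 0)) (.leaf (6, 2))) (.node (.leaf (1, 3)) (.leaf (11, 4)))) (.node (.node (.leaf (0, 3)) (.leaf (7, 4))) (.node (.leaf (2, 4)) (.leaf (17, 4))))) (.node (.node (.node (.leaf (0, 1)) (.leaf (6, 4))) (.node (.leaf (2, 2)) (.leaf (16, 3)))) (.node (.node (.leaf (1, 1)) (.leaf (10, 3))) (.node (.leaf (3, 4)) (.leaf (22, 4)))))) (.node (.node (.node (.node (.leaf (0, 0)) (.leaf (6, 3))) (.node (.leaf (1, 4)) (.leaf (13, 4)))) (.node (.node (.leaf (0, 4)) (.leaf (8, 4))) (.node (.leaf (3, 3)) (.leaf (19,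 4))))) (.node (.node (.node (.leaf (0, 2)) (.leaf (7, 3))) (.node (.leaf (2, 3)) (.leaf (16, 4)))) (.node (.node (.leaf (1, 2)) (.leaf (10, 4))) (.node (.leaf (4, 4)) (.leaf (26, 4))))))

/-- data -/
def cert5 : Trie (ℕ × ℕ × ℕ) := .node (.node (.node (.node (.node (.node (.node (.node (.leaf (0, 0, 1)) (.leaf (14, 26, 2))) (.leaf (7, 11, 2))) (.node (.leaf (5, 1, 2)) (.leaf (10, 19, 2)))) (.node (.node (.leaf (4, 1, 1)) (.leaf (9, 7, 2))) (.node (.leaf (6, 1, 2)) (.leaf (13, 16, 2))))) (.node (.node (.node (.leaf (3, 1, 1)) (.leaf (8, 1, 2))) (.node (.leaf (5, 11, 2)) (.leaf (12, 6, 2)))) (.node (.node (.leaf (4, 11, 1)) (.leaf (10, 6, 2))) (.node (.leaf (7, 1, 2)) (.leaf (14, 8, 2)))))) (.node (.node (.node (.node (.leaf (2, 1, 1)) (.leaf (7, 19, 2))) (.node (.leaf (5, 6, 2)) (.leaf (11, 1, 2)))) (.node (.node (.leaf (4, 6, 1)) (.leaf (10, 1, 2))) (.node (.leaf (6, 7, 2)) (.leaf (14, 3, 2)))))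 (.node (.node (.node (.leaf (3, 7, 1)) (.leaf (9, 1, 2))) (.node (.leaf (5, 19, 2)) (.leaf (13, 3, 2)))) (.node (.node (.leaf (4, 19, 1)) (.leaf (10, 11, 2))) (.node (.leaf (7, 6, 2)) (.leaf (14, 16, 2))))))) (.node (.node (.node (.node (.node (.leaf (1, 1, 1)) (.leaf (7, 16, 2))) (.node (.leaf (5, 3, 2)) (.leaf (10, 26, 2)))) (.node (.node (.leaf (4, 3, 1)) (.leaf (9, 16, 2))) (.node (.leaf (6, 3, 2)) (.leaf (14, 1, 2))))) (.node (.node (.node (.leaf (3, 3, 1)) (.leaf (8, 6, 2))) (.node (.leaf (5, 16, 2)) (.leaf (13, 1, 2)))) (.node (.node (.leaf (4, 16, 1)) (.leaf (10, 8, 2))) (.node (.leaf (7, 3, 2)) (.leaf (14, 11, 2)))))) (.node (.node (.node (.node (.leaf (2, 6, 1)) (.leaf (7, 26, 2))) (.node (.leaf (5, 8, 2)) (.leaf (12, 1, 2)))) (.node (.node (.leaf (4, 8, 1)) (.leaf (10, 3, 2))) (.node (.leaf (6, 16, 2)) (.leaf (14, 6, 2))))) (.node (.node (.node (.leaf (3, 16, 1)) (.leaf (9, 3, 2))) (.node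 (.leaf (5, 26, 2)) (.leaf (13, 7, 2)))) (.node (.node (.leaf (4, 26, 1)) (.leaf (10, 16, 2))) (.node (.leaf (7, 8, 2)) (.leaf (14, 19, 2)))))))) (.node (.node (.node (.node (.node (.node (.leaf (1, 0, 1)) (.leaf (7, 13, 2))) (.node (.leaf (5, 2, 2)) (.leaf (10, 22, 2)))) (.node (.node (.leaf (4, 2, 1)) (.leaf (9, 10, 2))) (.node (.leaf (6, 2, 2)) (.leaf (14, 0, 2))))) (.node (.node (.node (.leaf (3, 2, 1)) (.leaf (8, 2, 2))) (.node (.leaf (5, 13, 2)) (.leaf (13, 0, 2)))) (.node (.node (.leaf (4, 13, 1)) (.leaf (10, 7, 2))) (.node (.leaf (7, 2, 2)) (.leaf (14, 10, 2)))))) (.node (.node (.node (.node (.leaf (2, 2, 1)) (.leaf (7, 22, 2))) (.node (.leaf (5, 7, 2)) (.leaf (12, 0, 2)))) (.node (.node (.leaf (4, 7, 1)) (.leaf (10, 2, 2))) (.node (.leaf (6, 10, 2)) (.leaf (14, 4, 2))))) (.node (.node (.node (.leaf (3, 10, 1)) (.leaf (9, 2, 2))) (.node (.leaf (5, 22, 2)) (.leaf (13, 6, 2)))) (.node (.node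 (.leaf (4, 22, 1)) (.leaf (10, 13, 2))) (.node (.leaf (7, 7, 2)) (.leaf (14, 17, 2))))))) (.node (.node (.node (.node (.node (.leaf (2, 0, 1)) (.leaf (7, 17, 2))) (.node (.leaf (5, 4, 2)) (.leaf (11, 0, 2)))) (.node (.node (.leaf (4, 4, 1)) (.leaf (10, 0, 2))) (.node (.leaf (6, 6, 2)) (.leaf (14, 2, 2))))) (.node (.node (.node (.leaf (3, 6, 1)) (.leaf (9, 0, 2))) (.node (.leaf (5, 17, 2)) (.leaf (13, 2, 2)))) (.node (.node (.leaf (4, 17, 1)) (.leaf (10, 10, 2))) (.node (.leaf (7, 4, 2)) (.leaf (14, 13, 2)))))) (.node (.node (.node (.node (.leaf (3, 0, 1)) (.leaf (8, 0, 2))) (.node (.leaf (5, 10, 2)) (.leaf (12, 2, 2)))) (.node (.node (.leaf (4, 10, 1)) (.leaf (10, 4, 2))) (.node (.leaf (7, 0, 2)) (.leaf (14, 7, 2))))) (.node (.node (.node (.leaf (4, 0, 1)) (.leaf (9, 6, 2))) (.node (.leaf (6, 0, 2)) (.leaf (13, 10, 2)))) (.node (.node (.leaf (5, 0, 2)) (.leaf (10, 17, 2))) (.node (.leaf (7, 10,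 2)) (.leaf (14, 22, 2))))))))

/-- data -/
def pot5 : Trie (Vec) := .node (.node (.node (.node (.node (.leaf ([])) (.leaf ([(-12), (-12)]))) (.node (.leaf ([])) (.leaf ([(-12), (-12)])))) (.node (.node (.leaf ([])) (.leaf ([]))) (.node (.leaf ([(-12), (-12)])) (.leaf ([(-12), (-12)]))))) (.node (.node (.node (.leaf ([(-12), (-12)])) (.leaf ([(-12), (-12)]))) (.node (.leaf ([(-12), (-12)])) (.leaf ([(-12), (-12)])))) (.node (.node (.leaf ([(-12), (-12)])) (.leaf ([(-12), (-12)]))) (.node (.leaf ([])) (.leaf ([(-12), (-12)])))))) (.node (.node (.node (.node (.leaf ([])) (.leaf ([(-12), (-12)]))) (.node (.leaf ([])) (.leaf ([])))) (.node (.node (.leaf ([])) (.leaf ([]))) (.node (.leaf ([])) (.leaf ([]))))) (.node (.node (.node (.leaf ([])) (.leaf ([]))) (.node (.leaf ([(-12), (-12)])) (.leaf ([(-12), (-12)])))) (.node (.node (.leaf ([])) (.leaf ([(-12), (-12)]))) (.node (.leaf ([])) (.leaf ([(-12),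 (-12)]))))))

/-- the table -/
def table5 : Table where
  size := 32
  ngen := 5
  next g x := next5.getK (5 * g + x)
  prev g x := prev5.getK (5 * g + x)
  lab g x := lab5.getK (5 * g + x)
  val g x := val5.getK (5 * g + x)
  rank g x := rank5.getK (5 * g + x)
  tree g := tree5.getK g
  cert j := cert5.getK j
  nded := 129
  rels := [⟨[(0, true), (0, true)], [], [1]⟩,
    ⟨[(1, true), (1, true)], [], [0, 1]⟩,
    ⟨[(2, true), (2, true)], [], [0, 0, 1]⟩,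
    ⟨[(3, true), (3, true)], [], [0, 0, 0, 1]⟩,
    ⟨[(4, true), (4, true)], [], [0, 0, 0, 0, 1]⟩,
    ⟨[(3, true), (4, true), (3, true), (4, true)], [], [0, 0, 0, 0, 0, 1]⟩,
    ⟨[(2, true), (3, true), (2, true), (3, true)], [], [0, 0, 0, 0, 0, 0, 1]⟩,
    ⟨[(2, true), (4, true), (2, true), (4, true)], [], [0, 0, 0, 0, 0, 0, 0, 1]⟩,
    ⟨[(1, true), (2, true), (1, true), (2, true)], [], [0, 0, 0, 0, 0, 0, 0, 0, 1]⟩,
    ⟨[(1, true), (3, true), (1, true), (3, true)], [], [0, 0, 0, 0, 0, 0, 0, 0, 0, 1]⟩,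
    ⟨[(1, true), (4, true), (1, true), (4, true)], [], [0, 0, 0, 0, 0, 0, 0, 0, 0, 0, 1]⟩,
    ⟨[(0, true), (1, true), (0, true), (1, true)], [], [0, 0, 0, 0, 0, 0, 0, 0, 0, 0, 0, 1]⟩,
    ⟨[(0, true), (2, true), (0, true), (2, true)], [], [0, 0, 0, 0, 0, 0, 0, 0, 0, 0, 0, 0, 1]⟩,
    ⟨[(0, true), (3, true), (0, true), (3, true)], [], [0, 0, 0, 0, 0, 0, 0, 0, 0, 0, 0, 0, 0, 1]⟩,
    ⟨[(0, true), (4, true), (0, true), (4, true)], [], [0, 0, 0, 0, 0, 0, 0, 0, 0, 0, 0, 0, 0, 0, 1]⟩]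
  pot g := pot5.getK g
  innerSize := 1
  innerGen := 0

/-- the table with its checks -/
def level5 : CfsgLib.Sporadic.ChainLevel where
  table := table5
  gexp := [[0, 0], [(-12), (-12)], [0, 0], [0, 0], [0, 0]]
  perm := [0x15c56154540c0310c85013c4e0d84c12c4a1243b0f0460f83f10c4210440110450f4471203a0e4380dc4d0d4340cc51148530bc2e0b42c0ac2a0a428010050182408c220282007c1e0740f0401a0481305c1605414060190441b0700e0340c02c210240801c250982700c0200400, 0x15c56154540c0521443313c4e0d83712c4a1243b11c3d0f84410042104430fc451183c1203a0e4381304d0d434140320c4530bc2e0b42c0ac2a0a428010260940708c220280b07c1e0740f06c1104818050160541704c19068100700e0340c0802102408090060142700c0200400, 0x15c56154540c0311443313c35134370e0390e83b11c3d1143f10042104431103e1183c120491284b130361383414032148530bc2e0b42c0ac2a0a428010050940708c090840b0300d0380f06c1106413050160541706012068100701d0781f0800a08808090060982700c0200400, 0x15c561545414c520c83313c4e0d84c0e039124480f0461143f10c41108401103e0f4470ec3a1284b0dc4d0d434140510c4300bc2e0b42c0ac2a0a42809c260180708c22028200300d0741c0401a0641305c1505814060120441b03c0e0781f02c2102408090250140400c0200400,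 0x15c561545414c310c85013c4e1344c0e04a0e83b11c3d1143f10c41108401103e1183c120490e44b0dc360d4340cc51148300bc2e0b42c0ac2a0a42809c050182408c22084200301e0380f06c110641305c150581406012068100701d0341f02c0a0240801c250980400c0200400]
  pinv := [0x15c56154540c0310c85013c4e0d84c12c4a1243b0f0460f83f10c4210440110450f4471203a0e4380dc4d0d4340cc51148530bc2e0b42c0ac2a0a428010050182408c220282007c1e0740f0401a0481305c1605414060190441b0700e0340c02c210240801c250982700c0200400, 0x15c56154540c0521443313c4e0d83712c4a1243b11c3d0f84410042104430fc451183c1203a0e4381304d0d434140320c4530bc2e0b42c0ac2a0a428010260940708c220280b07c1e0740f06c1104818050160541704c19068100700e0340c0802102408090060142700c0200400, 0x15c56154540c0311443313c35134370e0390e83b11c3d1143f10042104431103e1183c120491284b130361383414032148530bc2e0b42c0ac2a0a428010050940708c090840b0300d0380f06c1106413050160541706012068100701d0781f0800a08808090060982700c0200400, 0x15c561545414c520c83313c4e0d84c0e039124480f0461143f10c41108401103e0f4470ec3a1284b0dc4d0d434140510c4300bc2e0b42c0ac2a0a42809c260180708c22028200300d0741c0401a0641305c1505814060120441b03c0e0781f02c2102408090250140400c0200400,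 0x15c561545414c310c85013c4e1344c0e04a0e83b11c3d1143f10c41108401103e1183c120490e44b0dc360d4340cc51148300bc2e0b42c0ac2a0a42809c050182408c22084200301e0380f06c110641305c150581406012068100701d0341f02c0a0240801c250980400c0200400]
  defs := []
  eqs := [(0, 3, [(-2), 0, (-2), 0, 0, 0, 0, 0, 0, 0, 0, 0, 2]), (0, 4, [(-2), 0, 0, (-2), 0, 0, 0, 0, 0, 0, 0, 0, 0, 2]), (0, 5, [(-2), 0, 0, 0, (-2), 0, 0, 0, 0, 0, 0, 0, 0, 0, 2]), (1, 3, [0, (-2), (-2), 0, 0, 0, 0, 0, 2]), (1, 5, [0, (-2), 0, 0, (-2), 0, 0, 0, 0, 0, 2]), (2, 4, [0, 0, (-2), (-2), 0, 0, 2]), (3, 5, [0, 0, 0, (-2), (-2), 2])]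
  pts := [4, 5, 6, 9, 7]

end CfsgLib.Sporadic.MultTwoMono
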